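import Cfsg.Agent.H556.HallSURow_m3
import Cfsg.Agent.H553.OddHall_m3
import Cfsg.Agent.H556.SmallAb
import Cfsg.Agent.H170.HL.OmRows_m3
import Cfsg.Agent.S2536
import Mathlib
import Cfsg.Agent.H167.RV.Hall_m3
import Cfsg.Prelude.Def_LieTypeChar
import Cfsg.Agent.Lib.LocalCore
import Cfsg.Agent.KFacts.RgdLieCharP
import Cfsg.Agent.H400.LieLocal
import Cfsg.Agent.H979.LieSplit
import Cfsg.Agent.FastGrp
import Cfsg.Agent.Prune
set_option linter.all false

section
prune_inst 0x7f00000000000000000000000000000000000000000000000000000000000000000000000000000000000000000000000000000000000000000000000000000000000000000000000000000000000000003fffffffffffffffffffffffffffbeffbdffffffff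

section
prune_inst 0xfffef9bfbebddfffff7e7fffdcdffdbfb4bffff6dff9cbffe0ebfffbbf6b92cbe5fbad8fe8f8fe5ff7e23410f87b43f9ffefffeb6bdd7ffffd5ff45ffbff9ffdf7bd0951d6883e1fbc2ff783f077ce7f000000000000000000000000000000004200000000

-- part: H553/RV/LinDat
section
set_option linter.all false

/-!
# TEAM RV, R2 (`2, p ∉ π`) for linear and unitary groups: the data (helper553)
-/

set_option autoImplicit false

namespace Cfsg.Agent.H553.RV

open Module Cfsg.Agent.H167.OP Cfsg.Agent.H170.HL Cfsg.Agent.H556.HallRowAbs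

variable {F : Type*} [Field F] {V : Type*} [AddCommGroup V] [Module F V] {Y : Type*} [Group Y]

/-- The elements `z` with `z ^ t = 1` whose support `[V, z]` has dimension `e t`. -/
def IsZ (ρ : Representation F Y V) (e : ℕ → ℕ) (t : ℕ) (z : Y) : Prop := z ^ t = 1 ∧ rk ρ z = e t

/-- Data of `GL_n(q)`, `GU_n(q)` (`= Y`), `X` the special subgroup, `e t` the order of `q`, `-q` modulo `t`. -/
structure LinDat [Finite Y] (ρ : Representation F Y V) (e : ℕ → ℕ) (X : Subgroup Y) : Prop where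
  row : RowDat ρ e
  /-- restriction of a commuting element to `[V, z]` -/
  rc : ∀ (k : ℕ) (z x : Y), (k : F) ≠ 0 → z ^ k = 1 → z * x = x * z →
    ∃ x' : Y, (∀ v ∈ LinearMap.range (ρ z - 1), ρ x' v = ρ x v) ∧ ∀ v, ρ z v = v → ρ x' v = v
  /-- frames -/
  fr : ∀ t : ℕ, t.Prime → Odd t → (t : F) ≠ 0 → t ∣ Nat.card Y → ∃ (m : ℕ) (z : Fin m → Y),
    (∀ i, IsZ ρ e t (z i)) ∧ (∀ i j, z i * z j = z j * z i) ∧
    (∀ i j, i ≠ j → ∀ v, ρ (z i) (ρ (z j) v - v) = ρ (z j) v - v) ∧
    (∀ U : Submodule F V, (∀ i, ∀ v ∈ U, ρ (z i) v = v) → finrank F U < e t) ∧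
    ∀ σ : Equiv.Perm (Fin m), ∃ y : Y, ∀ i, y * z i * y⁻¹ = z (σ i)
  /-- the special commuting pair -/
  de : ∀ u v : ℕ, u.Prime → v.Prime → u ≠ v → Odd u → Odd v → (u : F) ≠ 0 → (v : F) ≠ 0 → e u = u - 1 → e v = 1 →
    u ≤ finrank F V → ∃ z ∈ X, ∃ b ∈ X, IsZ ρ e u z ∧ b ^ v = 1 ∧ z * b = b * z ∧
      ∃ c : F, (∀ w ∈ LinearMap.range (ρ z - 1), ρ b w = c • w) ∧
        ∀ w, ρ b w = c • w → w ∈ LinearMap.range (ρ z - 1)

end Cfsg.Agent.H553.RV
end

-- part: H553/RV/LinD
section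
set_option linter.all false
open scoped Cfsg.Agent.FastGrp

-- part: H553/RV/LinA
section
/-!
# TEAM RV, R2 linear/unitary: supports of elements (helper553)
-/

set_option autoImplicit false

namespace Cfsg.Agent.H553.RV

open Module Cfsg.Agent.H167.OP Cfsg.Agent.H170.HL Cfsg.Agent.H556.HallRowAbs Cfsg.Agent.H556.HallLB

variable {F : Type*} [Field F] {V : Type*} [AddCommGroup V] [Module F V] {Y : Type*} [Group Y]
  {ρ : Representation F Y V}

/-- the support `[V, y]` -/
noncomputable def Rg (ρ : Representation F Y V) (y : Y) : Submodule F V := LinearMap.range (ρ y - 1)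

theorem finrank_Rg (y : Y) : finrank F (Rg ρ y) = rk ρ y := rfl

theorem sub_mem_Rg (y : Y) (v : V) : ρ y v - v ∈ Rg ρ y := ⟨v, rfl⟩

theorem mem_Rg {y : Y} {w : V} : w ∈ Rg ρ y ↔ ∃ v, ρ y v - v = w := Iff.rfl

theorem pow_one_map {y : Y} {k : ℕ} (hy : y ^ k = 1) : (ρ y) ^ k = 1 := by rw [← map_pow, hy, map_one]

theorem eq_zero_of_fix {y : Y} {k : ℕ} (hk : (k : F) ≠ 0) (hy : y ^ k = 1) {w : V} (hw : w ∈ Rg ρ y)
    (hf : ρ y w = w) : w = 0 := eq_zero_of_fixed (pow_one_map hy) hk hw hf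

theorem map_Rg {y : Y} {w : V} (hw : w ∈ Rg ρ y) : ρ y w ∈ Rg ρ y := map_range hw

/-- the decomposition `V = [V, y] ⊕ C_V(y)` -/
theorem exists_decomp {y : Y} {k : ℕ} (hk : (k : F) ≠ 0) (hy : y ^ k = 1) (v : V) :
    ∃ a ∈ Rg ρ y, ∃ b, ρ y b = b ∧ v = a + b := by
  have hsum : ∀ n : ℕ, ρ (y ^ n) v - v ∈ Rg ρ y := by
    intro n
    induction n with
    | zero => rw [pow_zero, one_ap, sub_self]; exact Submodule.zero_mem _
    | succ n ih =>
      have h1 : ρ (y ^ (n + 1)) v - v = (ρ y (ρ (y ^ n) v) - ρ (y ^ n) v) + (ρ (y ^ n) v - v) := by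
        rw [pow_succ', mul_ap]; abel
      rw [h1]
      exact Submodule.add_mem _ (sub_mem_Rg _ _) ih
  set s : V := ∑ i ∈ Finset.range k, ρ (y ^ i) v with hs
  have h1 : ρ y s = s := by
    rw [hs, map_sum]
    have h2 : ∀ i ∈ Finset.range k, ρ y (ρ (y ^ i) v) = ρ (y ^ (i + 1)) v := fun i _ => by rw [pow_succ', mul_ap]
    rw [Finset.sum_congr rfl h2]
    have h3 := Finset.sum_range_succ (fun i => ρ (y ^ i) v) k
    have h4 := Finset.sum_range_succ' (fun i => ρ (y ^ i) v) k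
    rw [h3, hy, pow_zero] at h4
    exact (add_right_cancel h4).symm
  have h2 : (k : F) • v - s ∈ Rg ρ y := by
    have h3 : (k : F) • v - s = -∑ i ∈ Finset.range k, (ρ (y ^ i) v - v) := by
      rw [Finset.sum_sub_distrib, Finset.sum_const, Finset.card_range, ← hs, Nat.cast_smul_eq_nsmul]
      abel
    rw [h3]
    exact Submodule.neg_mem _ (Submodule.sum_mem _ fun i _ => hsum i)
  refine ⟨(k : F)⁻¹ • ((k : F) • v - s), Submodule.smul_mem _ _ h2, (k : F)⁻¹ • s, ?_, ?_⟩
  · rw [map_smul, h1]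
  · rw [← smul_add, sub_add_cancel, smul_smul, inv_mul_cancel₀ hk, one_smul]

theorem comm_fix {x y : Y} (h : y * x = x * y) {v : V} (hv : ρ y v = v) : ρ y (ρ x v) = ρ x v := by
  rw [← mul_ap, h, mul_ap, hv]

theorem comm_Rg {x y : Y} (h : y * x = x * y) {v : V} (hv : v ∈ Rg ρ y) : ρ x v ∈ Rg ρ y := by
  obtain ⟨w, rfl⟩ := mem_Rg.mp hv
  rw [map_sub, ← mul_ap, ← h, mul_ap]
  exact sub_mem_Rg _ _

theorem Rg_conj (g y : Y) : Rg ρ (g * y * g⁻¹) = (Rg ρ y).map (ρ g) := by
  ext w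
  constructor
  · intro hw
    obtain ⟨v, rfl⟩ := mem_Rg.mp hw
    refine ⟨ρ y (ρ g⁻¹ v) - ρ g⁻¹ v, sub_mem_Rg _ _, ?_⟩
    rw [map_sub, ap_inv, mul_ap, mul_ap]
  · rintro ⟨w, hw, rfl⟩
    obtain ⟨v, rfl⟩ := mem_Rg.mp hw
    refine mem_Rg.mpr ⟨ρ g v, ?_⟩
    rw [mul_ap, mul_ap, inv_ap, map_sub]

theorem rk_conj [FiniteDimensional F V] (g y : Y) : rk ρ (g * y * g⁻¹) = rk ρ y := by
  rw [← finrank_Rg, Rg_conj, ← finrank_Rg]
  refine (LinearEquiv.finrank_eq ((Rg ρ y).equivMapOfInjective (ρ g) ?_)).symm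
  intro v w h
  have := congrArg (ρ g⁻¹) h
  rwa [inv_ap, inv_ap] at this

theorem IsZ.conj [FiniteDimensional F V] {e : ℕ → ℕ} {t : ℕ} {z : Y} (h : IsZ ρ e t z) (g : Y) :
    IsZ ρ e t (g * z * g⁻¹) :=
  ⟨by rw [conj_pow, h.1, mul_one, mul_inv_cancel], by rw [rk_conj, h.2]⟩

theorem eq_one_of_Rg (hinj : Function.Injective ρ) {y : Y} (h : Rg ρ y = ⊥) : y = 1 := by
  apply hinj
  rw [map_one]
  ext v
  have h1 : ρ y v - v ∈ Rg ρ y := sub_mem_Rg y v
  rw [h, Submodule.mem_bot, sub_eq_zero] at h1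
  exact h1

/-- the lower bound -/
theorem le_rk_of_ne [FiniteDimensional F V] [Finite Y] {e : ℕ → ℕ} (h : RowDat ρ e) {t : ℕ} (ht : t.Prime)
    (hodd : Odd t) (htF : (t : F) ≠ 0) {y : Y} (hy : y ^ t = 1) (hy1 : y ≠ 1) : e t ≤ rk ρ y := by
  have hcard : (Nat.card (Subgroup.zpowers y) : F) ≠ 0 := by
    have h1 : Nat.card (Subgroup.zpowers y) = t := by
      have := Fact.mk ht
      rw [Nat.card_zpowers, orderOf_eq_prime hy hy1]
    rw [h1]; exact htF
  have hab : ∀ a ∈ Subgroup.zpowers y, ∀ b ∈ Subgroup.zpowers y, a * b = b * a := by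
    rintro _ ⟨i, rfl⟩ _ ⟨j, rfl⟩
    show y ^ i * y ^ j = y ^ j * y ^ i
    rw [← zpow_add, ← zpow_add, add_comm]
  have hexp : ∀ a ∈ Subgroup.zpowers y, a ^ t = 1 := by
    rintro _ ⟨i, rfl⟩
    show (y ^ i) ^ t = 1
    rw [← zpow_natCast, ← zpow_mul, mul_comm, zpow_mul, zpow_natCast, hy, one_zpow]
  have hV : VE ρ ⊥ (Subgroup.zpowers y) ≠ ⊥ := by
    intro hbot
    apply hy1
    apply eq_one_of_Rg h.inj
    rw [eq_bot_iff]
    rintro w hw
    rw [Submodule.mem_bot]
    obtain ⟨v, rfl⟩ := mem_Rg.mp hw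
    have h1 : ρ y v - v ∈ VE ρ ⊥ (Subgroup.zpowers y) := by
      refine ⟨fun e he => ?_, ?_⟩
      · rw [Subgroup.mem_bot] at he
        rw [he, one_ap]
      · rw [map_sub, avg_map ρ _ (Subgroup.mem_zpowers y), sub_self]
    rw [hbot, Submodule.mem_bot] at h1
    exact h1
  have h1 := h.lb t ht hodd htF _ _ bot_le hab hexp hV
  refine h1.trans ((Submodule.finrank_mono (VE_le_CV ρ hcard)).trans (Submodule.finrank_mono ?_))
  have h2 : Subgroup.zpowers y = Subgroup.closure {y} := Subgroup.zpowers_eq_closure y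
  rw [h2]
  refine CV_closure_le ?_
  intro s hs
  rw [Set.mem_singleton_iff] at hs
  rw [hs]

/-- **dichotomy**: `x` commutes with `z` of minimal support: `x` is trivial or fixed point free on `[V, z]` -/
theorem dicho [FiniteDimensional F V] [Finite Y] {e : ℕ → ℕ} {X : Subgroup Y} (D : LinDat ρ e X) {t : ℕ}
    (ht : t.Prime) (hodd : Odd t) (htF : (t : F) ≠ 0) {z x : Y} (hz : IsZ ρ e t z) (hzx : z * x = x * z) {k : ℕ}
    (hk : (k : F) ≠ 0) (hx : x ^ k = 1) :
    (∀ w ∈ Rg ρ z, ρ x w = w) ∨ (∀ w ∈ Rg ρ z, ρ x w = w → w = 0) := by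
  obtain ⟨z', h1, h2⟩ := D.rc k x z hk hx hzx.symm
  -- `z'' = z'⁻¹ z` is trivial on `[V, x]` and `z` on `C_V(x)`
  have h3 : ∀ v ∈ Rg ρ x, ρ (z'⁻¹ * z) v = v := by
    intro v hv
    rw [mul_ap, ← h1 v hv, inv_ap]
  have h4 : ∀ v, ρ x v = v → ρ (z'⁻¹ * z) v = ρ z v := by
    intro v hv
    rw [mul_ap]
    have h5 : ρ z' (ρ z v) = ρ z v := h2 _ (comm_fix hzx.symm hv)
    conv_lhs => rw [← h5]
    rw [inv_ap]
  have h5 : (z'⁻¹ * z) ^ t = 1 := by
    apply D.row.inj
    rw [map_one]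
    ext v
    obtain ⟨a, ha, b, hb, rfl⟩ := exists_decomp hk hx v
    have h6 : ∀ i : ℕ, ρ ((z'⁻¹ * z) ^ i) a = a := by
      intro i
      induction i with
      | zero => rw [pow_zero, one_ap]
      | succ i ih => rw [pow_succ', mul_ap, ih, h3 a ha]
    have h7 : ∀ i : ℕ, ρ ((z'⁻¹ * z) ^ i) b = ρ (z ^ i) b := by
      intro i
      induction i with
      | zero => rw [pow_zero, pow_zero]
      | succ i ih =>
        rw [pow_succ', mul_ap, ih, h4, pow_succ', mul_ap]
        have h8 : ∀ j : ℕ, ρ x (ρ (z ^ j) b) = ρ (z ^ j) b := by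
          intro j
          induction j with
          | zero => rw [pow_zero, one_ap, hb]
          | succ j ihj => rw [pow_succ', mul_ap]; exact comm_fix hzx.symm ihj
        exact h8 i
    rw [map_add, h6, h7, hz.1, one_ap]
    rfl
  by_cases h6 : z'⁻¹ * z = 1
  · right
    intro w hw hxw
    have h7 := h4 w hxw
    rw [h6, one_ap] at h7
    exact eq_zero_of_fix htF hz.1 hw h7.symm
  · left
    have h7 := le_rk_of_ne D.row ht hodd htF h5 h6
    have h8 : Rg ρ (z'⁻¹ * z) ≤ Rg ρ z ⊓ LinearMap.ker (ρ x - 1) := by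
      intro w hw
      obtain ⟨v, rfl⟩ := mem_Rg.mp hw
      obtain ⟨a, ha, b, hb, rfl⟩ := exists_decomp hk hx v
      have h9 : ρ (z'⁻¹ * z) (a + b) - (a + b) = ρ z b - b := by
        rw [map_add, h3 a ha, h4 b hb]; abel
      rw [h9]
      refine ⟨sub_mem_Rg _ _, LinearMap.mem_ker.mpr ?_⟩
      rw [LinearMap.sub_apply, Module.End.one_apply, sub_eq_zero, map_sub, hb, comm_fix hzx.symm hb]
    have h9 : Rg ρ z ⊓ LinearMap.ker (ρ x - 1) = Rg ρ z := by
      apply Submodule.eq_of_le_of_finrank_le inf_le_left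
      rw [finrank_Rg, hz.2]
      exact h7.trans (Submodule.finrank_mono h8)
    intro w hw
    rw [← h9] at hw
    have := LinearMap.mem_ker.mp hw.2
    rwa [LinearMap.sub_apply, Module.End.one_apply, sub_eq_zero] at this

/-- fixed point free elements on a subspace contain it in their support -/
theorem le_Rg_of_free [FiniteDimensional F V] {x : Y} {W : Submodule F V} (hinv : ∀ w ∈ W, ρ x w ∈ W)
    (hfree : ∀ w ∈ W, ρ x w = w → w = 0) : W ≤ Rg ρ x := by
  let A : W →ₗ[F] W := (ρ x - 1).restrict (fun w hw => by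
    rw [LinearMap.sub_apply, Module.End.one_apply]
    exact W.sub_mem (hinv w hw) hw)
  have hA : Function.Injective A := by
    rw [← LinearMap.ker_eq_bot, LinearMap.ker_eq_bot']
    intro w hw
    apply Subtype.ext
    apply hfree w w.2
    have := congrArg Subtype.val hw
    have h2 : ρ x (w : V) - w = 0 := this
    exact sub_eq_zero.mp h2
  have hA' := LinearMap.injective_iff_surjective.mp hA
  intro w hw
  obtain ⟨v, hv⟩ := hA' ⟨w, hw⟩
  exact mem_Rg.mpr ⟨v, congrArg Subtype.val hv⟩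

end Cfsg.Agent.H553.RV
end

-- part: H553/RV/LinFr
section
/-!
# TEAM RV, R2 linear/unitary: the dimension formula for a Frobenius action (helper553)
-/

set_option autoImplicit false

namespace Cfsg.Agent.H553.RV

open Module Cfsg.Agent.H167.OP Cfsg.Agent.H556.HallLB

universe w

theorem pow_eq_of_modEq {M : Type*} [Monoid M] {x : M} {v a b : ℕ} (hx : x ^ v = 1) (h : a ≡ b [MOD v]) :
    x ^ a = x ^ b := by
  have h1 : a % v = b % v := h
  rw [← Nat.div_add_mod a v, ← Nat.div_add_mod b v, pow_add, pow_mul, hx, one_pow, one_mul, pow_add, pow_mul, hx,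
    one_pow, one_mul, h1]

theorem modEq_of_pow_eq {K : Type*} [Field K] {x : K} {v a b : ℕ} (hv : 0 < v) (hx : orderOf x = v)
    (h : x ^ a = x ^ b) : a ≡ b [MOD v] := by
  have h0 : x ^ v = 1 := by rw [← hx]; exact pow_orderOf_eq_one x
  have h1 : x ^ (a % v) = x ^ (b % v) := by
    rw [pow_eq_of_modEq h0 (Nat.mod_modEq a v), pow_eq_of_modEq h0 (Nat.mod_modEq b v), h]
  have h2 : IsPrimitiveRoot x v := by rw [← hx]; exact IsPrimitiveRoot.orderOf x
  exact h2.pow_inj (Nat.mod_lt a hv) (Nat.mod_lt b hv) h1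

section closed

variable {K : Type*} [Field K] {U : Type w} [AddCommGroup U] [Module K U]

theorem mul_pow_pow {A Z : Module.End K U} {j : ℕ} (h : Z * A = A ^ j * Z) (m : ℕ) : Z * A ^ m = A ^ (j * m) * Z := by
  induction m with
  | zero => simp
  | succ m ih => rw [pow_succ, ← mul_assoc, ih, mul_assoc, h, ← mul_assoc, ← pow_add]; rfl

theorem pow_mul_pow {A Z : Module.End K U} {j : ℕ} (h : Z * A = A ^ j * Z) (i : ℕ) : Z ^ i * A = A ^ (j ^ i) * Z ^ i := by
  induction i with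
  | zero => simp
  | succ i ih =>
    rw [pow_succ', mul_assoc, ih, ← mul_assoc, mul_pow_pow h, mul_assoc, ← pow_succ' j i]

theorem finrank_map_add [FiniteDimensional K U] {U' : Type*} [AddCommGroup U'] [Module K U'] (f : U →ₗ[K] U')
    (R : Submodule K U) : finrank K (R.map f) + finrank K (R ⊓ LinearMap.ker f : Submodule K U) = finrank K R := by
  have h1 := LinearMap.finrank_range_add_finrank_ker (f.domRestrict R)
  have h2 : LinearMap.range (f.domRestrict R) = R.map f := by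
    rw [LinearMap.domRestrict, LinearMap.range_comp, Submodule.range_subtype]
  have h3 : finrank K (LinearMap.ker (f.domRestrict R)) = finrank K (R ⊓ LinearMap.ker f : Submodule K U) := by
    have h4 : LinearMap.ker (f.domRestrict R) = (R ⊓ LinearMap.ker f).submoduleOf R := by
      ext x
      simp [Submodule.submoduleOf, LinearMap.mem_ker]
    rw [h4]
    exact LinearEquiv.finrank_eq (Submodule.submoduleOfEquivOfLe inf_le_left)
  rw [h2, h3] at h1
  exact h1

theorem frK [IsAlgClosed K] {u v j : ℕ} (hu : u.Prime) (hv : v.Prime) (hvK : (v : K) ≠ 0)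
    (hj : ∀ i, 0 < i → i < u → ¬ j ^ i ≡ 1 [MOD v]) (hju : j ^ u ≡ 1 [MOD v]) (n : ℕ) :
    ∀ (U : Type w) [AddCommGroup U] [Module K U] [FiniteDimensional K U] (A Z : Module.End K U),
      finrank K U = n → A ^ v = 1 → Z ^ u = 1 → Z * A = A ^ j * Z →
      u ∣ finrank K (LinearMap.range (A - 1)) ∧
        (u - 1) * finrank K (LinearMap.range (A - 1)) ≤ u * finrank K (LinearMap.range (Z - 1)) := by
  induction n using Nat.strong_induction_on with
  | _ n ih =>
    intro U _ _ _ A Z hn hA hZ hZA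
    by_cases hA1 : A = 1
    · rw [hA1, sub_self, LinearMap.range_zero, finrank_bot, mul_zero]
      exact ⟨dvd_zero _, Nat.zero_le _⟩
    set R := LinearMap.range (A - 1) with hR
    have hR1 : R ≠ ⊥ := by
      intro h
      rw [hR, LinearMap.range_eq_bot, sub_eq_zero] at h
      exact hA1 h
    -- an eigenvector
    have hnt : Nontrivial R := by
      rwa [Submodule.nontrivial_iff_ne_bot]
    let B : Module.End K R := A.restrict fun w hw => map_range hw
    obtain ⟨ζ, hζ⟩ := Module.End.exists_eigenvalue B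
    obtain ⟨w, hw⟩ := hζ.exists_hasEigenvector
    have hwA : A (w : U) = ζ • (w : U) := congrArg Subtype.val hw.apply_eq_smul
    have hw0 : (w : U) ≠ 0 := fun h => hw.2 (Subtype.ext h)
    have hAi : ∀ i : ℕ, (A ^ i) (w : U) = ζ ^ i • (w : U) := by
      intro i
      induction i with
      | zero => simp
      | succ i ih => rw [pow_succ', Module.End.mul_apply, ih, map_smul, hwA, smul_smul, pow_succ]
    have hζv : ζ ^ v = 1 := by
      have h1 := hAi v
      rw [hA, Module.End.one_apply] at h1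
      by_contra h
      apply hw0
      have h2 : (ζ ^ v - 1) • (w : U) = 0 := by rw [sub_smul, ← h1, one_smul, sub_self]
      exact (smul_eq_zero.mp h2).resolve_left (sub_ne_zero.mpr h)
    have hζ1 : ζ ≠ 1 := by
      intro h
      apply hw0
      exact eq_zero_of_fixed hA hvK w.2 (by rw [hwA, h, one_smul])
    have hord : orderOf ζ = v := by
      have := Fact.mk hv
      exact orderOf_eq_prime hζv hζ1
    -- the orbit
    let x : ℕ → U := fun i => (Z ^ i) (w : U)
    let μ : ℕ → K := fun i => ζ ^ (j ^ (u - i))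
    have hAu : A ^ (j ^ u) = A := by
      have h1 : A ^ (j ^ u) = A ^ 1 := by
        exact pow_eq_of_modEq hA hju
      rw [h1, pow_one]
    have hx : ∀ i ≤ u, A (x i) = μ i • x i := by
      intro i hi
      have h1 : (A ^ (j ^ i)) (x i) = ζ • x i := by
        show (A ^ (j ^ i)) ((Z ^ i) (w : U)) = ζ • (Z ^ i) (w : U)
        rw [← Module.End.mul_apply, ← pow_mul_pow hZA i, Module.End.mul_apply, hwA, map_smul]
      have h2 : ∀ k : ℕ, ((A ^ (j ^ i)) ^ k) (x i) = ζ ^ k • x i := by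
        intro k
        induction k with
        | zero => simp
        | succ k ih => rw [pow_succ', Module.End.mul_apply, ih, map_smul, h1, smul_smul, pow_succ]
      have h3 := h2 (j ^ (u - i))
      rw [← pow_mul, ← pow_add, Nat.add_sub_cancel' hi, hAu] at h3
      exact h3
    have hxne : ∀ i, x i ≠ 0 := by
      intro i h
      apply hw0
      have h1 : (Z ^ (u * i)) (w : U) = (w : U) := by rw [pow_mul, hZ, one_pow, Module.End.one_apply]
      have h2 : i ≤ u * i := Nat.le_mul_of_pos_left i hu.pos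
      rw [← h1, show u * i = (u * i - i) + i by omega, pow_add, Module.End.mul_apply]
      have h3 : (Z ^ i) (w : U) = 0 := h
      rw [h3, map_zero]
    have hμ1 : ∀ i ≤ u, μ i ≠ 1 := by
      intro i hi h
      have h1 : (v : ℕ) ∣ j ^ (u - i) := by rw [← hord]; exact orderOf_dvd_of_pow_eq_one h
      have h2 : v ∣ j ^ u := h1.trans (pow_dvd_pow j (Nat.sub_le u i))
      have h3 : j ^ u ≡ 0 [MOD v] := Nat.modEq_zero_iff_dvd.mpr h2
      have h4 := (Nat.modEq_zero_iff_dvd.mp (hju.symm.trans h3))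
      exact hv.one_lt.ne' (Nat.dvd_one.mp h4)
    have hcop : Nat.Coprime v j := by
      rw [hv.coprime_iff_not_dvd]
      intro h
      have h3 : j ^ u ≡ 0 [MOD v] := Nat.modEq_zero_iff_dvd.mpr (dvd_pow h hu.ne_zero)
      have h4 := (Nat.modEq_zero_iff_dvd.mp (hju.symm.trans h3))
      exact hv.one_lt.ne' (Nat.dvd_one.mp h4)
    have key : ∀ a b : ℕ, a < b → b < u → μ a ≠ μ b := by
      intro a b hab hb h
      have h1 : j ^ (u - a) ≡ j ^ (u - b) [MOD v] := by
        exact modEq_of_pow_eq hv.pos hord h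
      have h2 : u - a = (b - a) + (u - b) := by omega
      have h3 : j ^ (b - a) * j ^ (u - b) ≡ 1 * j ^ (u - b) [MOD v] := by rw [← pow_add, ← h2, one_mul]; exact h1
      exact hj (b - a) (by omega) (by omega)
        (Nat.ModEq.cancel_right_of_coprime (by rw [Nat.coprime_iff_gcd_eq_one.symm]; exact Nat.Coprime.pow_right _ hcop) h3)
    have hli : LinearIndependent K (fun i : Fin u => x i) := by
      refine Module.End.eigenvectors_linearIndependent' A (fun i : Fin u => μ i) ?_ _ (fun i => ?_)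
      · intro a b hab
        apply Fin.ext
        rcases lt_trichotomy (a : ℕ) b with h | h | h
        · exact absurd hab (key a b h b.2)
        · exact h
        · exact absurd hab.symm (key b a h a.2)
      · rw [Module.End.hasEigenvector_iff, Module.End.mem_eigenspace_iff]
        exact ⟨hx i i.2.le, hxne i⟩
    set U₁ : Submodule K U := Submodule.span K (Set.range fun i : Fin u => x i) with hU₁
    have hU₁u : finrank K U₁ = u := by
      rw [hU₁, finrank_span_eq_card hli, Fintype.card_fin]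
    have hxU : ∀ i, x i ∈ U₁ := by
      intro i
      have h1 : x i = x (i % u) := by
        show (Z ^ i) (w : U) = (Z ^ (i % u)) (w : U)
        conv_lhs => rw [← Nat.mod_add_div i u]
        rw [pow_add, pow_mul, hZ, one_pow, mul_one]
      rw [h1]
      exact Submodule.subset_span ⟨⟨i % u, Nat.mod_lt i hu.pos⟩, rfl⟩
    have hAU : U₁ ≤ U₁.comap A := by
      rw [hU₁, Submodule.span_le]
      rintro _ ⟨i, rfl⟩
      show A (x i) ∈ U₁
      rw [hx i i.2.le]
      exact Submodule.smul_mem _ _ (hxU i)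
    have hZU : U₁ ≤ U₁.comap Z := by
      rw [hU₁, Submodule.span_le]
      rintro _ ⟨i, rfl⟩
      show Z (x i) ∈ U₁
      have h1 : Z (x i) = x (i + 1) := by
        show Z ((Z ^ (i : ℕ)) (w : U)) = (Z ^ ((i : ℕ) + 1)) (w : U)
        rw [pow_succ', Module.End.mul_apply]
      rw [h1]
      exact hxU _
    let A' : Module.End K (U ⧸ U₁) := U₁.mapQ U₁ A hAU
    let Z' : Module.End K (U ⧸ U₁) := U₁.mapQ U₁ Z hZU
    have hA' : ∀ y, A' (Submodule.Quotient.mk y) = Submodule.Quotient.mk (A y) := fun y => rfl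
    have hZ' : ∀ y, Z' (Submodule.Quotient.mk y) = Submodule.Quotient.mk (Z y) := fun y => rfl
    have hA'i : ∀ (i : ℕ) y, (A' ^ i) (Submodule.Quotient.mk y) = Submodule.Quotient.mk ((A ^ i) y) := by
      intro i y
      induction i with
      | zero => simp
      | succ i ih => rw [pow_succ', Module.End.mul_apply, ih, hA', pow_succ', Module.End.mul_apply]
    have hZ'i : ∀ (i : ℕ) y, (Z' ^ i) (Submodule.Quotient.mk y) = Submodule.Quotient.mk ((Z ^ i) y) := by
      intro i y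
      induction i with
      | zero => simp
      | succ i ih => rw [pow_succ', Module.End.mul_apply, ih, hZ', pow_succ', Module.End.mul_apply]
    have hlt : finrank K (U ⧸ U₁) < n := by
      have h1 := Submodule.finrank_quotient_add_finrank U₁
      have h2 := hu.pos
      omega
    have hih := ih _ hlt (U ⧸ U₁) A' Z' rfl
      (by
        apply LinearMap.ext
        intro y
        obtain ⟨y, rfl⟩ := Submodule.Quotient.mk_surjective _ y
        rw [hA'i, hA]; rfl)
      (by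
        apply LinearMap.ext
        intro y
        obtain ⟨y, rfl⟩ := Submodule.Quotient.mk_surjective _ y
        rw [hZ'i, hZ]; rfl)
      (by
        apply LinearMap.ext
        intro y
        obtain ⟨y, rfl⟩ := Submodule.Quotient.mk_surjective _ y
        rw [Module.End.mul_apply, Module.End.mul_apply, hA', hZ', hZ', hA'i, ← Module.End.mul_apply, hZA,
          Module.End.mul_apply])
    have hrA : LinearMap.range (A' - 1) = R.map U₁.mkQ := by
      ext y
      constructor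
      · rintro ⟨z, rfl⟩
        obtain ⟨z, rfl⟩ := Submodule.Quotient.mk_surjective _ z
        exact ⟨A z - z, ⟨z, rfl⟩, rfl⟩
      · rintro ⟨_, ⟨z, rfl⟩, rfl⟩
        exact ⟨Submodule.Quotient.mk z, rfl⟩
    have hrZ : LinearMap.range (Z' - 1) = (LinearMap.range (Z - 1)).map U₁.mkQ := by
      ext y
      constructor
      · rintro ⟨z, rfl⟩
        obtain ⟨z, rfl⟩ := Submodule.Quotient.mk_surjective _ z
        exact ⟨Z z - z, ⟨z, rfl⟩, rfl⟩
      · rintro ⟨_, ⟨z, rfl⟩, rfl⟩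
        exact ⟨Submodule.Quotient.mk z, rfl⟩
    rw [hrA, hrZ] at hih
    have h1 := finrank_map_add U₁.mkQ R
    have h2 := finrank_map_add U₁.mkQ (LinearMap.range (Z - 1))
    rw [Submodule.ker_mkQ] at h1 h2
    have h3 : R ⊓ U₁ = U₁ := by
      rw [inf_eq_right, hU₁, Submodule.span_le]
      rintro _ ⟨i, rfl⟩
      have h4 : A (x i) - x i = (μ i - 1) • x i := by rw [hx i i.2.le, sub_smul, one_smul]
      have h5 : x i = (μ i - 1)⁻¹ • (A (x i) - x i) := by
        rw [h4, smul_smul, inv_mul_cancel₀ (sub_ne_zero.mpr (hμ1 i i.2.le)), one_smul]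
      show x i ∈ R
      rw [h5]
      exact Submodule.smul_mem _ _ ⟨x i, rfl⟩
    rw [h3, hU₁u] at h1
    have h4 : u ≤ finrank K (LinearMap.range (Z - 1) ⊓ U₁ : Submodule K U) + 1 := by
      have h5 : U₁ ≤ (LinearMap.range (Z - 1) ⊓ U₁) ⊔ Submodule.span K {(w : U)} := by
        rw [hU₁, Submodule.span_le, ← hU₁]
        rintro _ ⟨i, rfl⟩
        have h6 : ∀ k : ℕ, x k - (w : U) ∈ LinearMap.range (Z - 1) := by
          intro k
          induction k with
          | zero => show (Z ^ 0) (w : U) - w ∈ _; simp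
          | succ k ihk =>
            have h7 : x (k + 1) - (w : U) = (Z (x k) - x k) + (x k - w) := by
              show (Z ^ (k + 1)) (w : U) - w = (Z ((Z ^ k) (w : U)) - (Z ^ k) (w : U)) + ((Z ^ k) (w : U) - w)
              rw [pow_succ', Module.End.mul_apply]; abel
            rw [h7]
            exact Submodule.add_mem _ ⟨x k, rfl⟩ ihk
        have h7 : x i = (x i - w) + (w : U) := by abel
        show x i ∈ _
        rw [h7]
        exact Submodule.add_mem_sup ⟨h6 i, U₁.sub_mem (hxU i) (by simpa [x] using hxU 0)⟩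
          (Submodule.mem_span_singleton_self _)
      have h6 := (Submodule.finrank_mono h5).trans (Submodule.finrank_add_le_finrank_add_finrank _ _)
      have h7 : finrank K (Submodule.span K {(w : U)}) ≤ 1 := by
        rw [finrank_span_singleton hw0]
      omega
    have hu1 : u - 1 ≤ finrank K (LinearMap.range (Z - 1) ⊓ U₁ : Submodule K U) := by omega
    have h5 : (u - 1) * finrank K R = (u - 1) * finrank K (R.map U₁.mkQ) + (u - 1) * u := by
      rw [← h1]; ring
    have h6 : u * finrank K (LinearMap.range (Z - 1)) =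
        u * finrank K ((LinearMap.range (Z - 1)).map U₁.mkQ) +
          u * finrank K (LinearMap.range (Z - 1) ⊓ U₁ : Submodule K U) := by
      rw [← h2]; ring
    refine ⟨?_, ?_⟩
    · rw [← h1]
      exact dvd_add hih.1 (dvd_refl u)
    rw [h5, h6]
    refine add_le_add hih.2 ?_
    rw [mul_comm (u - 1) u]
    exact Nat.mul_le_mul_left u hu1

end closed

section general

variable {F : Type*} [Field F] {V : Type*} [AddCommGroup V] [Module F V] [FiniteDimensional F V] {Y : Type*} [Group Y]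
  [Finite Y]

/-- **the Frobenius count** -/
theorem fr (ρ : Representation F Y V) {u v j : ℕ} (hu : u.Prime) (hv : v.Prime) (hvF : (v : F) ≠ 0) {a z : Y}
    (ha : a ^ v = 1) (hz : z ^ u = 1) (hj : z * a * z⁻¹ = a ^ j) (hne : z * a ≠ a * z) :
    u ∣ rk ρ a ∧ (u - 1) * rk ρ a ≤ u * rk ρ z := by
  have ha1 : a ≠ 1 := by rintro rfl; exact hne (by simp)
  have hord : orderOf a = v := by
    have := Fact.mk hv
    exact orderOf_eq_prime ha ha1
  have hconj : ∀ i : ℕ, z ^ i * a * (z ^ i)⁻¹ = a ^ (j ^ i) := by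
    intro i
    induction i with
    | zero => simp
    | succ i ih =>
      have h2 : z ^ (i + 1) * a * (z ^ (i + 1))⁻¹ = z * (z ^ i * a * (z ^ i)⁻¹) * z⁻¹ := by
        rw [pow_succ']; group
      rw [h2, ih, ← conj_pow, hj, ← pow_mul, pow_succ']
  have hju : j ^ u ≡ 1 [MOD v] := by
    have h1 := hconj u
    rw [hz, one_mul, inv_one, mul_one] at h1
    have h2 : a ^ (j ^ u) = a ^ 1 := by rw [← h1, pow_one]
    rw [← hord]
    exact pow_eq_pow_iff_modEq.mp h2
  have hj1 : ¬ j ≡ 1 [MOD v] := by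
    intro h
    apply hne
    have h1 : a ^ j = a ^ 1 := by
      rw [pow_eq_pow_iff_modEq, hord]; exact h
    rw [h1, pow_one] at hj
    exact mul_inv_eq_iff_eq_mul.mp hj
  have hji : ∀ i, 0 < i → i < u → ¬ j ^ i ≡ 1 [MOD v] := by
    intro i hi0 hiu h
    apply hj1
    have h1 : ((j : ZMod v)) ^ i = 1 := by
      have := (ZMod.natCast_eq_natCast_iff _ _ _).mpr h
      push_cast at this
      exact this
    have h2 : ((j : ZMod v)) ^ u = 1 := by
      have := (ZMod.natCast_eq_natCast_iff _ _ _).mpr hju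
      push_cast at this
      exact this
    have h3 : orderOf (j : ZMod v) ∣ 1 := by
      have h4 : Nat.Coprime i u := (Nat.coprime_of_lt_prime hi0.ne' hiu hu).symm
      rw [← h4]
      exact Nat.dvd_gcd (orderOf_dvd_of_pow_eq_one h1) (orderOf_dvd_of_pow_eq_one h2)
    have h4 : (j : ZMod v) = 1 := orderOf_eq_one_iff.mp (Nat.dvd_one.mp h3)
    have h5 : (j : ZMod v) = ((1 : ℕ) : ZMod v) := by push_cast; exact h4
    exact (ZMod.natCast_eq_natCast_iff _ _ _).mp h5
  let K := AlgebraicClosure F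
  have hvK : (v : K) ≠ 0 := by
    rw [← map_natCast (algebraMap F K)]
    exact (map_ne_zero_iff _ (algebraMap F K).injective).mpr hvF
  have hrel : bc K ρ z * bc K ρ a = bc K ρ a ^ j * bc K ρ z := by
    rw [← map_mul, ← map_pow, ← map_mul, ← hj]
    congr 1
    group
  have h1 := frK hu hv hvK hji hju _ _ (bc K ρ a) (bc K ρ z) rfl (by rw [← map_pow, ha, map_one])
    (by rw [← map_pow, hz, map_one]) hrel
  rw [finrank_range_bc, finrank_range_bc] at h1
  exact h1

end general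

end Cfsg.Agent.H553.RV
end

-- part: H553/RV/LinB
section
/-!
# TEAM RV, R2 linear/unitary: frames and small elements of `H` (helper553)
-/

set_option autoImplicit false

namespace Cfsg.Agent.H553.RV

open Module Cfsg.Agent.H167.OP Cfsg.Agent.H170.HL Cfsg.Agent.H556.HallRowAbs Cfsg.Agent.H556.HallLB
  Cfsg.Agent.H556.HallSmallCen

section group

variable {Y : Type*} [Group Y]

theorem comm_closure {S : Set Y} (h : ∀ x ∈ S, ∀ y ∈ S, x * y = y * x) :
    ∀ x ∈ Subgroup.closure S, ∀ y ∈ Subgroup.closure S, x * y = y * x := by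
  intro x hx y hy
  have h1 : Subgroup.closure S ≤ Subgroup.centralizer S := by
    rw [Subgroup.closure_le]
    intro a ha
    exact Subgroup.mem_centralizer_iff.mpr fun b hb => h b hb a ha
  have h2 : x ∈ Subgroup.centralizer (Subgroup.closure S : Set Y) := by
    rw [Subgroup.centralizer_closure]
    exact h1 hx
  exact (Subgroup.mem_centralizer_iff.mp h2 y hy).symm

theorem pow_closure {S : Set Y} (h : ∀ x ∈ S, ∀ y ∈ S, x * y = y * x) {n : ℕ} (hS : ∀ x ∈ S, x ^ n = 1) :
    ∀ x ∈ Subgroup.closure S, x ^ n = 1 := by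
  intro x hx
  induction hx using Subgroup.closure_induction with
  | mem x hx => exact hS x hx
  | one => exact one_pow n
  | mul x y hx hy ihx ihy =>
    have h1 : Commute x y := comm_closure h x hx y hy
    rw [h1.mul_pow, ihx, ihy, one_mul]
  | inv x hx ih => rw [inv_pow, ih, inv_one]

/-- conjugating a `t`-subgroup into a subgroup of index prime to `t` -/
theorem conj_into [Finite Y] {t : ℕ} (ht : t.Prime) {Q K : Subgroup Y} (hQ : IsPGroup t Q) (hK : ¬ t ∣ K.index) :
    ∃ g : Y, ∀ q ∈ Q, g * q * g⁻¹ ∈ K := by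
  have := Fact.mk ht
  obtain ⟨x, hx⟩ := hQ.nonempty_fixed_point_of_prime_not_dvd_card (Y ⧸ K) hK
  obtain ⟨g, rfl⟩ := QuotientGroup.mk_surjective x
  refine ⟨g⁻¹, fun q hq => ?_⟩
  have h2 : ((q * g : Y) : Y ⧸ K) = (g : Y ⧸ K) := hx ⟨q, hq⟩
  have h3 := QuotientGroup.eq.mp h2.symm
  rw [inv_inv, mul_assoc]
  exact h3

/-- a nontrivial `t`-element has a power of order `t` -/
theorem exists_pow_prime {t : ℕ} {x : Y} (hx1 : x ≠ 1) (hx : ∃ k : ℕ, x ^ t ^ k = 1) :
    ∃ n : ℕ, x ^ n ≠ 1 ∧ (x ^ n) ^ t = 1 := by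
  obtain ⟨k, hk⟩ := hx
  induction k with
  | zero => rw [pow_zero, pow_one] at hk; exact absurd hk hx1
  | succ k ih =>
    by_cases h : x ^ t ^ k = 1
    · exact ih h
    · exact ⟨t ^ k, h, by rw [← pow_mul, ← pow_succ]; exact hk⟩

end group

variable {F : Type*} [Field F] {V : Type*} [AddCommGroup V] [Module F V] {Y : Type*} [Group Y]
  {ρ : Representation F Y V}

theorem Rg_pow_le (x : Y) (n : ℕ) : Rg ρ (x ^ n) ≤ Rg ρ x := by
  intro w hw
  obtain ⟨v, rfl⟩ := mem_Rg.mp hw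
  induction n with
  | zero => rw [pow_zero, one_ap, sub_self]; exact Submodule.zero_mem _
  | succ n ih =>
    have h1 : ρ (x ^ (n + 1)) v - v = (ρ x (ρ (x ^ n) v) - ρ (x ^ n) v) + (ρ (x ^ n) v - v) := by
      rw [pow_succ', mul_ap]; abel
    rw [h1]
    exact Submodule.add_mem _ (sub_mem_Rg _ _) (ih ⟨v, rfl⟩)

theorem Rg_mul_le (x y : Y) : Rg ρ (x * y) ≤ Rg ρ x ⊔ Rg ρ y := by
  intro w hw
  obtain ⟨v, rfl⟩ := mem_Rg.mp hw
  have h1 : ρ (x * y) v - v = (ρ x (ρ y v) - ρ y v) + (ρ y v - v) := by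
    rw [mul_ap]; abel
  rw [h1]
  exact Submodule.add_mem_sup (sub_mem_Rg _ _) (sub_mem_Rg _ _)

/-- `t`-elements of small support are trivial -/
theorem eq_one_of_small [FiniteDimensional F V] [Finite Y] {e : ℕ → ℕ} (h : RowDat ρ e) {t : ℕ} (ht : t.Prime)
    (hodd : Odd t) (htF : (t : F) ≠ 0) {x : Y} (hx : ∃ k : ℕ, x ^ t ^ k = 1) (hr : rk ρ x < e t) : x = 1 := by
  by_contra hx1
  obtain ⟨n, hn1, hn⟩ := exists_pow_prime hx1 hx
  have h1 := le_rk_of_ne h ht hodd htF hn hn1
  have h2 : rk ρ (x ^ n) ≤ rk ρ x := Submodule.finrank_mono (Rg_pow_le x n)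
  omega

/-- a frame in `K` -/
structure Fm (ρ : Representation F Y V) (e : ℕ → ℕ) (K : Subgroup Y) (t m : ℕ) (z : Fin m → Y) : Prop where
  mem : ∀ i, z i ∈ K
  isZ : ∀ i, IsZ ρ e t (z i)
  comm : ∀ i j, z i * z j = z j * z i
  ind : ∀ i j, i ≠ j → ∀ v, ρ (z i) (ρ (z j) v - v) = ρ (z j) v - v
  max : ∀ U : Submodule F V, (∀ i, ∀ v ∈ U, ρ (z i) v = v) → finrank F U < e t
  perm : ∀ σ : Equiv.Perm (Fin m), ∃ y : Y, ∀ i, y * z i * y⁻¹ = z (σ i)

/-- existence of frames -/
theorem exists_frame [FiniteDimensional F V] [Finite Y] {e : ℕ → ℕ} {X : Subgroup Y} (D : LinDat ρ e X) {t : ℕ}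
    (ht : t.Prime) (hodd : Odd t) (htF : (t : F) ≠ 0) (htY : t ∣ Nat.card Y) {K : Subgroup Y} (hK : ¬ t ∣ K.index) :
    ∃ (m : ℕ) (z : Fin m → Y), Fm ρ e K t m z := by
  obtain ⟨m, z, hz, hc, hi, hm, hp⟩ := D.fr t ht hodd htF htY
  have hS : ∀ x ∈ Set.range z, ∀ y ∈ Set.range z, x * y = y * x := by
    rintro _ ⟨i, rfl⟩ _ ⟨j, rfl⟩
    exact hc i j
  have hQ : IsPGroup t (Subgroup.closure (Set.range z)) := by
    intro x
    refine ⟨1, Subtype.ext ?_⟩
    rw [pow_one]
    refine pow_closure hS ?_ x x.2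
    rintro _ ⟨i, rfl⟩
    exact (hz i).1
  obtain ⟨g, hg⟩ := conj_into ht hQ hK
  refine ⟨m, fun i => g * z i * g⁻¹, ⟨fun i => hg _ (Subgroup.subset_closure ⟨i, rfl⟩), fun i => (hz i).conj g,
    fun i j => ?_, fun i j hij v => ?_, fun U hU => ?_, fun σ => ?_⟩⟩
  · have h1 : g * z i * g⁻¹ * (g * z j * g⁻¹) = g * (z i * z j) * g⁻¹ := by group
    have h2 : g * z j * g⁻¹ * (g * z i * g⁻¹) = g * (z j * z i) * g⁻¹ := by group
    rw [h1, h2, hc i j]
  · have h1 : ρ (g * z j * g⁻¹) v - v = ρ g (ρ (z j) (ρ g⁻¹ v) - ρ g⁻¹ v) := by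
      rw [map_sub, ap_inv, mul_ap, mul_ap]
    rw [h1, mul_ap, mul_ap, inv_ap, hi i j hij]
  · have h1 := hm (U.map (ρ g⁻¹)) (by
      rintro i _ ⟨v, hv, rfl⟩
      have h2 := hU i v hv
      rw [mul_ap, mul_ap] at h2
      have h3 := congrArg (ρ g⁻¹) h2
      rwa [inv_ap] at h3)
    have h2 : finrank F (U.map (ρ g⁻¹)) = finrank F U := by
      refine (LinearEquiv.finrank_eq (U.equivMapOfInjective (ρ g⁻¹) ?_)).symm
      intro v w h
      have := congrArg (ρ g) h
      rwa [ap_inv, ap_inv] at this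
    rwa [h2] at h1
  · obtain ⟨y, hy⟩ := hp σ
    refine ⟨g * y * g⁻¹, fun i => ?_⟩
    rw [← hy i]
    group

/-- **Lemma C** -/
theorem e_le_of_comm [FiniteDimensional F V] [Finite Y] {e : ℕ → ℕ} {X : Subgroup Y} (D : LinDat ρ e X) {u v : ℕ}
    (huF : (u : F) ≠ 0) (hv : v.Prime) (hvo : Odd v) (hvF : (v : F) ≠ 0)
    {m : ℕ} {z : Fin m → Y} {K : Subgroup Y} (hz : Fm ρ e K u m z) {a : Y}
    (ha : IsZ ρ e v a) (hc : ∀ i, z i * a = a * z i) : e v ≤ e u := by
  by_contra hlt
  push Not at hlt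
  have h1 : ¬ ∀ i, ∀ w ∈ Rg ρ a, ρ (z i) w = w := by
    intro h
    have := hz.max (Rg ρ a) h
    rw [finrank_Rg, ha.2] at this
    omega
  push Not at h1
  obtain ⟨i, w, hw, hwi⟩ := h1
  rcases dicho D hv hvo hvF ha (hc i).symm huF (hz.isZ i).1 with h | h
  · exact hwi (h w hw)
  · have h2 : Rg ρ a ≤ Rg ρ (z i) := le_Rg_of_free (fun w hw => comm_Rg (hc i).symm hw) h
    have h3 := Submodule.finrank_mono h2
    rw [finrank_Rg, finrank_Rg, ha.2, (hz.isZ i).2] at h3
    omega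

/-- the subgroup `H` has good order and is solvable -/
structure HC (F : Type*) [Field F] {Y : Type*} [Group Y] (H : Subgroup Y) : Prop where
  sol : Group.IsSolvable H
  ok : ∀ r : ℕ, r.Prime → r ∣ Nat.card H → r ≠ 2 ∧ (r : F) ≠ 0

theorem HC.mono {H K : Subgroup Y} (h : HC F H) (hK : K ≤ H) : HC F K :=
  ⟨by
    have := h.sol
    exact Group.isSolvable_of_isSolvable_injective (f := Subgroup.inclusion hK) (Subgroup.inclusion_injective hK),
   fun r hr hd => h.ok r hr (hd.trans (Subgroup.card_dvd_of_le hK))⟩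

theorem HC.card_ne [Finite Y] {H : Subgroup Y} (h : HC F H) {K : Subgroup Y} (hK : K ≤ H) :
    (Nat.card K : F) ≠ 0 := by
  have h1 : ∀ n : ℕ, n ≠ 0 → (∀ r : ℕ, r.Prime → r ∣ n → (r : F) ≠ 0) → (n : F) ≠ 0 := by
    intro n
    induction n using Nat.recOnMul with
    | zero => intro h; exact absurd rfl h
    | one => intro _ _; rw [Nat.cast_one]; exact one_ne_zero
    | prime p hp => intro _ h; exact h p hp (dvd_refl _)
    | mul a b iha ihb =>
      intro hab hr
      rw [Nat.cast_mul]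
      exact mul_ne_zero (iha (left_ne_zero_of_mul hab) fun r hr1 hd => hr r hr1 (hd.mul_right b))
        (ihb (right_ne_zero_of_mul hab) fun r hr1 hd => hr r hr1 (hd.mul_left a))
  exact h1 _ Nat.card_pos.ne' fun r hr hd => (h.ok r hr (hd.trans (Subgroup.card_dvd_of_le hK))).2

/-- the small `t`-elements of `H` -/
def Sm (ρ : Representation F Y V) (H : Subgroup Y) (t : ℕ) : Set Y :=
  {x | x ∈ H ∧ (∃ k : ℕ, x ^ t ^ k = 1) ∧ 2 * rk ρ x < t}

theorem cardNeOfPow {t k : ℕ} (htF : (t : F) ≠ 0) : ((t ^ k : ℕ) : F) ≠ 0 := by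
  rw [Nat.cast_pow]; exact pow_ne_zero k htF

theorem small_comm [FiniteDimensional F V] [Finite Y] (hinj : Function.Injective ρ) {H : Subgroup Y} (hH : HC F H)
    {t : ℕ} (ht : t.Prime) (htF : (t : F) ≠ 0) {x y : Y} (hx : x ∈ Sm ρ H t) (hy : y ∈ Sm ρ H t) : x * y = y * x := by
  have := Fact.mk ht
  set L : Subgroup Y := Subgroup.closure {x, y} with hL
  have hxL : x ∈ L := Subgroup.subset_closure (by simp)
  have hyL : y ∈ L := Subgroup.subset_closure (by simp)
  have hLH : L ≤ H := by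
    rw [hL, Subgroup.closure_le]
    intro a ha
    simp only [Set.mem_insert_iff, Set.mem_singleton_iff] at ha
    rcases ha with rfl | rfl
    · exact hx.1
    · exact hy.1
  have hLc := hH.mono hLH
  have hdim : finrank F (CV ρ L) < t := by
    have h1 : CV ρ L ≤ Rg ρ x ⊔ Rg ρ y := by
      rw [hL]
      refine CV_closure_le ?_
      intro a ha
      simp only [Set.mem_insert_iff, Set.mem_singleton_iff] at ha
      rcases ha with rfl | rfl
      · exact le_sup_left
      · exact le_sup_right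
    have h2 := (Submodule.finrank_mono h1).trans (Submodule.finrank_add_le_finrank_add_finrank _ _)
    rw [finrank_Rg, finrank_Rg] at h2
    have h3 := hx.2.2
    have h4 := hy.2.2
    omega
  have hC : CenH t L := by
    intro y' hy' r hrp hrt R hR hn
    by_cases hd : r ∣ Nat.card L
    · obtain ⟨h2, hrF⟩ := hLc.ok r hrp hd
      have h1 := small_cen ρ hinj ht hrp h2 hrt hrF L hdim y'.2 (by
        obtain ⟨k, hk⟩ := hy'
        exact ⟨k, congrArg Subtype.val hk⟩) (R := R.map L.subtype) (Subgroup.map_subtype_le _) (by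
        rintro _ ⟨x, hx, rfl⟩
        obtain ⟨k, hk⟩ := hR ⟨x, hx⟩
        exact ⟨k, congrArg (fun z : R => ((z : L) : Y)) hk⟩) (by
        rintro _ ⟨x, hx, rfl⟩
        exact ⟨_, hn x hx, rfl⟩)
      intro d hd
      exact Subtype.ext (h1 d ⟨d, hd, rfl⟩)
    · intro d hdR
      obtain ⟨k, hk⟩ := hR ⟨d, hdR⟩
      have h1 : d ^ r ^ k = 1 := congrArg Subtype.val hk
      have h5 : Nat.Coprime (r ^ k) (Nat.card L) := Nat.Coprime.pow_left _ ((Nat.Prime.coprime_iff_not_dvd hrp).mpr hd)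
      have h6 : orderOf d ∣ 1 := by
        rw [← h5]
        exact Nat.dvd_gcd (orderOf_dvd_of_pow_eq_one h1) (orderOf_dvd_natCard d)
      rw [orderOf_eq_one_iff.mp (Nat.dvd_one.mp h6), mul_one, one_mul]
  have hgen : Subgroup.closure {x : L | ∃ k : ℕ, x ^ t ^ k = 1} = ⊤ := by
    rw [eq_top_iff, ← Subgroup.closure_closure_coe_preimage (k := ({x, y} : Set Y))]
    apply Subgroup.closure_mono
    rintro ⟨a, ha⟩ ham
    have h' : a = x ∨ a = y := by
      rcases ham with h | h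
      · exact Or.inl h
      · exact Or.inr h
    rcases h' with rfl | rfl
    · obtain ⟨k, hk⟩ := hx.2.1
      exact ⟨k, Subtype.ext hk⟩
    · obtain ⟨k, hk⟩ := hy.2.1
      exact ⟨k, Subtype.ext hk⟩
  have hLp : IsPGroup t L := isPGroup_of_cenH hLc.sol hC hgen
  obtain ⟨n, hn⟩ := IsPGroup.iff_card.mp hLp
  have hLF : (Nat.card L : F) ≠ 0 := by rw [hn]; exact cardNeOfPow htF
  have h1 := Cfsg.Agent.H556.SmallAb.comm_of_small' (res ρ L) hLF (by
    intro r hr hd
    rw [hn] at hd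
    rw [(Nat.prime_dvd_prime_iff_eq hr ht).mp (hr.dvd_of_dvd_pow hd)]
    exact hdim) ⟨x, hxL⟩ ⟨y, hyL⟩
  have hg : ρ (x * y * x⁻¹ * y⁻¹) = 1 := by
    have hgL : x * y * x⁻¹ * y⁻¹ ∈ L := L.mul_mem (L.mul_mem (L.mul_mem hxL hyL) (L.inv_mem hxL)) (L.inv_mem hyL)
    refine eq_one_of_res ρ hgL (n := Nat.card L) ?_ hLF ?_
    · exact congrArg Subtype.val (pow_card_eq_one' (x := (⟨_, hgL⟩ : L)))
    · intro w hw
      have h2 : (⟨x * y * x⁻¹ * y⁻¹, hgL⟩ : L) = (⟨x, hxL⟩ * ⟨y, hyL⟩) * (⟨y, hyL⟩ * ⟨x, hxL⟩)⁻¹ := by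
        apply Subtype.ext
        show x * y * x⁻¹ * y⁻¹ = (x * y) * (y * x)⁻¹
        group
      have h3 : res ρ L ⟨x * y * x⁻¹ * y⁻¹, hgL⟩ = 1 := by
        rw [h2, map_mul, h1, ← map_mul, mul_inv_cancel, map_one]
      exact congrArg Subtype.val (LinearMap.congr_fun h3 ⟨w, hw⟩)
  have h2 : x * y * x⁻¹ * y⁻¹ = 1 := hinj (by rw [hg, map_one])
  calc x * y = (x * y * x⁻¹ * y⁻¹) * (y * x) := by group
    _ = y * x := by rw [h2, one_mul]

/-- the group `B_t` -/
def Bt (ρ : Representation F Y V) (H : Subgroup Y) (t : ℕ) : Subgroup Y := Subgroup.closure (Sm ρ H t)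

theorem Bt_comm [FiniteDimensional F V] [Finite Y] (hinj : Function.Injective ρ) {H : Subgroup Y} (hH : HC F H)
    {t : ℕ} (ht : t.Prime) (htF : (t : F) ≠ 0) : ∀ x ∈ Bt ρ H t, ∀ y ∈ Bt ρ H t, x * y = y * x :=
  comm_closure fun _ hx _ hy => small_comm hinj hH ht htF hx hy

theorem Bt_pgroup [FiniteDimensional F V] [Finite Y] (hinj : Function.Injective ρ) {H : Subgroup Y} (hH : HC F H)
    {t : ℕ} (ht : t.Prime) (htF : (t : F) ≠ 0) : ∀ x ∈ Bt ρ H t, ∃ k : ℕ, x ^ t ^ k = 1 := by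
  intro x hx
  have hx' : x ∈ Subgroup.closure (Sm ρ H t) := hx
  clear hx
  induction hx' using Subgroup.closure_induction with
  | mem x hx => exact hx.2.1
  | one => exact ⟨0, one_pow _⟩
  | mul x y hx hy ihx ihy =>
    obtain ⟨k, hk⟩ := ihx
    obtain ⟨l, hl⟩ := ihy
    have h1 : Commute x y := Bt_comm hinj hH ht htF x hx y hy
    refine ⟨k + l, ?_⟩
    rw [h1.mul_pow, pow_add, pow_mul, hk, one_pow, one_mul, mul_comm, pow_mul, hl, one_pow]
  | inv x hx ih =>
    obtain ⟨k, hk⟩ := ih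
    exact ⟨k, by rw [inv_pow, hk, inv_one]⟩

theorem Sm_conj [FiniteDimensional F V] {H : Subgroup Y} {t : ℕ} {x g : Y} (hx : x ∈ Sm ρ H t) (hg : g ∈ H) :
    g * x * g⁻¹ ∈ Sm ρ H t := by
  refine ⟨H.mul_mem (H.mul_mem hg hx.1) (H.inv_mem hg), ?_, by rw [rk_conj]; exact hx.2.2⟩
  obtain ⟨k, hk⟩ := hx.2.1
  exact ⟨k, by rw [conj_pow, hk, mul_one, mul_inv_cancel]⟩

theorem Bt_conj [FiniteDimensional F V] {H : Subgroup Y} {t : ℕ} {g : Y} (hg : g ∈ H) :
    ∀ x ∈ Bt ρ H t, g * x * g⁻¹ ∈ Bt ρ H t := by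
  intro x hx
  have h1 : Bt ρ H t ≤ (Bt ρ H t).comap (MulAut.conj g).toMonoidHom := by
    conv_lhs => rw [Bt]
    rw [Subgroup.closure_le]
    intro x hx
    exact Subgroup.subset_closure (Sm_conj hx hg)
  exact h1 hx

theorem IsZ.sm {e : ℕ → ℕ} {H : Subgroup Y} {t : ℕ} {z : Y} (h : IsZ ρ e t z) (hz : z ∈ H) (hg : 2 * e t < t) :
    z ∈ Sm ρ H t := ⟨hz, ⟨1, by rw [pow_one]; exact h.1⟩, by rw [h.2]; exact hg⟩

/-- two atoms are equal or independent -/
theorem atom_or [FiniteDimensional F V] [Finite Y] {e : ℕ → ℕ} {X : Subgroup Y} (D : LinDat ρ e X) {t : ℕ}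
    (ht : t.Prime) (hodd : Odd t) (htF : (t : F) ≠ 0) {a a' : Y} (ha : IsZ ρ e t a) (ha' : IsZ ρ e t a')
    (hc : a * a' = a' * a) : Rg ρ a = Rg ρ a' ∨ ∀ w ∈ Rg ρ a, ρ a' w = w := by
  rcases dicho D ht hodd htF ha hc htF ha'.1 with h | h
  · exact Or.inr h
  · left
    apply Submodule.eq_of_le_of_finrank_eq
    · exact le_Rg_of_free (fun w hw => comm_Rg hc hw) h
    · rw [finrank_Rg, finrank_Rg, ha.2, ha'.2]

end Cfsg.Agent.H553.RV
end

-- part: H553/RV/LinC
section
/-!
# TEAM RV, R2 linear/unitary: pairs of elements of minimal support (helper553)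
-/

set_option autoImplicit false

namespace Cfsg.Agent.H553.RV

open Module Cfsg.Agent.H167.OP Cfsg.Agent.H170.HL Cfsg.Agent.H556.HallRowAbs Cfsg.Agent.H556.HallLB
  Cfsg.Agent.H556.HallSmallCen

variable {F : Type*} [Field F] {V : Type*} [AddCommGroup V] [Module F V] {Y : Type*} [Group Y]
  {ρ : Representation F Y V}

/-- `g` stabilises the subspace -/
def St (ρ : Representation F Y V) (W : Submodule F V) (g : Y) : Prop := ∀ w ∈ W, ρ g w ∈ W

theorem St.mul {W : Submodule F V} {g h : Y} (hg : St ρ W g) (hh : St ρ W h) : St ρ W (g * h) := by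
  intro w hw
  rw [mul_ap]
  exact hg _ (hh w hw)

theorem St.pow {W : Submodule F V} {g : Y} (hg : St ρ W g) (n : ℕ) : St ρ W (g ^ n) := by
  induction n with
  | zero => intro w hw; rw [pow_zero, one_ap]; exact hw
  | succ n ih => rw [pow_succ']; exact hg.mul ih

theorem St.inv [Finite Y] {W : Submodule F V} {g : Y} (hg : St ρ W g) : St ρ W g⁻¹ := by
  have h1 : g⁻¹ = g ^ (orderOf g - 1) := by
    rw [inv_eq_iff_mul_eq_one, ← pow_succ', Nat.sub_add_cancel (orderOf_pos g), pow_orderOf_eq_one]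
  rw [h1]
  exact hg.pow _

theorem St.of_inv [Finite Y] {W : Submodule F V} {g : Y} (hg : St ρ W g⁻¹) : St ρ W g := by
  rw [← inv_inv g]; exact hg.inv

/-- a vector which is a sum of vectors fixed by `a` -/
theorem indep_sum {ι : Type*} (s : Finset ι) (a : ι → Y) (x : ι → V) {t : ℕ} (htF : (t : F) ≠ 0)
    (ha : ∀ i ∈ s, a i ^ t = 1) (hx : ∀ i ∈ s, x i ∈ Rg ρ (a i))
    (hf : ∀ i ∈ s, ∀ k ∈ s, i ≠ k → ρ (a k) (x i) = x i) (h0 : ∑ i ∈ s, x i = 0) : ∀ k ∈ s, x k = 0 := by
  classical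
  intro k hk
  apply eq_zero_of_fix htF (ha k hk) (hx k hk)
  have h1 : ρ (a k) (∑ i ∈ s, x i) - ∑ i ∈ s, x i = ρ (a k) (x k) - x k := by
    rw [map_sum, ← Finset.sum_sub_distrib]
    refine Finset.sum_eq_single_of_mem k hk fun i hi hik => ?_
    rw [hf i hi k hk hik, sub_self]
  rw [h0, map_zero, sub_zero] at h1
  exact sub_eq_zero.mp h1.symm

/-- two elements with the same minimal support -/
theorem mem_zpowers_of_Rg [FiniteDimensional F V] [Finite Y] {e : ℕ → ℕ} (h : RowDat ρ e) {v : ℕ} (hv : v.Prime)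
    (hvo : Odd v) (hvF : (v : F) ≠ 0) {a a' : Y} (ha : IsZ ρ e v a) (ha' : a' ^ v = 1) (hc : a * a' = a' * a)
    (hR : Rg ρ a' ≤ Rg ρ a) : ∃ j : ℕ, a' = a ^ j := by
  set D' : Subgroup Y := Subgroup.closure {a, a'} with hD'
  have hS : ∀ x ∈ ({a, a'} : Set Y), ∀ y ∈ ({a, a'} : Set Y), x * y = y * x := by
    intro x hx y hy
    simp only [Set.mem_insert_iff, Set.mem_singleton_iff] at hx hy
    rcases hx with rfl | rfl <;> rcases hy with rfl | rfl
    · rfl
    · exact hc
    · exact hc.symm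
    · rfl
  have hab := comm_closure hS
  have hexp : ∀ x ∈ D', x ^ v = 1 := pow_closure hS (by
    intro x hx
    simp only [Set.mem_insert_iff, Set.mem_singleton_iff] at hx
    rcases hx with rfl | rfl
    · exact ha.1
    · exact ha')
  have haD : a ∈ D' := Subgroup.subset_closure (by simp)
  have haD' : a' ∈ D' := Subgroup.subset_closure (by simp)
  have hRD : CV ρ D' ≤ Rg ρ a := by
    rw [hD']
    refine CV_closure_le ?_
    intro x hx
    simp only [Set.mem_insert_iff, Set.mem_singleton_iff] at hx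
    rcases hx with rfl | rfl
    · exact le_rfl
    · exact hR
  have hpos : 0 < e v := h.epos v hv hvF
  have ha1 : a ≠ 1 := by
    rintro rfl
    have h1 : rk ρ (1 : Y) = 0 := by
      rw [rk, map_one, sub_self, LinearMap.range_zero, finrank_bot]
    have h2 := ha.2
    omega
  have := Fact.mk hv
  have hcard : (Nat.card D' : F) ≠ 0 := by
    have hP : IsPGroup v D' := fun x => ⟨1, Subtype.ext (by rw [pow_one]; exact hexp x x.2)⟩
    obtain ⟨n, hn⟩ := IsPGroup.iff_card.mp hP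
    rw [hn]; exact cardNeOfPow hvF
  obtain ⟨E, hE, -, hV⟩ := exists_VE ρ hv hvF hcard hab hexp ⟨a, haD, fun h1 => ha1 (h.inj (by rw [h1, map_one]))⟩
  have hE1 : E = ⊥ := by
    rw [eq_bot_iff]
    intro x hx
    rw [Subgroup.mem_bot]
    by_contra hx1
    have h2 : Rg ρ x ≤ Rg ρ a := (range_le_CV ρ (hE.1 hx)).trans hRD
    have h3 := le_rk_of_ne h hv hvo hvF (hexp x (hE.1 hx)) hx1
    have h4 : Rg ρ x = Rg ρ a := by
      apply Submodule.eq_of_le_of_finrank_le h2
      rw [finrank_Rg, finrank_Rg, ha.2]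
      exact h3
    apply hV
    rw [eq_bot_iff]
    intro w hw
    have h5 : w ∈ Rg ρ x := by
      rw [h4]
      exact hRD (VE_le_CV ρ hcard hw)
    exact eq_zero_of_fix hvF (hexp x (hE.1 hx)) h5 (hw.1 x hx)
  have h5 := hE.2 a haD (by rw [hE1, Subgroup.mem_bot]; exact ha1) haD'
  rw [hE1, bot_sup_eq] at h5
  have h6 := (mem_powers_iff_mem_zpowers (x := a) (y := a')).mpr h5
  obtain ⟨j, hj⟩ := h6
  exact ⟨j, hj.symm⟩

section atom

variable [FiniteDimensional F V] [Finite Y] {e : ℕ → ℕ} {X H : Subgroup Y} {v : ℕ} {a : Y}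

/-- `x` stabilises the atom of `a`: it normalises `⟨a⟩` -/
theorem norm_atom (D : LinDat ρ e X) (hH : HC F H) (hv : v.Prime) (hvo : Odd v) (hvF : (v : F) ≠ 0)
    (hgen : 2 * e v < v) (ha : IsZ ρ e v a) (haH : a ∈ H) {x : Y} (hxH : x ∈ H) (hx : St ρ (Rg ρ a) x) :
    ∃ j : ℕ, x * a * x⁻¹ = a ^ j := by
  have h1 : x * a * x⁻¹ ∈ H := H.mul_mem (H.mul_mem hxH haH) (H.inv_mem hxH)
  have h2 : IsZ ρ e v (x * a * x⁻¹) := ha.conj x
  refine mem_zpowers_of_Rg D.row hv hvo hvF ha h2.1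
    (small_comm D.row.inj hH hv hvF (ha.sm haH hgen) (h2.sm h1 hgen)) ?_
  rw [Rg_conj]
  rintro _ ⟨w, hw, rfl⟩
  exact hx w hw

/-- two translates of an atom -/
theorem two (D : LinDat ρ e X) (hH : HC F H) (hv : v.Prime) (hvo : Odd v) (hvF : (v : F) ≠ 0)
    (hgen : 2 * e v < v) (ha : IsZ ρ e v a) (haH : a ∈ H) {g h : Y} (hg : g ∈ H) (hh : h ∈ H)
    (hst : ¬ St ρ (Rg ρ a) (h⁻¹ * g)) {w : V} (hw : w ∈ Rg ρ a) : ρ (h * a * h⁻¹) (ρ g w) = ρ g w := by
  have h1 : ∀ x ∈ H, x * a * x⁻¹ ∈ H := fun x hx => H.mul_mem (H.mul_mem hx haH) (H.inv_mem hx)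
  have hc := small_comm D.row.inj hH hv hvF ((ha.conj g).sm (h1 g hg) hgen) ((ha.conj h).sm (h1 h hh) hgen)
  rcases atom_or D hv hvo hvF (ha.conj g) (ha.conj h) hc with h2 | h2
  · exfalso
    apply hst
    intro w hw
    have h3 : ρ g w ∈ Rg ρ (g * a * g⁻¹) := by rw [Rg_conj]; exact ⟨w, hw, rfl⟩
    rw [h2, Rg_conj] at h3
    obtain ⟨w', hw', h4⟩ := h3
    rw [mul_ap, ← h4, inv_ap]
    exact hw'
  · apply h2
    rw [Rg_conj]
    exact ⟨w, hw, rfl⟩

omit [FiniteDimensional F V] [Finite Y] in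
theorem ne_stab_pow {u : ℕ} (hu : u.Prime) {W : Submodule F V} {z : Y} (hz : z ^ u = 1) (hst : ¬ St ρ W z) {k : ℕ}
    (hk : ¬ u ∣ k) : ¬ St ρ W (z ^ k) := by
  intro h
  apply hst
  have hcop : Nat.Coprime k u := ((Nat.Prime.coprime_iff_not_dvd hu).mpr hk).symm
  obtain ⟨m, -, hm⟩ := Nat.exists_mul_mod_eq_one_of_coprime hcop hu.one_lt
  have h1 : z ^ (k * m) = z ^ 1 := pow_eq_of_modEq hz (by
    show k * m % u = 1 % u
    rw [hm, Nat.mod_eq_of_lt hu.one_lt])
  have h2 := h.pow m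
  rw [← pow_mul, h1, pow_one] at h2
  exact h2

/-- independence of the translates -/
theorem indep_translates (D : LinDat ρ e X) (hH : HC F H) (hv : v.Prime) (hvo : Odd v) (hvF : (v : F) ≠ 0)
    (hgen : 2 * e v < v) (ha : IsZ ρ e v a) (haH : a ∈ H) {u : ℕ} (hu : u.Prime) {z : Y} (hz : z ^ u = 1)
    (hzH : z ∈ H) (hst : ¬ St ρ (Rg ρ a) z) (w : ℕ → V) (hw : ∀ i, w i ∈ Rg ρ a)
    (h0 : ∑ i ∈ Finset.range u, ρ (z ^ i) (w i) = 0) : ∀ i < u, w i = 0 := by
  intro k hk
  have h1 := indep_sum (ρ := ρ) (Finset.range u) (fun i => z ^ i * a * (z ^ i)⁻¹) (fun i => ρ (z ^ i) (w i)) hvF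
    (fun i _ => (ha.conj (z ^ i)).1) (fun i _ => by
      rw [Rg_conj]
      exact ⟨_, hw i, rfl⟩) (fun i hi j hj hij => by
      rw [Finset.mem_range] at hi hj
      refine two D hH hv hvo hvF hgen ha haH (H.pow_mem hzH i) (H.pow_mem hzH j) ?_ (hw i)
      have h2 : (z ^ j)⁻¹ * z ^ i = z ^ (i + (u - j)) := by
        rw [inv_mul_eq_iff_eq_mul, ← pow_add, show j + (i + (u - j)) = i + u by omega, pow_add, hz, mul_one]
      rw [h2]
      refine ne_stab_pow hu hz hst ?_
      intro hd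
      obtain ⟨c, hc⟩ := hd
      have h3 : 0 < i + (u - j) := by omega
      have h4 : i + (u - j) < u * 2 := by omega
      have h5 : c ≠ 0 := by rintro rfl; omega
      have h6 : c < 2 := by
        by_contra h7
        have : u * 2 ≤ u * c := Nat.mul_le_mul_left u (by omega)
        omega
      have h7 : c = 1 := by omega
      subst h7
      omega) h0 k (Finset.mem_range.mpr hk)
  have h2 := congrArg (ρ (z ^ k)⁻¹) h1
  rwa [inv_ap, map_zero] at h2

end atom

end Cfsg.Agent.H553.RV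
end

-- part: H553/RV/LinC2
section
/-!
# TEAM RV, R2 linear/unitary: the pair lemma (helper553)
-/

set_option autoImplicit false

namespace Cfsg.Agent.H553.RV

open Module Cfsg.Agent.H167.OP Cfsg.Agent.H170.HL Cfsg.Agent.H556.HallRowAbs Cfsg.Agent.H556.HallLB
  Cfsg.Agent.H556.HallSmallCen

variable {F : Type*} [Field F] {V : Type*} [AddCommGroup V] [Module F V] {Y : Type*} [Group Y]
  {ρ : Representation F Y V} [FiniteDimensional F V] [Finite Y] {e : ℕ → ℕ} {X H : Subgroup Y}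

/-- the commuting pairs of `X` are conjugate to pairs of `H` -/
def Dm (X H : Subgroup Y) (u v : ℕ) : Prop :=
  ∀ z ∈ X, ∀ b ∈ X, z * b = b * z → z ^ u = 1 → b ^ v = 1 → ∃ y : Y, y * z * y⁻¹ ∈ H ∧ y * b * y⁻¹ ∈ H

omit [FiniteDimensional F V] [Finite Y] in
theorem norm_zero {z : Y} {u : ℕ} (hz : z ^ u = 1) {w : V} (hw : w ∈ Rg ρ z) :
    ∑ i ∈ Finset.range u, ρ (z ^ i) w = 0 := by
  obtain ⟨v, rfl⟩ := mem_Rg.mp hw
  have h1 : ∀ i ∈ Finset.range u, ρ (z ^ i) (ρ z v - v) = ρ (z ^ (i + 1)) v - ρ (z ^ i) v := by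
    intro i _
    rw [map_sub, ← mul_ap, ← pow_succ]
  rw [Finset.sum_congr rfl h1, Finset.sum_range_sub (fun i => ρ (z ^ i) v), hz, pow_zero, sub_self]

/-- the numbers from independent translates -/
theorem moved_numbers (D : LinDat ρ e X) (hH : HC F H) {u v : ℕ} (hu : u.Prime) (huF : (u : F) ≠ 0)
    (hv : v.Prime) (hvo : Odd v) (hvF : (v : F) ≠ 0) (hgen : 2 * e v < v) {a z : Y} (ha : IsZ ρ e v a) (haH : a ∈ H)
    (hz : IsZ ρ e u z) (hzH : z ∈ H) (hst : ¬ St ρ (Rg ρ a) z) :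
    e v = 1 ∧ e u = u - 1 ∧ u ≤ finrank F V := by
  have hind := indep_translates D hH hv hvo hvF hgen ha haH hu hz.1 hzH hst
  have hu1 := hu.one_lt
  have h1 : (u - 1) * finrank F (Rg ρ a) ≤ rk ρ z := by
    refine le_rk ρ z (Rg ρ a) (u - 1) fun w hw h0 => ?_
    rw [Nat.sub_add_cancel hu1.le] at h0
    intro i hi
    exact hind w hw h0 i (by omega)
  rw [finrank_Rg, ha.2, hz.2] at h1
  have h2 : e u ≤ u - 1 := Nat.le_of_dvd (by omega) (D.row.edvd u hu huF)
  have h3 : 0 < e v := D.row.epos v hv hvF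
  have h4 : e v = 1 := by
    have h5 : (u - 1) * e v ≤ (u - 1) * 1 := by rw [mul_one]; exact h1.trans h2
    have := Nat.le_of_mul_le_mul_left h5 (by omega)
    omega
  have h5 : e u = u - 1 := by rw [h4, mul_one] at h1; omega
  refine ⟨h4, h5, ?_⟩
  have hne : Rg ρ a ≠ ⊥ := by
    intro h
    have h6 : finrank F (Rg ρ a) = 0 := by rw [h, finrank_bot]
    rw [finrank_Rg, ha.2] at h6
    omega
  obtain ⟨w, hw, hw0⟩ := Submodule.exists_mem_ne_zero_of_ne_bot hne
  have hli : LinearIndependent F (fun i : Fin u => ρ (z ^ (i : ℕ)) w) := by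
    rw [Fintype.linearIndependent_iff]
    intro g hg i
    have h6 := hind (fun k => if h : k < u then g ⟨k, h⟩ • w else 0) (fun k => by
      by_cases h : k < u
      · simp only [h, dif_pos]; exact Submodule.smul_mem _ _ hw
      · simp only [h, dif_neg, not_false_iff]; exact Submodule.zero_mem _) (by
      rw [Finset.sum_range, ← hg]
      refine Finset.sum_congr rfl fun k _ => ?_
      simp only [k.2, dif_pos, map_smul]) i i.2
    simp only [i.2, dif_pos] at h6
    exact (smul_eq_zero.mp h6).resolve_right hw0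
  have h6 := hli.fintype_card_le_finrank
  rwa [Fintype.card_fin] at h6

/-- elements of `Z_u(H)` stabilise the atoms of `Z_v(H)` -/
theorem stab_atom (D : LinDat ρ e X) (hH : HC F H) {u v : ℕ} (hu : u.Prime) (huo : Odd u) (huF : (u : F) ≠ 0)
    (hv : v.Prime) (hvo : Odd v) (hvF : (v : F) ≠ 0) (huv : u ≠ v) (hgen : 2 * e v < v)
    (hdm : Dm X H u v) {m : ℕ} {f : Fin m → Y} (hf : Fm ρ e H v m f)
    {a z : Y} (ha : IsZ ρ e v a) (haH : a ∈ H)
    (hz : IsZ ρ e u z) (hzH : z ∈ H) : St ρ (Rg ρ a) z := by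
  by_contra hst
  obtain ⟨hev, heu, hun⟩ := moved_numbers D hH hu huF hv hvo hvF hgen ha haH hz hzH hst
  have hu2 := hu.two_le
  have hu3 : 3 ≤ u := by
    rcases huo with ⟨k, hk⟩
    omega
  clear hst hzH hz z haH ha a
  obtain ⟨z', hz'X, b', hb'X, hz', hb', hzb, c, hc1, hc2⟩ := D.de u v hu hv huv huo hvo huF hvF heu hev hun
  obtain ⟨y, hyz, hyb⟩ := hdm z' hz'X b' hb'X hzb hz'.1 hb'
  set z := y * z' * y⁻¹ with hzdef
  set b := y * b' * y⁻¹ with hbdef
  have hz : IsZ ρ e u z := hz'.conj y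
  have hcomm : z * b = b * z := by
    have h1 : z * b = y * (z' * b') * y⁻¹ := by rw [hzdef, hbdef]; group
    have h2 : b * z = y * (b' * z') * y⁻¹ := by rw [hzdef, hbdef]; group
    rw [h1, h2, hzb]
  have hc1' : ∀ w ∈ Rg ρ z, ρ b w = c • w := by
    intro w hw
    rw [hzdef, Rg_conj] at hw
    obtain ⟨w', hw', rfl⟩ := hw
    rw [hbdef, mul_ap, mul_ap, inv_ap, hc1 w' hw', map_smul]
  have hc2' : ∀ w, ρ b w = c • w → w ∈ Rg ρ z := by
    intro w hw
    rw [hzdef, Rg_conj]
    refine ⟨ρ y⁻¹ w, hc2 _ ?_, ap_inv ρ y w⟩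
    rw [hbdef, mul_ap, mul_ap] at hw
    have h3 := congrArg (ρ y⁻¹) hw
    rwa [inv_ap, map_smul] at h3
  -- `z` moves an atom
  obtain ⟨i, hi⟩ : ∃ i, ¬ St ρ (Rg ρ (f i)) z := by
    by_contra hcon
    push Not at hcon
    have h1 : ∀ i, z * f i = f i * z := by
      intro i
      by_contra hne
      obtain ⟨j, hj⟩ := norm_atom D hH hv hvo hvF hgen (hf.isZ i) (hf.mem i) hyz (hcon i)
      have h2 := (fr ρ hu hv hvF (hf.isZ i).1 hz.1 hj hne).1
      rw [(hf.isZ i).2, hev] at h2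
      have h3 := Nat.dvd_one.mp h2
      omega
    have h2 : ∀ i, ∀ w ∈ Rg ρ z, ρ (f i) w = w := by
      intro i
      rcases dicho D hu huo huF hz (h1 i) hvF (hf.isZ i).1 with h | h
      · exact h
      · exfalso
        have h3 : Rg ρ z ≤ Rg ρ (f i) := le_Rg_of_free (fun w hw => comm_Rg (h1 i) hw) h
        have h4 := Submodule.finrank_mono h3
        rw [finrank_Rg, finrank_Rg, hz.2, (hf.isZ i).2, hev, heu] at h4
        omega
    have h3 := hf.max _ h2
    rw [finrank_Rg, hz.2, hev, heu] at h3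
    omega
  set a := f i with hadef
  have ha : IsZ ρ e v a := hf.isZ i
  have haH : a ∈ H := hf.mem i
  have hne : Rg ρ a ≠ ⊥ := by
    intro h
    have h6 : finrank F (Rg ρ a) = 0 := by rw [h, finrank_bot]
    rw [finrank_Rg, ha.2] at h6
    omega
  obtain ⟨w, hw, hw0⟩ := Submodule.exists_mem_ne_zero_of_ne_bot hne
  have h1H : ∀ x ∈ H, x * a * x⁻¹ ∈ H := fun x hx => H.mul_mem (H.mul_mem hx haH) (H.inv_mem hx)
  have hrel : ρ (z * b) w - ρ b w - c • ρ z w + c • w = 0 := by
    have h1 := hc1' _ (sub_mem_Rg z w)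
    rw [map_sub, ← mul_ap, ← hcomm, smul_sub] at h1
    rw [h1]
    abel
  have hsz : ¬ St ρ (Rg ρ a) z := hi
  have hTwo : ∀ {g h : Y}, g ∈ H → h ∈ H → ¬ St ρ (Rg ρ a) (h⁻¹ * g) → ρ (h * a * h⁻¹) (ρ g w) = ρ g w :=
    fun hg hh hst => two D hH hv hvo hvF hgen ha haH hg hh hst hw
  have hself : ∀ g : Y, ρ g w ∈ Rg ρ (g * a * g⁻¹) := fun g => by rw [Rg_conj]; exact ⟨w, hw, rfl⟩
  -- `b` stabilises the atom
  have hsb : St ρ (Rg ρ a) b := by
    by_contra hsb
    by_cases hcase : St ρ (Rg ρ a) (z⁻¹ * b)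
    · have hzbH : z * b ∈ H := H.mul_mem hyz hyb
      have h1 : ρ ((z * b) * a * (z * b)⁻¹) (ρ b w) = ρ b w := hTwo hyb hzbH (by
        have h2 : (z * b)⁻¹ * b = z⁻¹ := by rw [hcomm]; group
        rw [h2]
        exact fun h => hsz h.of_inv)
      have h2 : ρ ((z * b) * a * (z * b)⁻¹) (ρ z w) = ρ z w := hTwo hyz hzbH (by
        have h2 : (z * b)⁻¹ * z = b⁻¹ := by group
        rw [h2]
        exact fun h => hsb h.of_inv)
      have h3 : ρ ((z * b) * a * (z * b)⁻¹) (ρ 1 w) = ρ 1 w := hTwo H.one_mem hzbH (by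
        rw [mul_one]
        intro h
        have h4 : St ρ (Rg ρ a) (z ^ 2) := by
          have h5 : z ^ 2 = (z * b) * (z⁻¹ * b)⁻¹ := by rw [pow_two]; group
          rw [h5]
          exact h.of_inv.mul hcase.inv
        exact ne_stab_pow hu hz.1 hsz (k := 2) (by
          intro hd
          have := Nat.le_of_dvd (by norm_num) hd
          omega) h4)
      rw [one_ap] at h3
      have h4 : ρ ((z * b) * a * (z * b)⁻¹) (ρ (z * b) w) = ρ (z * b) w := by
        have h5 : ρ (z * b) w = ρ b w + c • ρ z w - c • w := by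
          have := hrel
          rw [← sub_eq_zero, ← this]; abel
        rw [h5, map_sub, map_add, map_smul, map_smul, h1, h2, h3]
      have h5 := eq_zero_of_fix hvF (ha.conj (z * b)).1 (hself (z * b)) h4
      apply hw0
      have h6 := congrArg (ρ (z * b)⁻¹) h5
      rwa [inv_ap, map_zero] at h6
    · have h1 : ρ (b * a * b⁻¹) (ρ (z * b) w) = ρ (z * b) w := hTwo (H.mul_mem hyz hyb) hyb (by
        have h2 : b⁻¹ * (z * b) = z := by rw [hcomm]; group
        rw [h2]
        exact hsz)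
      have h2 : ρ (b * a * b⁻¹) (ρ z w) = ρ z w := hTwo hyz hyb (by
        intro h
        apply hcase
        have h3 : z⁻¹ * b = (b⁻¹ * z)⁻¹ := by group
        rw [h3]
        exact h.inv)
      have h3 : ρ (b * a * b⁻¹) (ρ 1 w) = ρ 1 w := hTwo H.one_mem hyb (by
        rw [mul_one]
        exact fun h => hsb h.of_inv)
      rw [one_ap] at h3
      have h4 : ρ (b * a * b⁻¹) (ρ b w) = ρ b w := by
        have h5 : ρ b w = ρ (z * b) w - c • ρ z w + c • w := by
          have := hrel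
          rw [← sub_eq_zero, ← neg_eq_zero, ← this]; abel
        rw [h5, map_add, map_sub, map_smul, map_smul, h1, h2, h3]
      have h5 := eq_zero_of_fix hvF (ha.conj b).1 (hself b) h4
      apply hw0
      have h6 := congrArg (ρ b⁻¹) h5
      rwa [inv_ap, map_zero] at h6
  -- `b` is the scalar `c` on the atom
  have h1 : finrank F (Rg ρ a) = 1 := by rw [finrank_Rg, ha.2, hev]
  obtain ⟨c', hc'⟩ : ∃ c' : F, ρ b w = c' • w := by
    obtain ⟨c', hc'⟩ := exists_smul_eq_of_finrank_eq_one h1 (x := (⟨w, hw⟩ : Rg ρ a))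
      (fun h => hw0 (congrArg Subtype.val h)) ⟨ρ b w, hsb w hw⟩
    exact ⟨c', (congrArg Subtype.val hc').symm⟩
  have h2 : ρ z w - w ≠ 0 := by
    intro h
    have h3 : ρ (1 * a * (1 : Y)⁻¹) (ρ z w) = ρ z w := hTwo hyz H.one_mem (by
      rw [inv_one, one_mul]; exact hsz)
    rw [one_mul, inv_one, mul_one, sub_eq_zero.mp h] at h3
    exact hw0 (eq_zero_of_fix hvF ha.1 hw h3)
  have h3 : c' = c := by
    have h4 := hc1' _ (sub_mem_Rg z w)
    have h5 : ρ b (ρ z w - w) = c' • (ρ z w - w) := by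
      rw [map_sub, ← mul_ap, ← hcomm, mul_ap, hc', map_smul, smul_sub]
    rw [h5] at h4
    have h6 : (c' - c) • (ρ z w - w) = 0 := by rw [sub_smul, h4, sub_self]
    exact sub_eq_zero.mp ((smul_eq_zero.mp h6).resolve_right h2)
  have h4 : w ∈ Rg ρ z := hc2' w (by rw [hc', h3])
  have h5 := norm_zero hz.1 h4
  exact hw0 (indep_translates D hH hv hvo hvF hgen ha haH hu hz.1 hyz hsz (fun _ => w) (fun _ => hw) h5 0 hu.pos)

/-- **the pair lemma** -/
theorem pair (D : LinDat ρ e X) (hH : HC F H) {u v : ℕ} (hu : u.Prime) (huo : Odd u) (huF : (u : F) ≠ 0)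
    (hv : v.Prime) (hvo : Odd v) (hvF : (v : F) ≠ 0) (huv : u ≠ v) (hgen : 2 * e v < v)
    (hdm : Dm X H u v) {m : ℕ} {f : Fin m → Y} (hf : Fm ρ e H v m f)
    {a z : Y} (ha : IsZ ρ e v a) (haH : a ∈ H)
    (hz : IsZ ρ e u z) (hzH : z ∈ H) : z * a = a * z ∨ (e v = u ∧ e u = u - 1) := by
  by_cases hne : z * a = a * z
  · exact Or.inl hne
  right
  have hst := stab_atom D hH hu huo huF hv hvo hvF huv hgen hdm hf ha haH hz hzH
  obtain ⟨j, hj⟩ := norm_atom D hH hv hvo hvF hgen ha haH hzH hst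
  obtain ⟨h1, h2⟩ := fr ρ hu hv hvF ha.1 hz.1 hj hne
  rw [ha.2] at h1 h2
  rw [hz.2] at h2
  have hu1 := hu.one_lt
  have h3 : e u ≤ u - 1 := Nat.le_of_dvd (by omega) (D.row.edvd u hu huF)
  have h4 : u ≤ e v := Nat.le_of_dvd (D.row.epos v hv hvF) h1
  have h5 : (u - 1) * e v ≤ (u - 1) * u := by
    refine h2.trans ?_
    rw [mul_comm (u - 1) u]
    exact Nat.mul_le_mul_left u h3
  have h6 : e v ≤ u := Nat.le_of_mul_le_mul_left h5 (by omega)
  have h7 : e v = u := le_antisymm h6 h4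
  refine ⟨h7, ?_⟩
  rw [h7, mul_comm (u - 1) u] at h2
  have := Nat.le_of_mul_le_mul_left h2 hu.pos
  omega

end Cfsg.Agent.H553.RV
end

-- part: H553/RV/LinD
section
/-!
# TEAM RV, R2 linear/unitary: the primes `v` with `e v = v - 1` (helper553)
-/

set_option autoImplicit false

namespace Cfsg.Agent.H553.RV

open Module Cfsg.Agent.H167.OP Cfsg.Agent.H170.HL Cfsg.Agent.H556.HallRowAbs Cfsg.Agent.H556.HallLB
  Cfsg.Agent.H556.HallSmallCen

variable {F : Type*} [Field F] {V : Type*} [AddCommGroup V] [Module F V] {Y : Type*} [Group Y]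
  {ρ : Representation F Y V} [FiniteDimensional F V] [Finite Y] {e : ℕ → ℕ} {X H : Subgroup Y}

/-- commuting elements of order `v` in small dimension -/
theorem cyc (h : RowDat ρ e) {v : ℕ} (hv : v.Prime) (hvo : Odd v) (hvF : (v : F) ≠ 0) {x c : Y} (hx : x ^ v = 1)
    (hx1 : x ≠ 1) (hc : c ^ v = 1) (hxc : x * c = c * x) (hdim : finrank F (CV ρ (Subgroup.closure {x, c})) < 2 * e v) :
    ∃ j : ℕ, c = x ^ j := by
  set D' : Subgroup Y := Subgroup.closure {x, c} with hD'
  have hS : ∀ a ∈ ({x, c} : Set Y), ∀ b ∈ ({x, c} : Set Y), a * b = b * a := by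
    intro a ha b hb
    simp only [Set.mem_insert_iff, Set.mem_singleton_iff] at ha hb
    rcases ha with rfl | rfl <;> rcases hb with rfl | rfl
    · rfl
    · exact hxc
    · exact hxc.symm
    · rfl
  have hab := comm_closure hS
  have hexp : ∀ a ∈ D', a ^ v = 1 := pow_closure hS (by
    intro a ha
    simp only [Set.mem_insert_iff, Set.mem_singleton_iff] at ha
    rcases ha with rfl | rfl
    · exact hx
    · exact hc)
  have hxD : x ∈ D' := Subgroup.subset_closure (by simp)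
  have hcD : c ∈ D' := Subgroup.subset_closure (by simp)
  have := Fact.mk hv
  have hcard : (Nat.card D' : F) ≠ 0 := by
    have hP : IsPGroup v D' := fun x => ⟨1, Subtype.ext (by rw [pow_one]; exact hexp x x.2)⟩
    obtain ⟨n, hn⟩ := IsPGroup.iff_card.mp hP
    rw [hn]; exact cardNeOfPow hvF
  obtain ⟨E, hE, -, hV⟩ := exists_VE ρ hv hvF hcard hab hexp ⟨x, hxD, fun h1 => hx1 (h.inj (by rw [h1, map_one]))⟩
  have hE1 : E = ⊥ := by
    rw [eq_bot_iff]
    intro y hy
    rw [Subgroup.mem_bot]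
    by_contra hy1
    have h3 := le_rk_of_ne h hv hvo hvF (hexp y (hE.1 hy)) hy1
    have h4 := h.lb v hv hvo hvF D' E hE.1 hab hexp hV
    have h5 : Disjoint (Rg ρ y) (VE ρ E D') := by
      rw [Submodule.disjoint_def]
      intro w hw hw'
      exact eq_zero_of_fix hvF (hexp y (hE.1 hy)) hw (hw'.1 y hy)
    have h6 : Rg ρ y ⊔ VE ρ E D' ≤ CV ρ D' := sup_le (range_le_CV ρ (hE.1 hy)) (VE_le_CV ρ hcard)
    have h7 := Submodule.finrank_mono h6
    have h8 := Submodule.finrank_sup_add_finrank_inf_eq (Rg ρ y) (VE ρ E D')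
    rw [h5.eq_bot, finrank_bot, finrank_Rg] at h8
    omega
  have h5 := hE.2 x hxD (by rw [hE1, Subgroup.mem_bot]; exact hx1) hcD
  rw [hE1, bot_sup_eq] at h5
  obtain ⟨j, hj⟩ := (mem_powers_iff_mem_zpowers (x := x) (y := c)).mpr h5
  exact ⟨j, hj.symm⟩

/-- the pair lemma in a `{u, v}`-group, `u < v`, `e u = u - 1`, `e v = v - 1` -/
theorem pair_uv (D : LinDat ρ e X) {K : Subgroup Y} (hK : HC F K) {u v : ℕ} (hu : u.Prime) (huo : Odd u)
    (huF : (u : F) ≠ 0) (hv : v.Prime) (hvo : Odd v) (hvF : (v : F) ≠ 0) (huv : u < v) (heu : e u = u - 1)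
    (hev : e v = v - 1) (hKuv : ∀ r : ℕ, r.Prime → r ∣ Nat.card K → r = u ∨ r = v) {a z : Y} (ha : IsZ ρ e v a)
    (haK : a ∈ K) (hz : IsZ ρ e u z) (hzK : z ∈ K) : z * a = a * z := by
  have := Fact.mk hv
  have hu2 := hu.two_le
  have hu3 : 3 ≤ u := by
    rcases huo with ⟨k, hk⟩
    omega
  by_contra hne
  set L : Subgroup Y := Subgroup.closure {z, a} with hL
  have hzL : z ∈ L := Subgroup.subset_closure (by simp)
  have haL : a ∈ L := Subgroup.subset_closure (by simp)
  have hLK : L ≤ K := by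
    rw [hL, Subgroup.closure_le]
    intro x hx
    simp only [Set.mem_insert_iff, Set.mem_singleton_iff] at hx
    rcases hx with rfl | rfl
    · exact hzK
    · exact haK
  have hdim : finrank F (CV ρ L) ≤ (u - 1) + (v - 1) := by
    have h1 : CV ρ L ≤ Rg ρ z ⊔ Rg ρ a := by
      rw [hL]
      refine CV_closure_le ?_
      intro x hx
      simp only [Set.mem_insert_iff, Set.mem_singleton_iff] at hx
      rcases hx with rfl | rfl
      · exact le_sup_left
      · exact le_sup_right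
    have h2 := (Submodule.finrank_mono h1).trans (Submodule.finrank_add_le_finrank_add_finrank _ _)
    rw [finrank_Rg, finrank_Rg, hz.2, ha.2, heu, hev] at h2
    exact h2
  let N : Subgroup Y := Subgroup.closure {x | x ∈ L ∧ ∃ k : ℕ, x ^ v ^ k = 1}
  have hNL : N ≤ L := by
    refine (Subgroup.closure_le L).mpr ?_
    exact fun x hx => hx.1
  have hNK := hK.mono (hNL.trans hLK)
  have haN : a ∈ N := Subgroup.subset_closure ⟨haL, 1, by rw [pow_one]; exact ha.1⟩
  have hza : z * a * z⁻¹ ∈ N := Subgroup.subset_closure ⟨L.mul_mem (L.mul_mem hzL haL) (L.inv_mem hzL), 1, by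
    rw [pow_one]; exact (ha.conj z).1⟩
  have hC : CenH v N := by
    intro y' hy' r hrp hrt R hR hn
    by_cases hd : r ∣ Nat.card N
    · have hru : r = u := by
        rcases hKuv r hrp (hd.trans (Subgroup.card_dvd_of_le (hNL.trans hLK))) with h | h
        · exact h
        · exact absurd h hrt
      have h1 := cen_below D.row hv hu huo huv huF (by omega) (Rows.beta_all D.row.inj v hv hvo hvF) N
        (((Submodule.finrank_mono (CV_mono ρ hNL)).trans hdim).trans (by omega)) (y := (y' : Y)) (by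
        obtain ⟨k, hk⟩ := hy'
        exact ⟨k, congrArg Subtype.val hk⟩) (R := R.map N.subtype) (Subgroup.map_subtype_le _) (by
        rintro _ ⟨x, hx, rfl⟩
        obtain ⟨k, hk⟩ := hR ⟨x, hx⟩
        rw [hru] at hk
        exact ⟨k, congrArg (fun z : R => ((z : N) : Y)) hk⟩) (by
        rintro _ ⟨x, hx, rfl⟩
        exact ⟨_, hn x hx, rfl⟩)
      intro d hd
      exact Subtype.ext (h1 d ⟨d, hd, rfl⟩)
    · intro d hdR
      obtain ⟨k, hk⟩ := hR ⟨d, hdR⟩
      have h1 : d ^ r ^ k = 1 := congrArg Subtype.val hk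
      have h5 : Nat.Coprime (r ^ k) (Nat.card N) := Nat.Coprime.pow_left _ ((Nat.Prime.coprime_iff_not_dvd hrp).mpr hd)
      have h6 : orderOf d ∣ 1 := by
        rw [← h5]
        exact Nat.dvd_gcd (orderOf_dvd_of_pow_eq_one h1) (orderOf_dvd_natCard d)
      rw [orderOf_eq_one_iff.mp (Nat.dvd_one.mp h6), mul_one, one_mul]
  have hgen : Subgroup.closure {x : N | ∃ k : ℕ, x ^ v ^ k = 1} = ⊤ := by
    rw [eq_top_iff, ← Subgroup.closure_closure_coe_preimage (k := {x : Y | x ∈ L ∧ ∃ k : ℕ, x ^ v ^ k = 1})]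
    apply Subgroup.closure_mono
    rintro ⟨x, hx⟩ ⟨-, k, hk⟩
    exact ⟨k, Subtype.ext hk⟩
  have hNp : IsPGroup v N := isPGroup_of_cenH hNK.sol hC hgen
  have ha1 : a ≠ 1 := by
    rintro rfl
    apply hne
    rw [mul_one, one_mul]
  have hnt : Nontrivial N := ⟨⟨⟨a, haN⟩, 1, fun h => ha1 (congrArg Subtype.val h)⟩⟩
  have hcn : Nontrivial (Subgroup.center N) := hNp.center_nontrivial
  obtain ⟨⟨⟨c', hc'N⟩, hc'⟩, hc'1⟩ := exists_ne (1 : Subgroup.center N)
  have hc'2 : c' ≠ 1 := fun h => hc'1 (Subtype.ext (Subtype.ext h))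
  obtain ⟨n, hn1, hn⟩ := exists_pow_prime (t := v) hc'2 (by
    obtain ⟨k, hk⟩ := hNp ⟨c', hc'N⟩
    exact ⟨k, congrArg Subtype.val hk⟩)
  set c := c' ^ n with hcdef
  have hcN : c ∈ N := N.pow_mem hc'N n
  have hcc : ∀ x ∈ N, x * c = c * x := by
    intro x hx
    have h1 : Commute x c' := congrArg Subtype.val (Subgroup.mem_center_iff.mp hc' ⟨x, hx⟩)
    exact h1.pow_right n
  have hd2 : ∀ x ∈ N, ∀ y ∈ N, finrank F (CV ρ (Subgroup.closure {x, y})) < 2 * e v := by
    intro x hx y hy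
    have h1 : Subgroup.closure {x, y} ≤ L := by
      rw [Subgroup.closure_le]
      intro b hb
      simp only [Set.mem_insert_iff, Set.mem_singleton_iff] at hb
      rcases hb with rfl | rfl
      · exact hNL hx
      · exact hNL hy
    have h2 := Submodule.finrank_mono (CV_mono ρ h1)
    rw [hev]
    omega
  obtain ⟨j₁, hj₁⟩ := cyc D.row hv hvo hvF ha.1 ha1 hn (hcc a haN) (hd2 a haN c hcN)
  obtain ⟨j₂, hj₂⟩ := cyc D.row hv hvo hvF hn hn1 (ha.conj z).1 (hcc _ hza).symm (hd2 c hcN _ hza)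
  have hj : z * a * z⁻¹ = a ^ (j₁ * j₂) := by rw [hj₂, hj₁, pow_mul]
  have h2 := (fr ρ hu hv hvF ha.1 hz.1 hj hne).2
  rw [ha.2, hz.2, heu, hev, mul_comm u (u - 1)] at h2
  have h3 : v - 1 ≤ u := Nat.le_of_mul_le_mul_left h2 (by omega)
  rcases huo with ⟨k, hk⟩
  rcases hvo with ⟨l, hl⟩
  omega

/-- **the primes with `e v = v - 1` are minimal** -/
theorem nongen (D : LinDat ρ e X) (hH : HC F H) {u v : ℕ} (hu : u.Prime) (hv : v.Prime)
    (huH : u ∣ Nat.card H) (hvH : v ∣ Nat.card H) (hui : ¬ u ∣ H.index) (hvi : ¬ v ∣ H.index) (huv : u < v)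
    (hev : e v = v - 1) (hdm : Dm X H v u) : False := by
  obtain ⟨hu2, huF⟩ := hH.ok u hu huH
  obtain ⟨hv2, hvF⟩ := hH.ok v hv hvH
  have huo : Odd u := hu.odd_of_ne_two hu2
  have hvo : Odd v := hv.odd_of_ne_two hv2
  have huY : u ∣ Nat.card Y := huH.trans (Subgroup.card_subgroup_dvd_card H)
  have hvY : v ∣ Nat.card Y := hvH.trans (Subgroup.card_subgroup_dvd_card H)
  have hu0 := hu.two_le
  have heule : e u ≤ u - 1 := Nat.le_of_dvd (by omega) (D.row.edvd u hu huF)
  by_cases hgen : 2 * e u < u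
  · obtain ⟨m, f, hf⟩ := exists_frame D hu huo huF huY hui
    obtain ⟨m', f', hf'⟩ := exists_frame D hv hvo hvF hvY hvi
    have hm' : 0 < m' := by
      by_contra h0
      have h1 := hf'.max ⊤ (fun i => absurd i.2 (by omega))
      obtain ⟨x, hx⟩ := @exists_prime_orderOf_dvd_card' _ _ _ v (Fact.mk hv) hvY
      have h2 := le_rk_of_ne D.row hv hvo hvF (y := x) (by rw [← hx]; exact pow_orderOf_eq_one x) (by
        rintro rfl
        rw [orderOf_one] at hx
        exact hv.one_lt.ne hx)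
      have h3 := Submodule.finrank_mono (le_top : Rg ρ x ≤ ⊤)
      rw [finrank_Rg] at h3
      omega
    have hc : ∀ i, f i * f' ⟨0, hm'⟩ = f' ⟨0, hm'⟩ * f i := by
      intro i
      rcases pair D hH hv hvo hvF hu huo huF huv.ne' hgen hdm hf (hf.isZ i) (hf.mem i) (hf'.isZ ⟨0, hm'⟩)
        (hf'.mem _) with h | h
      · exact h.symm
      · omega
    have h1 := e_le_of_comm D huF hv hvo hvF hf (hf'.isZ ⟨0, hm'⟩) hc
    omega
  · have heu : e u = u - 1 := by
      obtain ⟨k, hk⟩ := D.row.edvd u hu huF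
      have h1 : k ≠ 0 := by rintro rfl; omega
      have h2 : k < 2 := by
        by_contra h3
        have : e u * 2 ≤ e u * k := Nat.mul_le_mul_left _ (by omega)
        omega
      have h3 : k = 1 := by omega
      rw [h3, mul_one] at hk
      exact hk.symm
    -- the Hall `{u, v}`-subgroup
    obtain ⟨K, hKH, hKp, hKi⟩ : ∃ K : Subgroup Y, K ≤ H ∧ (∀ r : ℕ, r.Prime → r ∣ Nat.card K → r = u ∨ r = v) ∧
        ∀ r : ℕ, r.Prime → (r = u ∨ r = v) → ¬ r ∣ K.index := by
      obtain ⟨K, hK⟩ := Cfsg.Agent.OddOrderLocal.HallPi.exists_isPiHallOf hH.sol ({u, v} : Set ℕ)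
      refine ⟨K, hK.1, fun r hr hd => ?_, fun r hr hruv hd => ?_⟩
      · exact hK.2.1 r hr hd
      · rw [← Subgroup.relIndex_mul_index hK.1] at hd
        rcases (Nat.Prime.dvd_mul hr).mp hd with h | h
        · exact hK.2.2 r hr hruv h
        · rcases hruv with rfl | rfl
          · exact hui h
          · exact hvi h
    have hKC := hH.mono hKH
    obtain ⟨m, f, hf⟩ := exists_frame D hu huo huF huY (hKi u hu (Or.inl rfl))
    obtain ⟨m', f', hf'⟩ := exists_frame D hv hvo hvF hvY (hKi v hv (Or.inr rfl))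
    have hm' : 0 < m' := by
      by_contra h0
      have h1 := hf'.max ⊤ (fun i => absurd i.2 (by omega))
      obtain ⟨x, hx⟩ := @exists_prime_orderOf_dvd_card' _ _ _ v (Fact.mk hv) hvY
      have h2 := le_rk_of_ne D.row hv hvo hvF (y := x) (by rw [← hx]; exact pow_orderOf_eq_one x) (by
        rintro rfl
        rw [orderOf_one] at hx
        exact hv.one_lt.ne hx)
      have h3 := Submodule.finrank_mono (le_top : Rg ρ x ≤ ⊤)
      rw [finrank_Rg] at h3
      omega
    have hc : ∀ i, f i * f' ⟨0, hm'⟩ = f' ⟨0, hm'⟩ * f i := fun i =>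
      pair_uv D hKC hu huo huF hv hvo hvF huv heu hev hKp (hf'.isZ _) (hf'.mem _) (hf.isZ i) (hf.mem i)
    have h1 := e_le_of_comm D huF hv hvo hvF hf (hf'.isZ ⟨0, hm'⟩) hc
    omega

end Cfsg.Agent.H553.RV
end

private theorem dce_f7d58009cb1c : _root_.True := by
  try have : _root_.True := by simp only [_root_.Cfsg.Agent.H553.RV.Bt.eq_1]
  try have : _root_.True := by simp only [_root_.Cfsg.Agent.H167.OP.rk.eq_1]
  exact _root_.True.intro
end

-- part: H553/RV/LinE
section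
prune_inst 0x106004142200000018000210002404b400009000630000c00000440900c341200027013030100000d486c04009006000000000000000000000020040040020802b420213500c04350087809800000000000000000000000000000000000000000000000
set_option linter.all false
open scoped Cfsg.Agent.FastGrp

/-!
# TEAM RV, R2 linear/unitary: the atoms are stable (helper553)
-/

set_option autoImplicit false
set_option linter.unusedSectionVars false

namespace Cfsg.Agent.H553.RV

open Module Cfsg.Agent.H167.OP Cfsg.Agent.H170.HL Cfsg.Agent.H556.HallRowAbs Cfsg.Agent.H556.HallLB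
  Cfsg.Agent.H556.HallSmallCen

variable {F : Type*} [Field F] {V : Type*} [AddCommGroup V] [Module F V] {Y : Type*} [Group Y]
  {ρ : Representation F Y V}

/-- the stabiliser of a subspace -/
def NW [Finite Y] (ρ : Representation F Y V) (W : Submodule F V) : Subgroup Y where
  carrier := {g | St ρ W g}
  mul_mem' ha hb := ha.mul hb
  one_mem' := fun w hw => by rw [one_ap]; exact hw
  inv_mem' ha := ha.inv

/-- the representation on a stable subspace -/
noncomputable def resW [Finite Y] (ρ : Representation F Y V) (W : Submodule F V) : NW ρ W →* Module.End F W where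
  toFun g := (ρ g).restrict (fun w hw => g.2 w hw)
  map_one' := by
    ext w
    simp [LinearMap.restrict_apply]
  map_mul' a b := by
    ext w
    simp [LinearMap.restrict_apply]

/-- the local Frobenius count -/
theorem fr_local [FiniteDimensional F V] [Finite Y] {u v j : ℕ} (hu : u.Prime) (hv : v.Prime) (hvF : (v : F) ≠ 0)
    {a z : Y} {W : Submodule F V} (haW : St ρ W a) (hzW : St ρ W z) (hfree : ∀ w ∈ W, ρ a w = w → w = 0)
    (ha : a ^ v = 1) (hz : z ^ u = 1) (hj : z * a * z⁻¹ = a ^ j) (hne : z * a ≠ a * z) :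
    (u - 1) * finrank F W ≤ u * finrank F (Rg ρ z ⊓ W : Submodule F V) := by
  let a' : NW ρ W := ⟨a, haW⟩
  let z' : NW ρ W := ⟨z, hzW⟩
  have h1 := (fr (Y := NW ρ W) (resW ρ W) hu hv hvF (a := a') (z := z') (j := j) (Subtype.ext ha) (Subtype.ext hz)
    (Subtype.ext hj) (fun h => hne (congrArg Subtype.val h))).2
  have h2 : rk (resW ρ W) a' = finrank F W := by
    rw [rk]
    have h3 : LinearMap.ker (resW ρ W a' - 1) = ⊥ := by
      rw [LinearMap.ker_eq_bot']
      intro w hw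
      apply Subtype.ext
      apply hfree w w.2
      have h4 : ((resW ρ W a' - 1) w : W) = (0 : W) := hw
      have h5 : ρ a w - (w : V) = 0 := congrArg Subtype.val h4
      exact sub_eq_zero.mp h5
    have h4 := LinearMap.finrank_range_add_finrank_ker (resW ρ W a' - 1)
    rw [h3, finrank_bot, add_zero] at h4
    exact h4
  have h3 : rk (resW ρ W) z' ≤ finrank F (Rg ρ z ⊓ W : Submodule F V) := by
    rw [rk]
    have h4 : finrank F (LinearMap.range (resW ρ W z' - 1)) =
        finrank F ((LinearMap.range (resW ρ W z' - 1)).map W.subtype) :=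
      LinearEquiv.finrank_eq (Submodule.equivMapOfInjective W.subtype W.injective_subtype _)
    rw [h4]
    apply Submodule.finrank_mono
    rintro _ ⟨_, ⟨w, rfl⟩, rfl⟩
    exact ⟨⟨w, rfl⟩, ((resW ρ W z' - 1) w).2⟩
  rw [h2] at h1
  exact h1.trans (Nat.mul_le_mul_left u h3)

variable [FiniteDimensional F V] [Finite Y] {e : ℕ → ℕ} {X H : Subgroup Y}

/-- the context -/
structure Cx (ρ : Representation F Y V) (e : ℕ → ℕ) (X H : Subgroup Y) : Prop where
  D : LinDat ρ e X
  hH : HC F H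
  idx : ∀ t : ℕ, t.Prime → t ∣ Nat.card H → ¬ t ∣ H.index
  dm : ∀ u v : ℕ, u.Prime → v.Prime → u ∣ Nat.card H → v ∣ Nat.card H → Dm X H u v

theorem Cx.odd (C : Cx ρ e X H) {t : ℕ} (ht : t.Prime) (hd : t ∣ Nat.card H) : Odd t :=
  ht.odd_of_ne_two (C.hH.ok t ht hd).1

theorem Cx.ne (C : Cx ρ e X H) {t : ℕ} (ht : t.Prime) (hd : t ∣ Nat.card H) : (t : F) ≠ 0 := (C.hH.ok t ht hd).2

theorem Cx.frame (C : Cx ρ e X H) {t : ℕ} (ht : t.Prime) (hd : t ∣ Nat.card H) :
    ∃ (m : ℕ) (z : Fin m → Y), Fm ρ e H t m z :=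
  exists_frame C.D ht (C.odd ht hd) (C.ne ht hd) (hd.trans (Subgroup.card_subgroup_dvd_card H)) (C.idx t ht hd)

/-- frames are not empty -/
theorem Cx.pos (C : Cx ρ e X H) {t : ℕ} (ht : t.Prime) (hd : t ∣ Nat.card H) {m : ℕ} {f : Fin m → Y}
    (hf : Fm ρ e H t m f) : 0 < m := by
  by_contra h0
  have h1 := hf.max ⊤ (fun i => absurd i.2 (by omega))
  obtain ⟨x, hx⟩ := @exists_prime_orderOf_dvd_card' _ _ _ t (Fact.mk ht) (hd.trans (Subgroup.card_subgroup_dvd_card H))
  have h2 := le_rk_of_ne C.D.row ht (C.odd ht hd) (C.ne ht hd) (y := x) (by rw [← hx]; exact pow_orderOf_eq_one x) (by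
    rintro rfl
    rw [orderOf_one] at hx
    exact ht.one_lt.ne hx)
  have h3 := Submodule.finrank_mono (le_top : Rg ρ x ≤ ⊤)
  rw [finrank_Rg] at h3
  omega

/-- primes which are not minimal are generic -/
theorem Cx.gen (C : Cx ρ e X H) {r t : ℕ} (hr : r.Prime) (hrH : r ∣ Nat.card H) (ht : t.Prime)
    (htH : t ∣ Nat.card H) (hrt : r < t) : 2 * e t < t := by
  by_contra hcon
  have h0 := ht.two_le
  have het : e t = t - 1 := by
    obtain ⟨k, hk⟩ := C.D.row.edvd t ht (C.ne ht htH)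
    have h1 : k ≠ 0 := by rintro rfl; omega
    have h2 : k < 2 := by
      by_contra h3
      have : e t * 2 ≤ e t * k := Nat.mul_le_mul_left _ (by omega)
      omega
    have h3 : k = 1 := by omega
    rw [h3, mul_one] at hk
    exact hk.symm
  exact nongen C.D C.hH hr ht hrH htH (C.idx r hr hrH) (C.idx t ht htH) hrt het (C.dm t r ht hr htH hrH)

/-- case `e t = r`, `e r = r - 1`: every atom contains a vector fixed by the frame -/
theorem Cx.gamma_fix (C : Cx ρ e X H) {r t : ℕ} (hr : r.Prime) (hrH : r ∣ Nat.card H) (ht : t.Prime)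
    (htH : t ∣ Nat.card H) (hrt : r < t) (het : e t = r) (her : e r = r - 1) {m : ℕ} {f : Fin m → Y}
    (hf : Fm ρ e H r m f) {a : Y} (ha : IsZ ρ e t a) (haH : a ∈ H) :
    ∃ w ∈ Rg ρ a, w ≠ 0 ∧ ∀ i, ρ (f i) w = w := by
  obtain ⟨m', f', hf'⟩ := C.frame ht htH
  have hgen := C.gen hr hrH ht htH hrt
  have hr3 : 3 ≤ r := by
    have h1 := hr.two_le
    rcases C.odd hr hrH with ⟨k, hk⟩
    omega
  have hst : ∀ i, St ρ (Rg ρ a) (f i) := fun i =>
    stab_atom C.D C.hH hr (C.odd hr hrH) (C.ne hr hrH) ht (C.odd ht htH) (C.ne ht htH) hrt.ne hgen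
      (C.dm r t hr ht hrH htH) hf' ha haH (hf.isZ i) (hf.mem i)
  have hsta : St ρ (Rg ρ a) a := fun w hw => map_Rg hw
  have hfree : ∀ w ∈ Rg ρ a, ρ a w = w → w = 0 := fun w hw h => eq_zero_of_fix (C.ne ht htH) ha.1 hw h
  -- a lower bound for the intersection
  have hbig : ∀ i, (¬ ∀ w ∈ Rg ρ a, ρ (f i) w = w) → r - 1 ≤ finrank F (Rg ρ (f i) ⊓ Rg ρ a : Submodule F V) := by
    intro i hi
    have hne : f i * a ≠ a * f i := by
      intro hc
      rcases dicho C.D ht (C.odd ht htH) (C.ne ht htH) ha hc.symm (C.ne hr hrH) (hf.isZ i).1 with h | h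
      · exact hi h
      · have h2 : Rg ρ a ≤ Rg ρ (f i) := le_Rg_of_free (hst i) h
        have h3 := Submodule.finrank_mono h2
        rw [finrank_Rg, finrank_Rg, ha.2, (hf.isZ i).2] at h3
        omega
    obtain ⟨j, hj⟩ := norm_atom C.D C.hH ht (C.odd ht htH) (C.ne ht htH) hgen ha haH (hf.mem i) (hst i)
    have h1 := fr_local hr ht (C.ne ht htH) hsta (hst i) hfree ha.1 (hf.isZ i).1 hj hne
    rw [finrank_Rg, ha.2, het, mul_comm (r - 1) r] at h1
    exact Nat.le_of_mul_le_mul_left h1 hr.pos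
  have hne0 : Rg ρ a ≠ ⊥ := by
    intro h
    have h6 : finrank F (Rg ρ a) = 0 := by rw [h, finrank_bot]
    rw [finrank_Rg, ha.2] at h6
    omega
  by_cases hall : ∀ i, ∀ w ∈ Rg ρ a, ρ (f i) w = w
  · obtain ⟨w, hw, hw0⟩ := Submodule.exists_mem_ne_zero_of_ne_bot hne0
    exact ⟨w, hw, hw0, fun i => hall i w hw⟩
  · push Not at hall
    obtain ⟨i, w₀, hw₀, hi₀⟩ := hall
    have hi : ¬ ∀ w ∈ Rg ρ a, ρ (f i) w = w := fun h => hi₀ (h w₀ hw₀)
    have hother : ∀ k, k ≠ i → ∀ w ∈ Rg ρ a, ρ (f k) w = w := by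
      intro k hki
      by_contra hk
      have h1 := hbig i hi
      have h2 := hbig k hk
      have h3 : Disjoint (Rg ρ (f i) ⊓ Rg ρ a) (Rg ρ (f k) ⊓ Rg ρ a) := by
        rw [Submodule.disjoint_def]
        rintro w ⟨hw, -⟩ ⟨hw', -⟩
        refine eq_zero_of_fix (C.ne hr hrH) (hf.isZ i).1 hw ?_
        obtain ⟨v, rfl⟩ := mem_Rg.mp hw'
        exact hf.ind i k hki.symm v
      have h4 := Submodule.finrank_sup_add_finrank_inf_eq (Rg ρ (f i) ⊓ Rg ρ a) (Rg ρ (f k) ⊓ Rg ρ a)
      rw [h3.eq_bot, finrank_bot] at h4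
      have h5 := Submodule.finrank_mono (sup_le inf_le_right inf_le_right :
        (Rg ρ (f i) ⊓ Rg ρ a) ⊔ (Rg ρ (f k) ⊓ Rg ρ a) ≤ Rg ρ a)
      rw [finrank_Rg, ha.2, het] at h5
      omega
    obtain ⟨w, hw, hw0, hwi⟩ : ∃ w ∈ Rg ρ a, w ≠ 0 ∧ ρ (f i) w = w := by
      by_contra hcon
      push Not at hcon
      have h2 : Rg ρ a ≤ Rg ρ (f i) := le_Rg_of_free (hst i) fun w hw h => by
        by_contra hw0
        exact hcon w hw hw0 h
      have h3 := Submodule.finrank_mono h2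
      rw [finrank_Rg, finrank_Rg, ha.2, (hf.isZ i).2] at h3
      omega
    refine ⟨w, hw, hw0, fun k => ?_⟩
    by_cases hki : k = i
    · rw [hki]; exact hwi
    · exact hother k hki w hw

/-- case `e t = e r`: the frames have the same supports -/
theorem Cx.same_atom (C : Cx ρ e X H) {u v : ℕ} (hu : u.Prime) (huH : u ∣ Nat.card H) (hv : v.Prime)
    (hvH : v ∣ Nat.card H) (huv : e u = e v) {m : ℕ} {f : Fin m → Y} (hf : Fm ρ e H u m f) {a : Y}
    (ha : IsZ ρ e v a) (hc : ∀ i, f i * a = a * f i) : ∃ i, Rg ρ a = Rg ρ (f i) := by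
  have h1 : ¬ ∀ i, ∀ w ∈ Rg ρ a, ρ (f i) w = w := by
    intro h
    have := hf.max (Rg ρ a) h
    rw [finrank_Rg, ha.2] at this
    omega
  push Not at h1
  obtain ⟨i, w, hw, hwi⟩ := h1
  refine ⟨i, ?_⟩
  rcases dicho C.D hv (C.odd hv hvH) (C.ne hv hvH) ha (hc i).symm (C.ne hu huH) (hf.isZ i).1 with h | h
  · exact absurd (h w hw) hwi
  · apply Submodule.eq_of_le_of_finrank_eq
    · exact le_Rg_of_free (fun w hw => comm_Rg (hc i).symm hw) h
    · rw [finrank_Rg, finrank_Rg, ha.2, (hf.isZ i).2, huv]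

/-- the supports of a frame are distinct -/
theorem Cx.frame_inj (C : Cx ρ e X H) {u : ℕ} (hu : u.Prime) (huH : u ∣ Nat.card H) {m : ℕ} {f : Fin m → Y}
    (hf : Fm ρ e H u m f) {i j : Fin m} (h : Rg ρ (f i) = Rg ρ (f j)) : i = j := by
  by_contra hij
  have h1 : Rg ρ (f i) = ⊥ := by
    rw [eq_bot_iff]
    intro w hw
    rw [Submodule.mem_bot]
    refine eq_zero_of_fix (C.ne hu huH) (hf.isZ i).1 hw ?_
    rw [h] at hw
    obtain ⟨v, rfl⟩ := mem_Rg.mp hw
    exact hf.ind i j hij v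
  have h2 : finrank F (Rg ρ (f i)) = 0 := by rw [h1, finrank_bot]
  rw [finrank_Rg, (hf.isZ i).2] at h2
  have := C.D.row.epos u hu (C.ne hu huH)
  omega

/-- the image of `H` in the symmetric group of a frame -/
theorem Cx.perm_hall (C : Cx ρ e X H) {u : ℕ} (hu : u.Prime) (huH : u ∣ Nat.card H) {m : ℕ} {f : Fin m → Y}
    (hf : Fm ρ e H u m f) (hst : ∀ h ∈ H, ∀ i, ∃ i', (Rg ρ (f i)).map (ρ h) = Rg ρ (f i')) :
    IsEPiGroup {p : ℕ | p ∣ Nat.card H} (Equiv.Perm (Fin m)) := by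
  classical
  let N : Subgroup Y :=
    { carrier := {y | ∃ σ : Equiv.Perm (Fin m), ∀ i, (Rg ρ (f i)).map (ρ y) = Rg ρ (f (σ i))}
      mul_mem' := by
        rintro x y ⟨σ, hσ⟩ ⟨τ, hτ⟩
        refine ⟨σ * τ, fun i => ?_⟩
        rw [map_mul, Module.End.mul_eq_comp, Submodule.map_comp, hτ, hσ]
        rfl
      one_mem' := ⟨1, fun i => by
        rw [map_one, Module.End.one_eq_id, Submodule.map_id]
        rfl⟩
      inv_mem' := by
        rintro x ⟨σ, hσ⟩
        refine ⟨σ⁻¹, fun i => ?_⟩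
        have h1 := hσ (σ⁻¹ i)
        rw [show σ (σ⁻¹ i) = i from σ.apply_symm_apply i] at h1
        rw [← h1, ← Submodule.map_comp, ← Module.End.mul_eq_comp, ← map_mul, inv_mul_cancel, map_one,
          Module.End.one_eq_id, Submodule.map_id] }
  have hinj : ∀ {i j}, Rg ρ (f i) = Rg ρ (f j) → i = j := fun h => C.frame_inj hu huH hf h
  have hmapinj : ∀ y : Y, Function.Injective (fun W : Submodule F V => W.map (ρ y)) := by
    intro y W W' h
    have h1 := congrArg (fun U : Submodule F V => U.map (ρ y⁻¹)) h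
    simp only [← Submodule.map_comp, ← Module.End.mul_eq_comp, ← map_mul, inv_mul_cancel, map_one,
      Module.End.one_eq_id, Submodule.map_id] at h1
    exact h1
  choose s hs using fun y : N => y.2
  have huniq : ∀ (y : N) (σ : Equiv.Perm (Fin m)), (∀ i, (Rg ρ (f i)).map (ρ y) = Rg ρ (f (σ i))) → s y = σ := by
    intro y σ hσ
    ext i
    have h1 := (hs y i).symm.trans (hσ i)
    rw [hinj h1]
  let φ : N →* Equiv.Perm (Fin m) :=
    { toFun := s
      map_one' := huniq 1 1 fun i => by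
        show (Rg ρ (f i)).map (ρ (1 : Y)) = _
        rw [map_one, Module.End.one_eq_id, Submodule.map_id]
        rfl
      map_mul' := fun x y => huniq (x * y) (s x * s y) fun i => by
        show (Rg ρ (f i)).map (ρ ((x : Y) * (y : Y))) = _
        rw [map_mul, Module.End.mul_eq_comp, Submodule.map_comp, hs y, hs x]
        rfl }
  have hφ : Function.Surjective φ := by
    intro σ
    obtain ⟨y, hy⟩ := hf.perm σ
    have h1 : ∀ i, (Rg ρ (f i)).map (ρ y) = Rg ρ (f (σ i)) := fun i => by rw [← hy i, Rg_conj]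
    exact ⟨⟨y, σ, h1⟩, huniq _ σ h1⟩
  have hHN : H ≤ N := by
    intro h hh
    choose g hg using hst h hh
    have hgi : Function.Injective g := by
      intro i j hij
      apply hinj
      apply hmapinj h
      show (Rg ρ (f i)).map (ρ h) = (Rg ρ (f j)).map (ρ h)
      rw [hg, hg, hij]
    exact ⟨Equiv.ofBijective g (Finite.injective_iff_bijective.mp hgi), fun i => hg i⟩
  refine ⟨(H.subgroupOf N).map φ, fun p hp hd => ?_, fun p hp hpH hd => ?_⟩
  · have h1 : Nat.card ((H.subgroupOf N).map φ) ∣ Nat.card (H.subgroupOf N) :=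
      Subgroup.card_map_dvd (H.subgroupOf N) φ
    have h2 : Nat.card (H.subgroupOf N) = Nat.card H := Nat.card_congr (Subgroup.subgroupOfEquivOfLe hHN).toEquiv
    rw [h2] at h1
    exact hd.trans h1
  · have h1 : ((H.subgroupOf N).map φ).index ∣ (H.subgroupOf N).index := Subgroup.index_map_dvd _ hφ
    have h2 : H.relIndex N ∣ H.index := ⟨N.index, (Subgroup.relIndex_mul_index hHN).symm⟩
    exact C.idx p hp hpH (hd.trans (h1.trans h2))

end Cfsg.Agent.H553.RV
end
end

-- part: H380/RV/Lin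
section
set_option linter.all false
open scoped Cfsg.Agent.FastGrp

-- part: H380/RV/Blk
section
/-!
# TEAM RV, R2: block matrices preserving a form `Σ φ(u_i, v_i)` (helper380)
-/

set_option autoImplicit false
set_option linter.unusedSectionVars false
set_option linter.unusedSimpArgs false

namespace Cfsg.Agent.H380.RV

open Matrix

section

variable {F : Type*} [Field F] (φ : F → F → F)

/-- the form `Σ φ(u_i, v_i)` -/
def Bf {ι : Type*} [Fintype ι] (u v : ι → F) : F := ∑ i, φ (u i) (v i)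

/-- `M` preserves the form -/
def Pres {ι : Type*} [Fintype ι] (M : Matrix ι ι F) : Prop :=
  ∀ u v : ι → F, Bf φ (M *ᵥ u) (M *ᵥ v) = Bf φ u v

variable {φ}

theorem Pres.one {ι : Type*} [Fintype ι] [DecidableEq ι] : Pres φ (1 : Matrix ι ι F) := by
  intro u v
  rw [one_mulVec, one_mulVec]

theorem Pres.mul {ι : Type*} [Fintype ι] {M N : Matrix ι ι F} (hM : Pres φ M) (hN : Pres φ N) :
    Pres φ (M * N) := by
  intro u v
  rw [← mulVec_mulVec, ← mulVec_mulVec, hM, hN]

theorem ext_mulVec {ι : Type*} [Fintype ι] [DecidableEq ι] {M N : Matrix ι ι F} (h : ∀ v, M *ᵥ v = N *ᵥ v) : M = N :=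
  Matrix.toLin'.injective (LinearMap.ext fun v => by rw [toLin'_apply, toLin'_apply, h])

end

section Blk

variable {F : Type*} [Field F] {φ : F → F → F} {α κ l ι : Type*} [Fintype α] [Fintype κ] [Fintype l] [Fintype ι]
  [DecidableEq α] [DecidableEq κ] [DecidableEq l] [DecidableEq ι]

/-- block diagonal matrices -/
def Ps (ε : (α × κ) ⊕ l ≃ ι) (M : κ → Matrix α α F) (D : l → F) : Matrix ι ι F :=
  Matrix.reindex ε ε (fromBlocks (blockDiagonal M) 0 0 (diagonal D))

theorem Ps_mul (ε : (α × κ) ⊕ l ≃ ι) (M N : κ → Matrix α α F) (D D' : l → F) :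
    Ps ε (M * N) (D * D') = Ps ε M D * Ps ε N D' := by
  rw [Ps, Ps, Ps, reindex_apply, reindex_apply, reindex_apply, submatrix_mul_equiv, fromBlocks_multiply]
  congr 1
  simp only [Matrix.mul_zero, Matrix.zero_mul, add_zero, zero_add, diagonal_mul_diagonal]
  rw [← blockDiagonal_mul]
  rfl

theorem Ps_one (ε : (α × κ) ⊕ l ≃ ι) : Ps ε (1 : κ → Matrix α α F) (1 : l → F) = 1 := by
  rw [Ps, blockDiagonal_one, diagonal_one', fromBlocks_one, reindex_apply, submatrix_one_equiv]

theorem Ps_inl (ε : (α × κ) ⊕ l ≃ ι) (M : κ → Matrix α α F) (D : l → F) (v : ι → F) (a : α) (i : κ) :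
    (Ps ε M D *ᵥ v) (ε (Sum.inl (a, i))) = (M i *ᵥ fun b => v (ε (Sum.inl (b, i)))) a := by
  rw [Ps, reindex_apply, mulVec, dotProduct, mulVec, dotProduct, ← ε.sum_comp, Fintype.sum_sum_type,
    Fintype.sum_prod_type]
  simp only [submatrix_apply, Equiv.symm_apply_apply, fromBlocks_apply₁₁, fromBlocks_apply₁₂, Matrix.zero_apply, zero_mul,
    Finset.sum_const_zero, add_zero, blockDiagonal_apply, ite_mul]
  simp only [_root_.Finset.sum_ite_eq, _root_.Finset.mem_univ, ↓ _root_.reduceIte]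

theorem Ps_inr (ε : (α × κ) ⊕ l ≃ ι) (M : κ → Matrix α α F) (D : l → F) (v : ι → F) (j : l) :
    (Ps ε M D *ᵥ v) (ε (Sum.inr j)) = D j * v (ε (Sum.inr j)) := by
  rw [Ps, reindex_apply, mulVec, dotProduct, ← ε.sum_comp, Fintype.sum_sum_type]
  simp only [submatrix_apply, Equiv.symm_apply_apply, fromBlocks_apply₂₁, fromBlocks_apply₂₂, Matrix.zero_apply, zero_mul,
    Finset.sum_const_zero, zero_add, diagonal_apply, ite_mul]
  simp only [_root_.Finset.sum_ite_eq, _root_.Finset.mem_univ, ↓ _root_.reduceIte]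

theorem Ps_det (ε : (α × κ) ⊕ l ≃ ι) (M : κ → Matrix α α F) (D : l → F) :
    (Ps ε M D).det = (∏ i, (M i).det) * ∏ j, D j := by
  rw [Ps, det_reindex_self, det_fromBlocks_zero₂₁, det_blockDiagonal, det_diagonal]

theorem Ps_pres (ε : (α × κ) ⊕ l ≃ ι) {M : κ → Matrix α α F} {D : l → F} (hM : ∀ i, Pres φ (M i))
    (hD : ∀ j a b, φ (D j * a) (D j * b) = φ a b) : Pres φ (Ps ε M D) := by
  intro u v
  rw [Bf, Bf, ← ε.sum_comp, ← ε.sum_comp (fun i => φ (u i) (v i)), Fintype.sum_sum_type, Fintype.sum_sum_type]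
  congr 1
  · rw [Fintype.sum_prod_type_right, Fintype.sum_prod_type_right]
    refine Finset.sum_congr rfl fun i _ => ?_
    simp only [Ps_inl]
    exact hM i (fun b => u (ε (Sum.inl (b, i)))) (fun b => v (ε (Sum.inl (b, i))))
  · refine Finset.sum_congr rfl fun j _ => ?_
    rw [Ps_inr, Ps_inr, hD]

/-- the embedding in one block -/
def Zi (ε : (α × κ) ⊕ l ≃ ι) (z : Matrix α α F) (i : κ) : Matrix ι ι F := Ps ε (Pi.mulSingle i z) 1

theorem Zi_inl (ε : (α × κ) ⊕ l ≃ ι) (z : Matrix α α F) (i : κ) (v : ι → F) (a : α) :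
    (Zi ε z i *ᵥ v) (ε (Sum.inl (a, i))) = (z *ᵥ fun b => v (ε (Sum.inl (b, i)))) a := by
  rw [Zi, Ps_inl, Pi.mulSingle_eq_same]

theorem Zi_inl_ne (ε : (α × κ) ⊕ l ≃ ι) (z : Matrix α α F) {i j : κ} (h : j ≠ i) (v : ι → F) (a : α) :
    (Zi ε z i *ᵥ v) (ε (Sum.inl (a, j))) = v (ε (Sum.inl (a, j))) := by
  rw [Zi, Ps_inl, Pi.mulSingle_eq_of_ne h, one_mulVec]

theorem Zi_inr (ε : (α × κ) ⊕ l ≃ ι) (z : Matrix α α F) (i : κ) (v : ι → F) (j : l) :
    (Zi ε z i *ᵥ v) (ε (Sum.inr j)) = v (ε (Sum.inr j)) := by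
  rw [Zi, Ps_inr, Pi.one_apply, one_mul]

theorem Zi_pow (ε : (α × κ) ⊕ l ≃ ι) (z : Matrix α α F) (i : κ) (n : ℕ) : Zi ε z i ^ n = Zi ε (z ^ n) i := by
  induction n with
  | zero => rw [pow_zero, pow_zero, Zi, Pi.mulSingle_one, Ps_one]
  | succ n ih => rw [pow_succ, ih, pow_succ, Zi, Zi, Zi, ← Ps_mul, one_mul, Pi.mulSingle_mul]

theorem Zi_pres (ε : (α × κ) ⊕ l ≃ ι) {z : Matrix α α F} (hz : Pres φ z) (i : κ) : Pres φ (Zi ε z i) := by
  refine Ps_pres ε (fun j => ?_) (fun j a b => by rw [Pi.one_apply, one_mul, one_mul])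
  by_cases h : j = i
  · subst h; rwa [Pi.mulSingle_eq_same]
  · rw [Pi.mulSingle_eq_of_ne h]; exact Pres.one

theorem Zi_one (ε : (α × κ) ⊕ l ≃ ι) (i : κ) : Zi ε (1 : Matrix α α F) i = 1 := by
  rw [Zi, Pi.mulSingle_one, Ps_one]

theorem Zi_inj (ε : (α × κ) ⊕ l ≃ ι) {z : Matrix α α F} {i : κ} (h : Zi ε z i = 1) : z = 1 := by
  refine ext_mulVec fun v => ?_
  funext a
  have h1 := Zi_inl ε z i (fun x => match ε.symm x with
    | Sum.inl (b, _) => v b
    | Sum.inr _ => 0) a
  simp only [Equiv.symm_apply_apply] at h1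
  rw [← h1, h, one_mulVec, one_mulVec]
  simp

theorem Zi_comm (ε : (α × κ) ⊕ l ≃ ι) (z : Matrix α α F) (i j : κ) : Zi ε z i * Zi ε z j = Zi ε z j * Zi ε z i := by
  rw [Zi, Zi, ← Ps_mul, ← Ps_mul]
  congr 1
  by_cases h : i = j
  · rw [h]
  · exact (Pi.mulSingle_commute (f := fun _ : κ => Matrix α α F) h z z).eq

/-- the block permutation -/
def Pm (ε : (α × κ) ⊕ l ≃ ι) (σ : Equiv.Perm κ) : Equiv.Perm ι :=
  (ε.symm.trans (Equiv.sumCongr (Equiv.prodCongr (Equiv.refl α) σ) (Equiv.refl l))).trans ε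

theorem Pm_inl (ε : (α × κ) ⊕ l ≃ ι) (σ : Equiv.Perm κ) (a : α) (i : κ) :
    Pm ε σ (ε (Sum.inl (a, i))) = ε (Sum.inl (a, σ i)) := by
  simp [Pm]

theorem Pm_inr (ε : (α × κ) ⊕ l ≃ ι) (σ : Equiv.Perm κ) (j : l) :
    Pm ε σ (ε (Sum.inr j)) = ε (Sum.inr j) := by
  simp [Pm]

theorem perm_mulVec (τ : Equiv.Perm ι) (v : ι → F) (x : ι) : (τ.permMatrix F *ᵥ v) x = v (τ x) := by
  rw [Matrix.permMatrix_mulVec]
  rfl

theorem perm_pres (τ : Equiv.Perm ι) : Pres φ (τ.permMatrix F) := by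
  intro u v
  rw [Bf, Bf, ← Equiv.sum_comp τ (fun i => φ (u i) (v i))]
  exact Finset.sum_congr rfl fun x _ => by rw [perm_mulVec, perm_mulVec]

theorem perm_conj (ε : (α × κ) ⊕ l ≃ ι) (z : Matrix α α F) (σ : Equiv.Perm κ) (i : κ) :
    (Pm ε σ⁻¹).permMatrix F * Zi ε z i = Zi ε z (σ i) * (Pm ε σ⁻¹).permMatrix F := by
  refine ext_mulVec fun v => ?_
  funext x
  obtain ⟨y, rfl⟩ := ε.surjective x
  rw [← mulVec_mulVec, ← mulVec_mulVec, perm_mulVec]
  rcases y with ⟨a, j⟩ | j
  · rw [Pm_inl]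
    by_cases h : j = σ i
    · subst h
      have hs : σ⁻¹ (σ i) = i := σ.symm_apply_apply i
      rw [hs, Zi_inl, Zi_inl]
      congr 1
      congr 1
      funext b
      rw [perm_mulVec, Pm_inl, hs]
    · rw [Zi_inl_ne _ _ h, perm_mulVec, Pm_inl, Zi_inl_ne]
      intro h1
      exact h (by rw [← h1]; exact (σ.apply_symm_apply j).symm)
  · rw [Pm_inr, Zi_inr, Zi_inr, perm_mulVec, Pm_inr]

end Blk

end Cfsg.Agent.H380.RV
end

-- part: H380/RV/Inst
section
/-!
# TEAM RV, R2: the data `LinDat` for groups of matrices preserving a form `Σ φ(u_i, v_i)` (helper380)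
-/

set_option autoImplicit false
set_option linter.unusedSectionVars false

namespace Cfsg.Agent.H380.RV

open Module Matrix Cfsg.Agent.H167.OP Cfsg.Agent.H170.HL Cfsg.Agent.H556.HallRowAbs Cfsg.Agent.H553.RV

section Form

variable {F : Type*} [Field F] {φ : F → F → F} {ι : Type*} [Fintype ι]

theorem Bf_add_left (hl : ∀ a b c, φ (a + b) c = φ a c + φ b c) (u u' v : ι → F) :
    Bf φ (u + u') v = Bf φ u v + Bf φ u' v := by
  rw [Bf, Bf, Bf, ← Finset.sum_add_distrib]
  exact Finset.sum_congr rfl fun i _ => hl _ _ _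

theorem Bf_add_right (hr : ∀ a b c, φ a (b + c) = φ a b + φ a c) (u v v' : ι → F) :
    Bf φ u (v + v') = Bf φ u v + Bf φ u v' := by
  rw [Bf, Bf, Bf, ← Finset.sum_add_distrib]
  exact Finset.sum_congr rfl fun i _ => hr _ _ _

/-- the form as a biadditive map -/
def BH (hl : ∀ a b c, φ (a + b) c = φ a c + φ b c) (hr : ∀ a b c, φ a (b + c) = φ a b + φ a c) :
    (ι → F) →+ (ι → F) →+ F where
  toFun u :=
    { toFun := fun v => Bf φ u v
      map_zero' := by
        have := Bf_add_right hr u 0 0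
        rw [add_zero] at this
        simpa using this
      map_add' := Bf_add_right hr u }
  map_zero' := by
    ext v
    have := Bf_add_left hl 0 0 v
    rw [add_zero] at this
    show Bf φ 0 v = 0
    simpa using this
  map_add' u u' := by
    ext v
    exact Bf_add_left hl u u' v

theorem BH_apply (hl : ∀ a b c, φ (a + b) c = φ a c + φ b c) (hr : ∀ a b c, φ a (b + c) = φ a b + φ a c)
    (u v : ι → F) : BH hl hr u v = Bf φ u v := rfl

end Form

section Rc

variable {F : Type*} [Field F] {φ : F → F → F} {ι : Type*} [Fintype ι] [DecidableEq ι] {Y : Type*} [Group Y] [Finite Y]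
  (ρ : Representation F Y (ι → F))

/-- `x` on `[V, z]` and `1` on `C_V(z)` -/
noncomputable def Tx (z x : Y) : Module.End F (ι → F) :=
  ρ x * (1 - avg ρ (Subgroup.zpowers z)) + avg ρ (Subgroup.zpowers z)

theorem Tx_apply (z x : Y) (v : ι → F) :
    Tx ρ z x v = ρ x (v - avg ρ (Subgroup.zpowers z) v) + avg ρ (Subgroup.zpowers z) v := rfl

theorem comm_zpowers {z x : Y} (h : z * x = x * z) : ∀ d ∈ Subgroup.zpowers z, x * d = d * x := by
  rintro _ ⟨n, rfl⟩
  exact (((show Commute z x from h).zpow_left n).eq).symm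

theorem avg_idem {z : Y} (hz : (Nat.card (Subgroup.zpowers z) : F) ≠ 0) (v : ι → F) :
    avg ρ (Subgroup.zpowers z) (avg ρ (Subgroup.zpowers z) v) = avg ρ (Subgroup.zpowers z) v :=
  avg_fixed ρ _ hz fun _ he => map_avg ρ _ he v

theorem Tx_mul {z x y : Y} (hz : (Nat.card (Subgroup.zpowers z) : F) ≠ 0) (hy : z * y = y * z) :
    Tx ρ z x * Tx ρ z y = Tx ρ z (x * y) := by
  refine LinearMap.ext fun v => ?_
  show Tx ρ z x (Tx ρ z y v) = _
  have h1 : avg ρ (Subgroup.zpowers z) (Tx ρ z y v) = avg ρ (Subgroup.zpowers z) v := by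
    rw [Tx_apply, map_add, ← avg_comm ρ _ (comm_zpowers hy), map_sub (avg ρ (Subgroup.zpowers z)), avg_idem ρ hz, sub_self,
      map_zero, zero_add]
  rw [Tx_apply, h1, Tx_apply, Tx_apply, add_sub_cancel_right, mul_ap]

theorem Tx_one (z : Y) : Tx ρ z 1 = 1 := by
  refine LinearMap.ext fun v => ?_
  rw [Tx_apply, one_ap, sub_add_cancel, Module.End.one_apply]

theorem Tx_unit {z x : Y} (hz : (Nat.card (Subgroup.zpowers z) : F) ≠ 0) (hx : z * x = x * z) : IsUnit (Tx ρ z x) := by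
  have hx' : z * x⁻¹ = x⁻¹ * z := by
    have : Commute z x := hx
    exact this.inv_right.eq
  refine ⟨⟨Tx ρ z x, Tx ρ z x⁻¹, ?_, ?_⟩, rfl⟩
  · rw [Tx_mul ρ hz hx', mul_inv_cancel, Tx_one]
  · rw [Tx_mul ρ hz hx, inv_mul_cancel, Tx_one]

theorem orth_avg (hl : ∀ a b c, φ (a + b) c = φ a c + φ b c) (hr : ∀ a b c, φ a (b + c) = φ a b + φ a c)
    (hiso : ∀ g u v, Bf φ (ρ g u) (ρ g v) = Bf φ u v) {D : Subgroup Y} (hD : (Nat.card D : F) ≠ 0) {u : ι → F}
    (hu : ∀ d ∈ D, ρ d u = u) (v : ι → F) :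
    Bf φ u (v - avg ρ D v) = 0 ∧ Bf φ (v - avg ρ D v) u = 0 := by
  classical
  have : Fintype D := Fintype.ofFinite D
  have h1 : (Nat.card D : ℕ) • (v - avg ρ D v) = ∑ d : D, (v - ρ d v) := by
    rw [avg_apply, smul_sub, Finset.sum_sub_distrib, Finset.sum_const, Finset.card_univ, Nat.card_eq_fintype_card,
      ← Nat.cast_smul_eq_nsmul F, ← Nat.cast_smul_eq_nsmul F, smul_smul, mul_inv_cancel₀, one_smul]
    rwa [← Nat.card_eq_fintype_card]
  constructor
  · have h2 : (Nat.card D : F) * Bf φ u (v - avg ρ D v) = 0 := by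
      rw [← nsmul_eq_mul, ← BH_apply hl hr, ← map_nsmul, h1, map_sum]
      refine Finset.sum_eq_zero fun d _ => ?_
      rw [map_sub, BH_apply, BH_apply]
      have h3 := hiso d u v
      rw [hu d d.2] at h3
      rw [h3, sub_self]
    exact (mul_eq_zero.1 h2).resolve_left hD
  · have h2 : (Nat.card D : F) * Bf φ (v - avg ρ D v) u = 0 := by
      rw [← nsmul_eq_mul, ← BH_apply hl hr, ← AddMonoidHom.nsmul_apply, ← map_nsmul, h1, map_sum, AddMonoidHom.finsetSum_apply]
      refine Finset.sum_eq_zero fun d _ => ?_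
      rw [map_sub, AddMonoidHom.sub_apply, BH_apply, BH_apply]
      have h3 := hiso d v u
      rw [hu d d.2] at h3
      rw [h3, sub_self]
    exact (mul_eq_zero.1 h2).resolve_left hD

theorem Tx_iso (hl : ∀ a b c, φ (a + b) c = φ a c + φ b c) (hr : ∀ a b c, φ a (b + c) = φ a b + φ a c)
    (hiso : ∀ g u v, Bf φ (ρ g u) (ρ g v) = Bf φ u v) {z x : Y} (hz : (Nat.card (Subgroup.zpowers z) : F) ≠ 0)
    (hx : z * x = x * z) (u v : ι → F) : Bf φ (Tx ρ z x u) (Tx ρ z x v) = Bf φ u v := by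
  set P := avg ρ (Subgroup.zpowers z) with hP
  have hfix : ∀ w, ∀ d ∈ Subgroup.zpowers z, ρ d (P w) = P w := fun w d hd => map_avg ρ _ hd w
  have hmove : ∀ w, ρ x (w - P w) = ρ x w - P (ρ x w) := by
    intro w
    rw [map_sub, hP, avg_comm ρ _ (comm_zpowers hx)]
  have h0 : ∀ w w', Bf φ (P w) (w' - P w') = 0 := fun w w' => (orth_avg ρ hl hr hiso hz (hfix w) w').1
  have h1 : ∀ w w', Bf φ (w' - P w') (P w) = 0 := fun w w' => (orth_avg ρ hl hr hiso hz (hfix w) w').2
  have e1 : Bf φ (Tx ρ z x u) (Tx ρ z x v) = Bf φ (u - P u) (v - P v) + Bf φ (P u) (P v) := by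
    rw [Tx_apply, Tx_apply, ← hP, Bf_add_left hl, Bf_add_right hr, Bf_add_right hr, hiso, hmove, hmove, h0, h1]
    ring
  have e2 : Bf φ u v = Bf φ (u - P u) (v - P v) + Bf φ (P u) (P v) := by
    have h4 : u = (u - P u) + P u := by abel
    have h5 : v = (v - P v) + P v := by abel
    conv_lhs => rw [h4, h5]
    rw [Bf_add_left hl, Bf_add_right hr, Bf_add_right hr, h0, h1]
    ring
  rw [e1, e2]

end Rc

section Rank

variable {F : Type*} [Field F] {ι : Type*} [Fintype ι] [DecidableEq ι] {Y : Type*} [Group Y] [Finite Y]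

theorem rk_eq {μ : Y →* Matrix ι ι F} {e : ℕ → ℕ} (row : RowDat (rep μ) e) {t : ℕ} (ht : t.Prime) (hodd : Odd t)
    (htF : (t : F) ≠ 0) {z : Y} (hz : z ^ t = 1) (hz1 : z ≠ 1) (hle : rk (rep μ) z ≤ e t) : rk (rep μ) z = e t := by
  refine le_antisymm hle ?_
  have : Fact t.Prime := ⟨ht⟩
  have ho : orderOf z = t := orderOf_eq_prime hz hz1
  have hD : (Nat.card (Subgroup.zpowers z) : F) ≠ 0 := by
    rw [Nat.card_zpowers, ho]
    exact htF
  have hne : VE (rep μ) ⊥ (Subgroup.zpowers z) ≠ ⊥ := by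
    intro hbot
    apply hz1
    apply row.inj
    rw [map_one]
    refine LinearMap.ext fun w => ?_
    have h1 : w - avg (rep μ) (Subgroup.zpowers z) w ∈ VE (rep μ) ⊥ (Subgroup.zpowers z) := by
      refine ⟨fun d hd => ?_, ?_⟩
      · rw [Subgroup.mem_bot.1 hd, one_ap]
      · rw [map_sub, avg_idem _ hD, sub_self]
    rw [hbot, Submodule.mem_bot, sub_eq_zero] at h1
    have h2 := map_avg (rep μ) (Subgroup.zpowers z) (Subgroup.mem_zpowers z) w
    rw [← h1] at h2
    exact h2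
  have h1 := row.lb t ht hodd htF (Subgroup.zpowers z) ⊥ bot_le (by
    rintro _ ⟨a, rfl⟩ _ ⟨b, rfl⟩
    exact ((Commute.refl z).zpow_zpow a b).eq) (by
    rintro _ ⟨a, rfl⟩
    show (z ^ a) ^ t = 1
    rw [← zpow_natCast, ← _root_.zpow_mul, mul_comm, _root_.zpow_mul, zpow_natCast, hz, _root_.one_zpow]) hne
  refine h1.trans (Submodule.finrank_mono ((VE_le_CV (rep μ) hD).trans ?_))
  rw [Subgroup.zpowers_eq_closure]
  refine CV_closure_le ?_
  rintro s hs
  rw [Set.mem_singleton_iff.1 hs]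

variable {α κ l : Type*} [Fintype α] [Fintype κ] [Fintype l] [DecidableEq α] [DecidableEq κ] [DecidableEq l]

/-- the block `i` -/
def Wi (F : Type*) [Field F] (ε : (α × κ) ⊕ l ≃ ι) (i : κ) : Submodule F (ι → F) where
  carrier := {v | (∀ a j, j ≠ i → v (ε (Sum.inl (a, j))) = 0) ∧ ∀ j, v (ε (Sum.inr j)) = 0}
  zero_mem' := ⟨fun _ _ _ => rfl, fun _ => rfl⟩
  add_mem' := by
    rintro a b ⟨h1, h2⟩ ⟨h3, h4⟩
    exact ⟨fun x j h => by rw [Pi.add_apply, h1 x j h, h3 x j h, add_zero], fun j => by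
      rw [Pi.add_apply, h2, h4, add_zero]⟩
  smul_mem' := by
    rintro c a ⟨h1, h2⟩
    exact ⟨fun x j h => by rw [Pi.smul_apply, h1 x j h, smul_zero], fun j => by rw [Pi.smul_apply, h2, smul_zero]⟩

theorem finrank_Wi (ε : (α × κ) ⊕ l ≃ ι) (i : κ) : finrank F (Wi F ε i) ≤ Fintype.card α := by
  let f : Wi F ε i →ₗ[F] (α → F) := (LinearMap.funLeft F F fun a => ε (Sum.inl (a, i))).comp (Wi F ε i).subtype
  have hf : Function.Injective f := by
    rw [← LinearMap.ker_eq_bot, LinearMap.ker_eq_bot']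
    rintro ⟨v, h1, h2⟩ hv
    apply Subtype.ext
    funext x
    obtain ⟨y, rfl⟩ := ε.surjective x
    rcases y with ⟨a, j⟩ | j
    · by_cases h : j = i
      · subst h
        exact congrFun hv a
      · exact h1 a j h
    · exact h2 j
  have := LinearMap.finrank_le_finrank_of_injective hf
  rwa [Module.finrank_fintype_fun_eq_card] at this

variable {μ : Y →* Matrix ι ι F}

theorem range_le_Wi (ε : (α × κ) ⊕ l ≃ ι) {z0 : Matrix α α F} {i : κ} {z : Y} (hz : μ z = Zi ε z0 i) :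
    LinearMap.range (rep μ z - 1) ≤ Wi F ε i := by
  rintro _ ⟨v, rfl⟩
  refine ⟨fun a j h => ?_, fun j => ?_⟩
  · show (μ z *ᵥ v) _ - v _ = 0
    rw [hz, Zi_inl_ne _ _ h, sub_self]
  · show (μ z *ᵥ v) _ - v _ = 0
    rw [hz, Zi_inr, sub_self]

theorem rk_Zi_le (ε : (α × κ) ⊕ l ≃ ι) {z0 : Matrix α α F} {i : κ} {z : Y} (hz : μ z = Zi ε z0 i) :
    rk (rep μ) z ≤ Fintype.card α :=
  (Submodule.finrank_mono (range_le_Wi ε hz)).trans (finrank_Wi ε i)

theorem range_eq_Wi (ε : (α × κ) ⊕ l ≃ ι) {z0 : Matrix α α F} {i : κ} {z : Y} (hz : μ z = Zi ε z0 i)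
    (h : rk (rep μ) z = Fintype.card α) : LinearMap.range (rep μ z - 1) = Wi F ε i := by
  apply Submodule.eq_of_le_of_finrank_le ((range_le_Wi ε hz :))
  exact (finrank_Wi ε i).trans h.symm.le

/-- no fixed vectors in the block -/
theorem fpf (ε : (α × κ) ⊕ l ≃ ι) {z0 : Matrix α α F} {i : κ} {z : Y} (hz : μ z = Zi ε z0 i)
    (h : rk (rep μ) z = Fintype.card α) {v : ι → F} (hv : rep μ z v = v) (a : α) : v (ε (Sum.inl (a, i))) = 0 := by
  -- `z0 - 1` is surjective
  have hsur : Function.Surjective (Matrix.toLin' z0 - 1 : Module.End F (α → F)) := by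
    intro w
    let w' : ι → F := fun x => match ε.symm x with
      | Sum.inl (b, j) => if j = i then w b else 0
      | Sum.inr _ => 0
    have hw' : w' ∈ Wi F ε i := by
      refine ⟨fun b j hj => ?_, fun j => ?_⟩
      · show (match ε.symm (ε (Sum.inl (b, j))) with
          | Sum.inl (b, j) => if j = i then w b else 0
          | Sum.inr _ => 0) = 0
        rw [Equiv.symm_apply_apply]
        exact if_neg hj
      · show (match ε.symm (ε (Sum.inr j)) with
          | Sum.inl (b, j) => if j = i then w b else 0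
          | Sum.inr _ => 0) = 0
        rw [Equiv.symm_apply_apply]
    rw [← range_eq_Wi ε hz h] at hw'
    obtain ⟨u, hu⟩ := hw'
    refine ⟨fun b => u (ε (Sum.inl (b, i))), ?_⟩
    funext b
    have h1 := congrFun hu (ε (Sum.inl (b, i)))
    have h2 : (rep μ z - 1) u (ε (Sum.inl (b, i))) = (μ z *ᵥ u) (ε (Sum.inl (b, i))) - u (ε (Sum.inl (b, i))) := rfl
    rw [h2, hz, Zi_inl] at h1
    have h3 : w' (ε (Sum.inl (b, i))) = w b := by
      show (match ε.symm (ε (Sum.inl (b, i))) with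
          | Sum.inl (b, j) => if j = i then w b else 0
          | Sum.inr _ => 0) = w b
      rw [Equiv.symm_apply_apply]
      exact if_pos rfl
    rw [h3] at h1
    exact h1
  have hinj := LinearMap.injective_iff_surjective.2 hsur
  have h1 : (Matrix.toLin' z0 - 1 : Module.End F (α → F)) (fun b => v (ε (Sum.inl (b, i)))) = 0 := by
    funext b
    have h2 := congrFun hv (ε (Sum.inl (b, i)))
    have h3 : rep μ z v (ε (Sum.inl (b, i))) = (μ z *ᵥ v) (ε (Sum.inl (b, i))) := rfl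
    rw [h3, hz, Zi_inl] at h2
    show (z0 *ᵥ fun b => v (ε (Sum.inl (b, i)))) b - v (ε (Sum.inl (b, i))) = 0
    rw [h2, sub_self]
  have h2 := hinj (h1.trans (map_zero _).symm)
  exact congrFun h2 a

end Rank

/-- the data of a matrix group -/
structure Dt {F : Type*} [Field F] {n : ℕ} {Y : Type*} [Group Y] [Finite Y] (φ : F → F → F)
    (μ : Y →* Matrix (Fin n) (Fin n) F) (e : ℕ → ℕ) : Prop where
  inj : Function.Injective μ
  pres : ∀ y, Pres φ (μ y)
  sur : ∀ M, IsUnit M → Pres φ M → ∃ y, μ y = M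
  addl : ∀ a b c, φ (a + b) c = φ a c + φ b c
  addr : ∀ a b c, φ a (b + c) = φ a b + φ a c
  row : RowDat (rep μ) e
  ex : ∀ t : ℕ, t.Prime → Odd t → (t : F) ≠ 0 → ∃ z : Matrix (Fin (e t)) (Fin (e t)) F, z ^ t = 1 ∧ z ≠ 1 ∧ Pres φ z
  det : ∀ u : ℕ, u.Prime → Odd u → (u : F) ≠ 0 → e u ≠ 1 → ∀ M : Matrix (Fin (e u)) (Fin (e u)) F, M ^ u = 1 →
    Pres φ M → M.det = 1

section Main

variable {F : Type*} [Field F] {n : ℕ} {Y : Type*} [Group Y] [Finite Y] {φ : F → F → F}
  {μ : Y →* Matrix (Fin n) (Fin n) F} {e : ℕ → ℕ}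

theorem Dt.rc (h : Dt φ μ e) (k : ℕ) (z x : Y) (hk : (k : F) ≠ 0) (hz : z ^ k = 1) (hx : z * x = x * z) :
    ∃ x' : Y, (∀ v ∈ LinearMap.range (rep μ z - 1), rep μ x' v = rep μ x v) ∧ ∀ v, rep μ z v = v → rep μ x' v = v := by
  have hD : (Nat.card (Subgroup.zpowers z) : F) ≠ 0 := by
    intro h0
    apply hk
    rw [Nat.card_zpowers] at h0
    obtain ⟨m, hm⟩ := orderOf_dvd_of_pow_eq_one hz
    rw [hm, Nat.cast_mul, h0, zero_mul]
  have hiso : ∀ g u v, Bf φ (rep μ g u) (rep μ g v) = Bf φ u v := fun g u v => h.pres g u v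
  obtain ⟨x', hx'⟩ := h.sur (Matrix.toLinAlgEquiv'.symm (Tx (rep μ) z x))
    ((Tx_unit (rep μ) hD hx).map (Matrix.toLinAlgEquiv' (R := F) (n := Fin n)).symm) (by
      intro u v
      have h1 : ∀ w, Matrix.toLinAlgEquiv'.symm (Tx (rep μ) z x) *ᵥ w = Tx (rep μ) z x w := by
        intro w
        rw [← Matrix.toLinAlgEquiv'_apply, AlgEquiv.apply_symm_apply]
      rw [h1, h1]
      exact Tx_iso (rep μ) h.addl h.addr hiso hD hx u v)
  have h1 : ∀ w, rep μ x' w = Tx (rep μ) z x w := by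
    intro w
    rw [rep_apply, hx', ← Matrix.toLinAlgEquiv'_apply, AlgEquiv.apply_symm_apply]
  refine ⟨x', fun v hv => ?_, fun v hv => ?_⟩
  · obtain ⟨w, rfl⟩ := hv
    have h2 : avg (rep μ) (Subgroup.zpowers z) ((rep μ z - 1) w) = 0 := by
      show avg (rep μ) (Subgroup.zpowers z) (rep μ z w - w) = 0
      rw [map_sub, avg_map _ _ (Subgroup.mem_zpowers z), sub_self]
    rw [h1, Tx_apply, h2, sub_zero, add_zero]
  · have h2 : avg (rep μ) (Subgroup.zpowers z) v = v := by
      refine avg_fixed _ _ hD ?_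
      intro d hd
      rw [← mem_powers_iff_mem_zpowers] at hd
      obtain ⟨m, rfl⟩ := hd
      show rep μ (z ^ m) v = v
      induction m with
      | zero => rw [pow_zero, one_ap]
      | succ m ih => rw [pow_succ, mul_ap, hv, ih]
    rw [h1, Tx_apply, h2, sub_self, map_zero, zero_add]

theorem isUnit_of_pow {ι : Type*} [Fintype ι] [DecidableEq ι] {M : Matrix ι ι F} {t : ℕ} (ht : t ≠ 0) (h : M ^ t = 1) :
    IsUnit M := IsUnit.of_pow_eq_one h ht

/-- `e t × m + k = n` -/
theorem exists_eps (a m k n : ℕ) (h : a * m + k = n) : Nonempty ((Fin a × Fin m) ⊕ Fin k ≃ Fin n) :=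
  ⟨Fintype.equivOfCardEq (by simp only [h, _root_.Fintype.card_sum, _root_.Fintype.card_prod, _root_.Fintype.card_fin])⟩

theorem perm_unit {ι : Type*} [Fintype ι] [DecidableEq ι] (τ : Equiv.Perm ι) : IsUnit (τ.permMatrix F) := by
  refine ⟨⟨τ.permMatrix F, (τ⁻¹).permMatrix F, ?_, ?_⟩, rfl⟩
  · refine ext_mulVec fun v => ?_
    funext x
    rw [← mulVec_mulVec, perm_mulVec, perm_mulVec, one_mulVec]
    exact congrArg v (τ.symm_apply_apply x)
  · refine ext_mulVec fun v => ?_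
    funext x
    rw [← mulVec_mulVec, perm_mulVec, perm_mulVec, one_mulVec]
    exact congrArg v (τ.apply_symm_apply x)

theorem Dt.fr (h : Dt φ μ e) (t : ℕ) (ht : t.Prime) (hodd : Odd t) (htF : (t : F) ≠ 0) (_ : t ∣ Nat.card Y) :
    ∃ (m : ℕ) (z : Fin m → Y), (∀ i, IsZ (rep μ) e t (z i)) ∧ (∀ i j, z i * z j = z j * z i) ∧
      (∀ i j, i ≠ j → ∀ v, rep μ (z i) (rep μ (z j) v - v) = rep μ (z j) v - v) ∧
      (∀ U : Submodule F (Fin n → F), (∀ i, ∀ v ∈ U, rep μ (z i) v = v) → finrank F U < e t) ∧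
      ∀ σ : Equiv.Perm (Fin m), ∃ y : Y, ∀ i, y * z i * y⁻¹ = z (σ i) := by
  obtain ⟨z0, hz0, hz1, hzp⟩ := h.ex t ht hodd htF
  have hpos := h.row.epos t ht htF
  obtain ⟨ε⟩ := exists_eps (e t) (n / e t) (n % e t) n (Nat.div_add_mod n (e t))
  have hex : ∀ i, ∃ z : Y, μ z = Zi ε z0 i := fun i =>
    h.sur _ (isUnit_of_pow ht.ne_zero (by rw [Zi_pow, hz0, Zi_one])) (Zi_pres ε hzp i)
  choose z hz using hex
  have hzt : ∀ i, z i ^ t = 1 := fun i => h.inj (by rw [map_pow, hz, Zi_pow, hz0, Zi_one, map_one])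
  have hzn : ∀ i, z i ≠ 1 := by
    intro i h1
    apply hz1
    apply Zi_inj ε (i := i)
    rw [← hz, h1, map_one]
  have hrk : ∀ i, rk (rep μ) (z i) = e t := fun i =>
    rk_eq h.row ht hodd htF (hzt i) (hzn i) ((rk_Zi_le ε (hz i)).trans (by rw [Fintype.card_fin]))
  refine ⟨n / e t, z, fun i => ⟨hzt i, hrk i⟩, ?_, ?_, ?_, ?_⟩
  · intro i j
    apply h.inj
    rw [map_mul, map_mul, hz, hz, Zi_comm]
  · intro i j hij v
    have hw : rep μ (z j) v - v ∈ Wi F ε j := range_le_Wi ε (hz j) ⟨v, rfl⟩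
    generalize rep μ (z j) v - v = w at hw ⊢
    rw [rep_apply, hz]
    funext x
    obtain ⟨y, rfl⟩ := ε.surjective x
    rcases y with ⟨a, k⟩ | k
    · by_cases hk : k = i
      · subst hk
        have h1 : (fun b => w (ε (Sum.inl (b, k)))) = 0 := funext fun b => hw.1 b k hij
        rw [Zi_inl, h1, mulVec_zero, hw.1 a k hij]
        rfl
      · rw [Zi_inl_ne _ _ hk]
    · rw [Zi_inr]
  · intro U hU
    let f : U →ₗ[F] (Fin (n % e t) → F) := (LinearMap.funLeft F F fun j => ε (Sum.inr j)).comp U.subtype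
    have hf : Function.Injective f := by
      rw [← LinearMap.ker_eq_bot, LinearMap.ker_eq_bot']
      rintro ⟨v, hv⟩ h1
      apply Subtype.ext
      funext x
      obtain ⟨y, rfl⟩ := ε.surjective x
      rcases y with ⟨a, i⟩ | j
      · exact fpf ε (hz i) (by rw [hrk, Fintype.card_fin]) (hU i v hv) a
      · exact congrFun h1 j
    have h1 := LinearMap.finrank_le_finrank_of_injective hf
    rw [Module.finrank_fintype_fun_eq_card, Fintype.card_fin] at h1
    exact lt_of_le_of_lt h1 (Nat.mod_lt _ hpos)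
  · intro σ
    obtain ⟨y, hy⟩ := h.sur ((Pm ε σ⁻¹).permMatrix F) (perm_unit _) (perm_pres _)
    refine ⟨y, fun i => ?_⟩
    rw [mul_inv_eq_iff_eq_mul]
    apply h.inj
    rw [map_mul, map_mul, hy, hz, hz, perm_conj]

theorem Ps_pow {F : Type*} [Field F] {α κ l ι : Type*} [Fintype α] [Fintype κ] [Fintype l] [Fintype ι]
    [DecidableEq α] [DecidableEq κ] [DecidableEq l] [DecidableEq ι] (ε : (α × κ) ⊕ l ≃ ι) (M : κ → Matrix α α F)
    (D : l → F) (n : ℕ) : Ps ε M D ^ n = Ps ε (M ^ n) (D ^ n) := by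
  induction n with
  | zero => rw [pow_zero, pow_zero, pow_zero, Ps_one]
  | succ n ih => rw [pow_succ, ih, pow_succ, pow_succ, Ps_mul]

theorem phi_pow {c : F} (hc : ∀ a b, φ (c * a) (c * b) = φ a b) (m : ℕ) : ∀ a b, φ (c ^ m * a) (c ^ m * b) = φ a b := by
  induction m with
  | zero => intro a b; rw [pow_zero, one_mul, one_mul]
  | succ m ih => intro a b; rw [pow_succ, mul_assoc, mul_assoc, ih, hc]

theorem Dt.de (h : Dt φ μ e) {X : Subgroup Y} (hX : ∀ y, y ∈ X ↔ (μ y).det = 1)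
    (u v : ℕ) (hu : u.Prime) (hv : v.Prime) (huv : u ≠ v) (hou : Odd u) (hov : Odd v) (huF : (u : F) ≠ 0)
    (hvF : (v : F) ≠ 0) (heu : e u = u - 1) (hev : e v = 1) (hun : u ≤ finrank F (Fin n → F)) :
    ∃ z ∈ X, ∃ b ∈ X, IsZ (rep μ) e u z ∧ b ^ v = 1 ∧ z * b = b * z ∧
      ∃ c : F, (∀ w ∈ LinearMap.range (rep μ z - 1), rep μ b w = c • w) ∧
        ∀ w, rep μ b w = c • w → w ∈ LinearMap.range (rep μ z - 1) := by
  rw [Module.finrank_fintype_fun_eq_card, Fintype.card_fin] at hun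
  have hu3 : 3 ≤ u := by
    have := hu.two_le
    rcases hou with ⟨k, hk⟩
    omega
  obtain ⟨z0, hz0, hz1, hzp⟩ := h.ex u hu hou huF
  have hdet : z0.det = 1 := h.det u hu hou huF (by omega) z0 hz0 hzp
  obtain ⟨ε⟩ := exists_eps (e u) 1 (n - e u) n (by omega)
  have hC := h.ex v hv hov hvF
  rw [hev] at hC
  obtain ⟨C, hC, hC1, hCp⟩ := hC
  -- the scalar
  obtain ⟨c, rfl⟩ : ∃ c : F, C = c • 1 := ⟨C 0 0, by
    ext i j
    rw [Subsingleton.elim i 0, Subsingleton.elim j 0]
    simp⟩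
  have hcv : c ^ v = 1 := by
    rw [smul_pow, one_pow] at hC
    have := congrFun (congrFun hC 0) 0
    simpa using this
  have hc1 : c ≠ 1 := by
    intro h1
    exact hC1 (by rw [h1, one_smul])
  have hc0 : c ≠ 0 := by
    intro h1
    rw [h1, zero_pow hv.ne_zero] at hcv
    exact zero_ne_one hcv
  have hcu : c ^ u ≠ 1 := by
    intro h1
    apply hc1
    have h2 : orderOf c ∣ Nat.gcd u v := Nat.dvd_gcd (orderOf_dvd_of_pow_eq_one h1) (orderOf_dvd_of_pow_eq_one hcv)
    rw [(Nat.coprime_primes hu hv).2 huv, Nat.dvd_one] at h2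
    exact orderOf_eq_one_iff.1 h2
  have hφ : ∀ a b, φ (c * a) (c * b) = φ a b := by
    intro a b
    have h1 := hCp (fun _ => a) (fun _ => b)
    simpa [Bf, smul_mulVec, one_mulVec] using h1
  have hφ' : ∀ a b, φ (c⁻¹ * a) (c⁻¹ * b) = φ a b := by
    intro a b
    rw [← hφ, mul_inv_cancel_left₀ hc0, mul_inv_cancel_left₀ hc0]
  have hcinv : (c⁻¹ ^ (u - 1)) ^ v = 1 := by
    rw [← pow_mul, mul_comm, pow_mul, inv_pow, hcv, inv_one, one_pow]
  set j0 : Fin (n - e u) := ⟨0, by omega⟩ with hj0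
  set D : Fin (n - e u) → F := Function.update 1 j0 (c⁻¹ ^ (u - 1)) with hD
  set M : Fin 1 → Matrix (Fin (e u)) (Fin (e u)) F := fun _ => c • 1 with hM
  have hDj : ∀ j, D j = c⁻¹ ^ (u - 1) ∨ D j = 1 := by
    intro j
    by_cases hj : j = j0
    · left
      rw [hj, hD, Function.update_self]
    · right
      rw [hD, Function.update_of_ne hj]
      rfl
  have hDv : D ^ v = 1 := by
    funext j
    rw [Pi.pow_apply, Pi.one_apply]
    rcases hDj j with h1 | h1
    · rw [h1, hcinv]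
    · rw [h1, one_pow]
  have hMv : M ^ v = 1 := by
    funext i
    rw [Pi.pow_apply, Pi.one_apply, hM]
    show (c • (1 : Matrix (Fin (e u)) (Fin (e u)) F)) ^ v = 1
    rw [smul_pow, one_pow, hcv, one_smul]
  have hb1 : Ps ε M D ^ v = 1 := by
    rw [Ps_pow, hMv, hDv, Ps_one]
  have hbp : Pres φ (Ps ε M D) := by
    refine Ps_pres ε (fun i => ?_) (fun j a b => ?_)
    · intro u' v'
      rw [hM, Bf, Bf]
      refine Finset.sum_congr rfl fun i _ => ?_
      simp only [smul_mulVec, one_mulVec, Pi.smul_apply, smul_eq_mul]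
      exact hφ _ _
    · rcases hDj j with h1 | h1
      · rw [h1]
        exact phi_pow hφ' _ _ _
      · rw [h1, one_mul, one_mul]
  have hbd : (Ps ε M D).det = 1 := by
    rw [Ps_det, Fin.prod_univ_one]
    have h1 : ∏ j, D j = c⁻¹ ^ (u - 1) := by
      rw [Finset.prod_eq_single j0]
      · rw [hD, Function.update_self]
      · intro j _ hj
        rw [hD, Function.update_of_ne hj]
        rfl
      · intro h2
        exact absurd (Finset.mem_univ _) h2
    rw [h1, hM]
    show (c • (1 : Matrix (Fin (e u)) (Fin (e u)) F)).det * _ = 1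
    rw [det_smul, det_one, mul_one, Fintype.card_fin, heu, ← mul_pow, mul_inv_cancel₀ hc0, one_pow]
  obtain ⟨z, hz⟩ := h.sur (Zi ε z0 0) (isUnit_of_pow hu.ne_zero (by rw [Zi_pow, hz0, Zi_one])) (Zi_pres ε hzp 0)
  obtain ⟨b, hb⟩ := h.sur (Ps ε M D) (isUnit_of_pow hv.ne_zero hb1) hbp
  have hzt : z ^ u = 1 := h.inj (by rw [map_pow, hz, Zi_pow, hz0, Zi_one, map_one])
  have hzn : z ≠ 1 := by
    intro h1
    apply hz1
    apply Zi_inj ε (i := 0)
    rw [← hz, h1, map_one]
  have hrk : rk (rep μ) z = e u :=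
    rk_eq h.row hu hou huF hzt hzn ((rk_Zi_le ε hz).trans (by rw [Fintype.card_fin]))
  have hrange := range_eq_Wi ε hz (hrk.trans (Fintype.card_fin _).symm)
  have hin : ∀ w : Fin n → F, ∀ a, rep μ b w (ε (Sum.inl (a, 0))) = c * w (ε (Sum.inl (a, 0))) := by
    intro w a
    rw [rep_apply, hb, Ps_inl, hM]
    show ((c • (1 : Matrix (Fin (e u)) (Fin (e u)) F)) *ᵥ fun b => w (ε (Sum.inl (b, 0)))) a = _
    rw [smul_mulVec, one_mulVec]
    rfl
  have hir : ∀ w : Fin n → F, ∀ j, rep μ b w (ε (Sum.inr j)) = D j * w (ε (Sum.inr j)) := by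
    intro w j
    rw [rep_apply, hb, Ps_inr]
  refine ⟨z, (hX z).2 ?_, b, (hX b).2 (by rw [hb, hbd]), ⟨hzt, hrk⟩, h.inj (by rw [map_pow, hb, hb1, map_one]), ?_, c,
    ?_, ?_⟩
  · rw [hz, Zi, Ps_det, Fin.prod_univ_one, Pi.mulSingle_eq_same, hdet, one_mul]
    exact Finset.prod_const_one
  · apply h.inj
    rw [map_mul, map_mul, hz, hb, Zi, ← Ps_mul, ← Ps_mul]
    congr 1
    · funext i
      rw [Pi.mul_apply, Pi.mul_apply, hM]
      show _ * (c • (1 : Matrix (Fin (e u)) (Fin (e u)) F)) = (c • (1 : Matrix (Fin (e u)) (Fin (e u)) F)) * _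
      rw [Matrix.mul_smul, Matrix.smul_mul, Matrix.mul_one, Matrix.one_mul]
    · rw [mul_comm]
  · intro w hw
    rw [hrange] at hw
    funext x
    obtain ⟨y, rfl⟩ := ε.surjective x
    rcases y with ⟨a, i⟩ | j
    · rw [Subsingleton.elim i 0, hin]
      rfl
    · rw [hir, Pi.smul_apply, hw.2 j, smul_zero, mul_zero]
  · intro w hw
    rw [hrange]
    refine ⟨fun a j hj => absurd (Subsingleton.elim j 0) hj, fun j => ?_⟩
    have h1 := congrFun hw (ε (Sum.inr j))
    rw [hir, Pi.smul_apply, smul_eq_mul] at h1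
    by_contra hne
    have h2 := mul_right_cancel₀ hne h1
    rcases hDj j with h3 | h3
    · rw [h3] at h2
      apply hcu
      have h4 : c ^ (u - 1) * c = 1 := by
        calc c ^ (u - 1) * c = c ^ (u - 1) * c⁻¹ ^ (u - 1) := by rw [h2]
          _ = 1 := by rw [← mul_pow, mul_inv_cancel₀ hc0, one_pow]
      rw [← pow_succ] at h4
      rwa [Nat.sub_add_cancel (by omega)] at h4
    · exact hc1 (h2.symm.trans h3)

theorem Dt.linDat (h : Dt φ μ e) {X : Subgroup Y} (hX : ∀ y, y ∈ X ↔ (μ y).det = 1) : LinDat (rep μ) e X where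
  row := h.row
  rc := h.rc
  fr := h.fr
  de := h.de hX

end Main

end Cfsg.Agent.H380.RV
end

-- part: H380/RV/Lin
section
/-!
# TEAM RV, R2: `LinDat` for `GL_n(q)` and `GU_n(q)` (helper380)
-/

set_option autoImplicit false
set_option linter.unusedSectionVars false

namespace Cfsg.Agent.H380.RV

open Module Matrix Cfsg Cfsg.Agent.H167.OP Cfsg.Agent.H170.HL Cfsg.Agent.H556.HallRowAbs Cfsg.Agent.H553.RV
open Cfsg.Agent.H556 Cfsg.Agent.H556.HallSLRow Cfsg.Agent.LieClassical.HermBasic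

variable {F : Type*} [Field F] [Fintype F] {n q : ℕ}

/-- a root of unity of prime order -/
theorem eq_one_of_pow {d : F} {u k : ℕ} (hu : u.Prime) (h1 : d ^ u = 1) (h2 : d ^ k = 1) (h3 : ¬ u ∣ k) : d = 1 := by
  have h4 : orderOf d ∣ Nat.gcd u k := Nat.dvd_gcd (orderOf_dvd_of_pow_eq_one h1) (orderOf_dvd_of_pow_eq_one h2)
  rw [(hu.coprime_iff_not_dvd).2 h3, Nat.dvd_one] at h4
  exact orderOf_eq_one_iff.1 h4

theorem card_ne {t : ℕ} (ht : t.Prime) (htF : (t : F) ≠ 0) : (Fintype.card F : ZMod t) ≠ 0 := by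
  rw [Ne, ZMod.natCast_eq_zero_iff]
  exact not_dvd_card ht htF

theorem dt_GL (n : ℕ) : Dt (fun _ _ => (0 : F)) (Units.coeHom (Matrix (Fin n) (Fin n) F))
    (fun t => orderOf (Fintype.card F : ZMod t)) where
  inj := Units.val_injective
  pres _ _ _ := rfl
  sur M hM _ := ⟨hM.unit, rfl⟩
  addl _ _ _ := (add_zero _).symm
  addr _ _ _ := (add_zero _).symm
  row :=
    { inj := rep_injective Units.val_injective
      lb := fun r hr _ hrF D E hED hab hexp hV => lb_VE _ hr hrF hED hab hexp hV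
      epos := fun r hr hrF => HallOrd.order_pos hr (card_ne hr hrF)
      edvd := fun r hr hrF => HallOrd.order_dvd hr (card_ne hr hrF) }
  ex t ht _ htF := by
    have := Fact.mk ht
    have hpos := HallOrd.order_pos ht (card_ne ht htF)
    have h1 : t ∣ Nat.card (GL (Fin (orderOf (Fintype.card F : ZMod t))) F) := by
      have h2 : t ∣ Fintype.card F ^ orderOf (Fintype.card F : ZMod t) - 1 := by
        rw [HallOrd.dvd_iff_plus Fintype.card_pos, pow_orderOf_eq_one]
      refine h2.trans ?_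
      rw [HallOrd.card_GL_prod]
      have h3 := Finset.dvd_prod_of_mem (fun i => Fintype.card F ^ orderOf (Fintype.card F : ZMod t) - Fintype.card F ^ i)
        (Finset.mem_range.2 hpos)
      rwa [pow_zero] at h3
    obtain ⟨y, hy⟩ := exists_prime_orderOf_dvd_card' t h1
    refine ⟨y.1, ?_, ?_, fun _ _ => rfl⟩
    · have h2 := congrArg Units.val (pow_orderOf_eq_one y)
      rw [hy] at h2
      simpa only [_root_.Units.val_pow_eq_pow_val, _root_.Units.val_one] using h2
    · intro h2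
      have h3 : y = 1 := Units.ext h2
      rw [h3, orderOf_one] at hy
      exact ht.one_lt.ne hy
  det u hu _ huF he M hM _ := by
    have h1 : M.det ^ u = 1 := by rw [← Matrix.det_pow, hM, Matrix.det_one]
    have h0 : M.det ≠ 0 := by
      intro h2
      rw [h2, zero_pow hu.ne_zero] at h1
      exact zero_ne_one h1
    refine eq_one_of_pow hu h1 (FiniteField.pow_card_sub_one_eq_one _ h0) fun h2 => he ?_
    rw [← pow_one (Fintype.card F), HallOrd.dvd_iff_plus Fintype.card_pos, pow_one] at h2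
    rw [h2, orderOf_one]

/-- the representation of `GL_n` -/
theorem linDat_GL (n : ℕ) : LinDat (rep (Units.coeHom (Matrix (Fin n) (Fin n) F)))
    (fun t => orderOf (Fintype.card F : ZMod t)) (GeneralLinearGroup.det (n := Fin n) (R := F)).ker :=
  (dt_GL n).linDat fun y => by
    rw [MonoidHom.mem_ker, Units.ext_iff]
    rfl

/-- the inclusion of `GU_n` -/
def incU (n : ℕ) (F : Type*) [Field F] (q : ℕ) : GU n F q →* Matrix (Fin n) (Fin n) F :=
  (Units.coeHom (Matrix (Fin n) (Fin n) F)).comp (GU n F q).subtype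

theorem incU_injective {F : Type*} [Field F] : Function.Injective (incU n F q) :=
  Units.val_injective.comp Subtype.val_injective

theorem q_ne (hF : Fintype.card F = q ^ 2) {t : ℕ} (ht : t.Prime) (htF : (t : F) ≠ 0) : -(q : ZMod t) ≠ 0 := by
  rw [Ne, neg_eq_zero, ZMod.natCast_eq_zero_iff]
  exact fun h => not_dvd_card ht htF (hF ▸ dvd_pow h two_ne_zero)

theorem dt_GU (hF : Fintype.card F = q ^ 2) (n : ℕ) : Dt (fun a b : F => a * b ^ q) (incU n F q)
    (fun t => orderOf (-(q : ZMod t))) where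
  inj := incU_injective
  pres y u v := y.2 u v
  sur M hM h := ⟨⟨hM.unit, fun u v => h u v⟩, rfl⟩
  addl _ _ _ := add_mul _ _ _
  addr a b c := by rw [add_pow_q hF, mul_add]
  row :=
    { inj := rep_injective incU_injective
      lb := fun r hr _ hrF D E hED hab hexp hV =>
        HallSURow.lb_VE hF _ (fun g u v => g.2 u v) hr hrF hED hab hexp hV
      epos := fun r hr hrF => HallOrd.order_pos hr (q_ne hF hr hrF)
      edvd := fun r hr hrF => HallOrd.order_dvd hr (q_ne hF hr hrF) }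
  ex t ht _ htF := by
    have := Fact.mk ht
    have hq := q_pos hF
    have hpos := HallOrd.order_pos ht (q_ne hF ht htF)
    have h1 : t ∣ Nat.card (GU (orderOf (-(q : ZMod t))) F q) := by
      have h2 : t ∣ (if Even (orderOf (-(q : ZMod t))) then q ^ (orderOf (-(q : ZMod t))) - 1
          else q ^ (orderOf (-(q : ZMod t))) + 1) := by
        rw [HallOrd.dvd_iff_minus hq, pow_orderOf_eq_one]
      refine h2.trans ?_
      rw [S0277.result hF]
      refine Dvd.dvd.mul_left ?_ _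
      generalize orderOf (-(q : ZMod t)) = m at hpos
      obtain ⟨k, rfl⟩ : ∃ k, m = k + 1 := ⟨m - 1, by omega⟩
      have h3 := Finset.dvd_prod_of_mem (fun i => if Even i then q ^ (i + 1) + 1 else q ^ (i + 1) - 1)
        (Finset.mem_range.2 (Nat.lt_succ_self k))
      refine dvd_trans ?_ h3
      by_cases h4 : Even k
      · rw [if_neg (by rw [Nat.even_add_one]; exact not_not.2 h4)]
        simp only [if_pos h4]
        exact dvd_rfl
      · rw [if_pos (by rw [Nat.even_add_one]; exact h4)]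
        simp only [if_neg h4]
        exact dvd_rfl
    obtain ⟨y, hy⟩ := exists_prime_orderOf_dvd_card' t h1
    refine ⟨y.1.1, ?_, ?_, fun u v => y.2 u v⟩
    · have h2 := congrArg (fun x : GU (orderOf (-(q : ZMod t))) F q => x.1.1) (pow_orderOf_eq_one y)
      rw [hy] at h2
      simpa only [_root_.SubmonoidClass.coe_pow, _root_.Units.val_pow_eq_pow_val, _root_.OneMemClass.coe_one, _root_.Units.val_one] using h2
    · intro h2
      have h3 : y = 1 := Subtype.ext (Units.ext h2)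
      rw [h3, orderOf_one] at hy
      exact ht.one_lt.ne hy
  det u hu _ huF he M hM hp := by
    have hq := q_pos hF
    have h1 : M.det ^ u = 1 := by rw [← Matrix.det_pow, hM, Matrix.det_one]
    have h2 : M.det ^ (q + 1) = 1 := Cfsg.Agent.LieClassical.GUOrder.det_mul_frob_det hF M hp
    refine eq_one_of_pow hu h1 h2 fun h3 => he ?_
    have h4 := HallOrd.dvd_iff_minus (t := u) (j := 1) hq
    rw [if_neg (by decide), pow_one, pow_one] at h4
    rw [h4.1 h3, orderOf_one]

/-- the determinant on `GU_n` -/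
theorem linDat_GU (hF : Fintype.card F = q ^ 2) (n : ℕ) : LinDat (rep (incU n F q))
    (fun t => orderOf (-(q : ZMod t))) ((GeneralLinearGroup.det (n := Fin n) (R := F)).comp (GU n F q).subtype).ker :=
  (dt_GU hF n).linDat fun y => by
    rw [MonoidHom.mem_ker, Units.ext_iff]
    rfl

end Cfsg.Agent.H380.RV
end

private theorem dce_bf93af4a6429 : _root_.True := by
  try have : _root_.True := by simp only [_root_.Cfsg.Agent.H380.RV.Zi.congr_simp]
  try have : _root_.True := by simp only [_root_.Cfsg.Agent.H380.RV.Ps.eq_1]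
  try have : _root_.True := by simp only [_root_.Cfsg.Agent.H380.RV.Pm.eq_1]
  try have : _root_.True := by simp only [_root_.Cfsg.Agent.H380.RV.Bf.eq_1]
  try have : _root_.True := by simp only [_root_.Cfsg.Agent.H380.RV.Ps.congr_simp]
  try have : _root_.True := by simp only [_root_.Cfsg.Agent.H380.RV.Zi.eq_1]
  exact _root_.True.intro
end

section
prune_inst 0xfdfefbbff8bddfffff7ffffffcdffc39d49fffe6dff94bffe0fbffbbdf230a6fe5fb8f8df0d0ff1ef6e3b410b87813f9ffceffeb6bdc7ffffd5ff45ffbee1ff7ffbd2d51d6b8341ffe6ffff3f07fce7f000000000000000000000000000000004200000000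

-- part: H553/RV/LinG
section
prune_inst 0x20104000702200000000000020001c6292000100000b000000000402058948008042062082a004000000804400340060031000000210000000000000011c0080002802028048a000000000000000000000000000000000000000000000000000000000000
set_option linter.all false
open scoped Cfsg.Agent.FastGrp

/-!
# TEAM RV, R2 linear/unitary: `t`-elements lie in `B_t` (helper553)
-/

set_option autoImplicit false
set_option linter.unusedSectionVars false

namespace Cfsg.Agent.H553.RV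

open Module Cfsg.Agent.H167.OP Cfsg.Agent.H170.HL Cfsg.Agent.H556.HallRowAbs Cfsg.Agent.H556.HallLB
  Cfsg.Agent.H556.HallSmallCen

variable {F : Type*} [Field F] {V : Type*} [AddCommGroup V] [Module F V] {Y : Type*} [Group Y]
  {ρ : Representation F Y V} [FiniteDimensional F V] [Finite Y] {e : ℕ → ℕ} {X H : Subgroup Y}

theorem stab_of_pow {W : Submodule F V} {x : Y} {n k : ℕ} (hx : x ^ n = 1) (hcop : Nat.Coprime k n)
    (h : St ρ W (x ^ k)) : St ρ W x := by
  by_cases hn : n = 1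
  · rw [hn, pow_one] at hx
    rw [hx]
    intro w hw
    rw [one_ap]; exact hw
  by_cases hn0 : n = 0
  · rw [hn0, Nat.coprime_zero_right] at hcop
    rwa [hcop, pow_one] at h
  obtain ⟨m, -, hm⟩ := Nat.exists_mul_mod_eq_one_of_coprime hcop (by omega)
  have h1 : x ^ (k * m) = x ^ 1 := pow_eq_of_modEq hx (by
    show k * m % n = 1 % n
    rw [hm, Nat.mod_eq_of_lt (by omega)])
  have h2 := h.pow m
  rw [← pow_mul, h1, pow_one] at h2
  exact h2

/-- the translates of an atom under a `t`-element are distinct -/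
theorem distinct_translates {W : Submodule F V} {x : Y} {t k : ℕ} (ht : t.Prime) (hx : x ^ t ^ k = 1)
    (hst : ¬ St ρ W x) {i j : ℕ} (hi : i < t) (hj : j < t) (hij : i ≠ j) : ¬ St ρ W ((x ^ j)⁻¹ * x ^ i) := by
  have key : ∀ d : ℕ, 0 < d → d < t → ¬ St ρ W (x ^ d) := by
    intro d hd hdt h
    exact hst (stab_of_pow hx (Nat.Coprime.pow_right k (Nat.coprime_of_lt_prime hd.ne' hdt ht).symm) h)
  intro h
  rcases Nat.lt_or_gt_of_ne hij with h1 | h1
  · apply key (j - i) (by omega) (by omega)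
    have h2 : (x ^ j)⁻¹ * x ^ i = (x ^ (j - i))⁻¹ := by
      rw [inv_mul_eq_iff_eq_mul, eq_mul_inv_iff_mul_eq, ← pow_add]
      congr 1; omega
    rw [h2] at h
    exact h.of_inv
  · apply key (i - j) (by omega) (by omega)
    have h2 : (x ^ j)⁻¹ * x ^ i = x ^ (i - j) := by
      rw [inv_mul_eq_iff_eq_mul, ← pow_add]
      congr 1; omega
    rwa [h2] at h

/-- `t`-elements stabilise the atoms -/
theorem Cx.stab_t (C : Cx ρ e X H) {r t : ℕ} (hr : r.Prime) (hrH : r ∣ Nat.card H) (ht : t.Prime)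
    (htH : t ∣ Nat.card H) (hrt : r < t) {x a : Y} (hxH : x ∈ H) (hx : ∃ k : ℕ, x ^ t ^ k = 1)
    (ha : IsZ ρ e t a) (haH : a ∈ H) : St ρ (Rg ρ a) x := by
  by_contra hst
  obtain ⟨k, hk⟩ := hx
  have hgen := C.gen hr hrH ht htH hrt
  have htF := C.ne ht htH
  have hto := C.odd ht htH
  obtain ⟨m, f, hf⟩ := C.frame hr hrH
  obtain ⟨m', f', hf'⟩ := C.frame ht htH
  -- the translates
  let b : ℕ → Y := fun i => x ^ i * a * (x ^ i)⁻¹
  have hbZ : ∀ i, IsZ ρ e t (b i) := fun i => ha.conj _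
  have hbH : ∀ i, b i ∈ H := fun i => H.mul_mem (H.mul_mem (H.pow_mem hxH i) haH) (H.inv_mem (H.pow_mem hxH i))
  have hfix : ∀ i j, i < t → j < t → i ≠ j → ∀ w ∈ Rg ρ (b i), ρ (b j) w = w := by
    intro i j hi hj hij w hw
    rw [Rg_conj] at hw
    obtain ⟨w', hw', rfl⟩ := hw
    exact two C.D C.hH ht hto htF hgen ha haH (H.pow_mem hxH i) (H.pow_mem hxH j)
      (distinct_translates ht hk hst hi hj hij) hw'
  have hpair : ∀ i, (∀ j, f j * b i = b i * f j) ∨ (e t = r ∧ e r = r - 1) := by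
    intro i
    by_contra hcon
    push Not at hcon
    obtain ⟨⟨j, hj⟩, h2⟩ := hcon
    rcases pair C.D C.hH hr (C.odd hr hrH) (C.ne hr hrH) ht hto htF hrt.ne hgen (C.dm r t hr ht hrH htH) hf'
      (hbZ i) (hbH i) (hf.isZ j) (hf.mem j) with h | h
    · exact hj h
    · exact h2 h.1 h.2
  by_cases hγ : e t = r ∧ e r = r - 1
  · -- case `γ`
    have hex : ∀ i : Fin t, ∃ w ∈ Rg ρ (b i), w ≠ 0 ∧ ∀ j, ρ (f j) w = w := fun i =>
      C.gamma_fix hr hrH ht htH hrt hγ.1 hγ.2 hf (hbZ i) (hbH i)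
    choose w hw hw0 hwf using hex
    have hli : LinearIndependent F w := by
      rw [Fintype.linearIndependent_iff]
      intro g hg i
      have h6 := indep_sum (ρ := ρ) Finset.univ (fun i : Fin t => b i) (fun i => g i • w i) htF
        (fun i _ => (hbZ i).1) (fun i _ => Submodule.smul_mem _ _ (hw i)) (fun i _ k _ hik => by
          rw [map_smul, hfix i k i.2 k.2 (fun h => hik (Fin.ext h)) _ (hw i)]) hg i (Finset.mem_univ i)
      exact (smul_eq_zero.mp h6).resolve_right (hw0 i)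
    have h1 := hf.max (Submodule.span F (Set.range w)) (by
      intro j v hv
      induction hv using Submodule.span_induction with
      | mem v hv => obtain ⟨i, rfl⟩ := hv; exact hwf i j
      | zero => rw [map_zero]
      | add u v _ _ hu hv => rw [map_add, hu, hv]
      | smul c v _ hv => rw [map_smul, hv])
    rw [finrank_span_eq_card hli, Fintype.card_fin, hγ.2] at h1
    omega
  · -- case `α`
    have hcomm : ∀ z ∈ H, IsZ ρ e r z → ∀ c ∈ H, IsZ ρ e t c → z * c = c * z := by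
      intro z hz hzZ c hc hcZ
      rcases pair C.D C.hH hr (C.odd hr hrH) (C.ne hr hrH) ht hto htF hrt.ne hgen (C.dm r t hr ht hrH htH) hf'
        hcZ hc hzZ hz with h | h
      · exact h
      · exact absurd h hγ
    have hm := C.pos hr hrH hf
    have hm' := C.pos ht htH hf'
    have he1 : e t ≤ e r := e_le_of_comm C.D (C.ne hr hrH) ht hto htF hf (hf'.isZ ⟨0, hm'⟩) fun i =>
      hcomm _ (hf.mem i) (hf.isZ i) _ (hf'.mem _) (hf'.isZ _)
    have he2 : e r ≤ e t := e_le_of_comm C.D htF hr (C.odd hr hrH) (C.ne hr hrH) hf' (hf.isZ ⟨0, hm⟩) fun i =>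
      (hcomm _ (hf.mem _) (hf.isZ _) _ (hf'.mem i) (hf'.isZ i)).symm
    have he : e r = e t := le_antisymm he2 he1
    have hA : ∀ c ∈ H, IsZ ρ e t c → ∃ i, Rg ρ c = Rg ρ (f i) := fun c hc hcZ =>
      C.same_atom hr hrH ht htH he hf hcZ fun i => hcomm _ (hf.mem i) (hf.isZ i) _ hc hcZ
    have hB : ∀ z ∈ H, IsZ ρ e r z → ∃ i, Rg ρ z = Rg ρ (f' i) := fun z hz hzZ =>
      C.same_atom ht htH hr hrH he.symm hf' hzZ fun i => (hcomm _ hz hzZ _ (hf'.mem i) (hf'.isZ i)).symm
    have hperm := C.perm_hall hr hrH hf (by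
      intro h hh i
      have h1 : h * f i * h⁻¹ ∈ H := H.mul_mem (H.mul_mem hh (hf.mem i)) (H.inv_mem hh)
      obtain ⟨l, hl⟩ := hB _ h1 ((hf.isZ i).conj h)
      obtain ⟨i', hi'⟩ := hA _ (hf'.mem l) (hf'.isZ l)
      exact ⟨i', by rw [← Rg_conj, hl, hi']⟩)
    -- at least `t` supports
    have htm : t ≤ m := by
      choose g hg using fun i : Fin t => hA (b i) (hbH i) (hbZ i)
      have hgi : Function.Injective g := by
        intro i j hij
        by_contra hne
        have h1 : Rg ρ (b i) = Rg ρ (b j) := by rw [hg, hg, hij]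
        have h2 : Rg ρ (b j) = ⊥ := by
          rw [eq_bot_iff]
          intro w hw
          rw [Submodule.mem_bot]
          refine eq_zero_of_fix htF (hbZ j).1 hw ?_
          rw [← h1] at hw
          exact hfix i j i.2 j.2 (fun h => hne (Fin.ext h)) w hw
        have h3 : finrank F (Rg ρ (b j)) = 0 := by rw [h2, finrank_bot]
        rw [finrank_Rg, (hbZ j).2] at h3
        have := C.D.row.epos t ht htF
        omega
      have h1 := Fintype.card_le_of_injective g hgi
      rwa [Fintype.card_fin, Fintype.card_fin] at h1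
    have h2H : ¬ (2 : ℕ) ∣ Nat.card H := fun h => (C.hH.ok 2 Nat.prime_two h).1 rfl
    have ht2 := ht.two_le
    have hr2 := hr.two_le
    rcases (Cfsg.Agent.S2536.result m {p : ℕ | p ∣ Nat.card H}
      ⟨r, t, hr, ht, hrt.ne, hrH, htH, by omega, htm⟩ ⟨2, Nat.prime_two, by omega, h2H⟩).mp hperm with h | h
    · exact h2H ((h.2 2 Nat.prime_two (by omega)).mpr (by omega))
    · exact h2H ((h.2 2 Nat.prime_two (by omega)).mpr (Or.inl rfl))

/-- an automorphism of `t`-power order of a group of order `t` -/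
theorem comm_of_conj_pow {t : ℕ} (ht : t.Prime) {x a : Y} (hx : ∃ k : ℕ, x ^ t ^ k = 1) (ha : a ^ t = 1) {j : ℕ}
    (h : x * a * x⁻¹ = a ^ j) : x * a = a * x := by
  have := Fact.mk ht
  by_cases ha1 : a = 1
  · rw [ha1, mul_one, one_mul]
  have ho : orderOf a = t := orderOf_eq_prime ha ha1
  obtain ⟨k, hk⟩ := hx
  have h1 : ∀ n : ℕ, x ^ n * a * (x ^ n)⁻¹ = a ^ j ^ n := by
    intro n
    induction n with
    | zero => simp
    | succ n ih =>
      have h2 : x ^ (n + 1) * a * (x ^ (n + 1))⁻¹ = x * (x ^ n * a * (x ^ n)⁻¹) * x⁻¹ := by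
        rw [pow_succ']; group
      rw [h2, ih, ← conj_pow, h, ← pow_mul, pow_succ']
  have h2 := h1 (t ^ k)
  rw [hk, one_mul, inv_one, mul_one] at h2
  have h3 : a ^ 1 = a ^ j ^ t ^ k := by rw [pow_one]; exact h2
  rw [pow_inj_mod, ho] at h3
  have h4 : ((j : ZMod t)) ^ t ^ k = 1 := by
    have : (((j ^ t ^ k : ℕ)) : ZMod t) = ((1 : ℕ) : ZMod t) := by
      rw [ZMod.natCast_eq_natCast_iff']
      exact h3.symm
    push_cast at this
    exact this
  have h5 : (j : ZMod t) = 1 := by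
    have h6 : ∀ n : ℕ, ((j : ZMod t)) ^ t ^ n = (j : ZMod t) := by
      intro n
      induction n with
      | zero => simp
      | succ n ih => rw [pow_succ, pow_mul, ih, ZMod.pow_card]
    rw [← h6 k, h4]
  have h6 : a ^ j = a ^ 1 := by
    rw [pow_inj_mod, ho]
    have : ((j : ℕ) : ZMod t) = ((1 : ℕ) : ZMod t) := by push_cast; exact h5
    rw [ZMod.natCast_eq_natCast_iff'] at this
    exact this
  rw [h6, pow_one] at h
  exact mul_inv_eq_iff_eq_mul.mp h

/-- `t`-elements centralise `Z_t(H)` -/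
theorem Cx.comm_t (C : Cx ρ e X H) {r t : ℕ} (hr : r.Prime) (hrH : r ∣ Nat.card H) (ht : t.Prime)
    (htH : t ∣ Nat.card H) (hrt : r < t) {x a : Y} (hxH : x ∈ H) (hx : ∃ k : ℕ, x ^ t ^ k = 1)
    (ha : IsZ ρ e t a) (haH : a ∈ H) : x * a = a * x := by
  obtain ⟨j, hj⟩ := norm_atom C.D C.hH ht (C.odd ht htH) (C.ne ht htH) (C.gen hr hrH ht htH hrt) ha haH hxH
    (C.stab_t hr hrH ht htH hrt hxH hx ha haH)
  exact comm_of_conj_pow ht hx ha.1 hj

/-- the restrictions of a Sylow subgroup to the support of a central element lie in it -/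
theorem restr_mem (D : LinDat ρ e X) {t : ℕ} (ht : t.Prime) (htF : (t : F) ≠ 0) {P : Subgroup Y} (hP : IsPGroup t P)
    (hPi : ¬ t ∣ P.index) {a : Y} (ha : a ^ t = 1) (hc : ∀ g ∈ P, g * a = a * g) {x x' : Y} (hx : x ∈ P)
    (h1 : ∀ v ∈ Rg ρ a, ρ x' v = ρ x v) (h2 : ∀ v, ρ a v = v → ρ x' v = v) : x' ∈ P := by
  have := Fact.mk ht
  -- the group of restrictions
  let Θ : Subgroup Y :=
    { carrier := {y | ∃ g ∈ P, (∀ v ∈ Rg ρ a, ρ y v = ρ g v) ∧ ∀ v, ρ a v = v → ρ y v = v}
      mul_mem' := by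
        rintro y y' ⟨g, hg, hy1, hy2⟩ ⟨g', hg', hy1', hy2'⟩
        refine ⟨g * g', P.mul_mem hg hg', fun v hv => ?_, fun v hv => ?_⟩
        · rw [mul_ap, mul_ap, hy1' v hv, hy1 _ (comm_Rg (hc g' hg').symm hv)]
        · rw [mul_ap, hy2' v hv, hy2 v hv]
      one_mem' := ⟨1, P.one_mem, fun v _ => rfl, fun v _ => one_ap ρ v⟩
      inv_mem' := by
        rintro y ⟨g, hg, hy1, hy2⟩
        refine ⟨g⁻¹, P.inv_mem hg, fun v hv => ?_, fun v hv => ?_⟩
        · have h3 : ρ g⁻¹ v ∈ Rg ρ a := comm_Rg (hc g⁻¹ (P.inv_mem hg)).symm hv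
          have h4 := hy1 _ h3
          rw [ap_inv] at h4
          conv_lhs => rw [← h4]
          rw [inv_ap]
        · conv_lhs => rw [← hy2 v hv]
          rw [inv_ap] }
  have hΘp : IsPGroup t Θ := by
    rintro ⟨y, g, hg, hy1, hy2⟩
    obtain ⟨k, hk⟩ := hP ⟨g, hg⟩
    have hk' : g ^ t ^ k = 1 := congrArg Subtype.val hk
    refine ⟨k, Subtype.ext ?_⟩
    show y ^ t ^ k = 1
    apply D.row.inj
    rw [map_one]
    ext v
    obtain ⟨b, hb, c, hcf, rfl⟩ := exists_decomp htF ha v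
    have h3 : ∀ n : ℕ, ρ (y ^ n) b = ρ (g ^ n) b ∧ ρ (g ^ n) b ∈ Rg ρ a := by
      intro n
      induction n with
      | zero => rw [pow_zero, pow_zero]; exact ⟨rfl, by rw [one_ap]; exact hb⟩
      | succ n ih =>
        rw [pow_succ', mul_ap, ih.1, hy1 _ ih.2, pow_succ', mul_ap]
        exact ⟨rfl, comm_Rg (hc g hg).symm ih.2⟩
    have h4 : ∀ n : ℕ, ρ (y ^ n) c = c := by
      intro n
      induction n with
      | zero => rw [pow_zero, one_ap]
      | succ n ih => rw [pow_succ', mul_ap, ih, hy2 c hcf]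
    rw [map_add, (h3 _).1, h4, hk', one_ap]
    rfl
  have hn : P ≤ Subgroup.normalizer (Θ : Set Y) := by
    have key : ∀ h ∈ P, ∀ y ∈ Θ, h * y * h⁻¹ ∈ Θ := by
      rintro h hh y ⟨g, hg, hy1, hy2⟩
      refine ⟨h * g * h⁻¹, P.mul_mem (P.mul_mem hh hg) (P.inv_mem hh), fun v hv => ?_, fun v hv => ?_⟩
      · rw [mul_ap, mul_ap, mul_ap, mul_ap, hy1 _ (comm_Rg (hc h⁻¹ (P.inv_mem hh)).symm hv)]
      · rw [mul_ap, mul_ap, hy2 _ (comm_fix (hc h⁻¹ (P.inv_mem hh)).symm hv), ap_inv]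
    intro h hh
    rw [Subgroup.mem_normalizer_iff]
    intro y
    refine ⟨fun hy => key h hh y hy, fun hy => ?_⟩
    have h3 := key h⁻¹ (P.inv_mem hh) _ hy
    have h4 : h⁻¹ * (h * y * h⁻¹) * h⁻¹⁻¹ = y := by group
    rwa [h4] at h3
  have hsup : IsPGroup t (P ⊔ Θ : Subgroup Y) := hP.to_sup_of_normal_right' hΘp hn
  have hle : P ≤ P ⊔ Θ := le_sup_left
  obtain ⟨n, hn'⟩ := IsPGroup.iff_card.mp hsup
  have h5 : P.relIndex (P ⊔ Θ) ∣ t ^ n := by
    rw [← hn']
    exact Subgroup.relIndex_dvd_card P (P ⊔ Θ)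
  have h6 : P.relIndex (P ⊔ Θ) ∣ P.index := ⟨(P ⊔ Θ).index, (Subgroup.relIndex_mul_index hle).symm⟩
  have h7 : P.relIndex (P ⊔ Θ) = 1 := by
    obtain ⟨l, -, hl⟩ := (Nat.dvd_prime_pow ht).mp h5
    by_contra hne
    have h8 : l ≠ 0 := by
      rintro rfl
      exact hne (by rw [hl, pow_zero])
    exact hPi ((dvd_pow_self t h8).trans (hl ▸ h6))
  have h8 : P ⊔ Θ ≤ P := Subgroup.relIndex_eq_one.mp h7
  exact h8 (Subgroup.mem_sup_right ⟨x, hx, h1, h2⟩)

/-- **the `t`-elements of `H` lie in `B_t`** -/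
theorem Cx.mem_Bt (C : Cx ρ e X H) {r t : ℕ} (hr : r.Prime) (hrH : r ∣ Nat.card H) (ht : t.Prime)
    (htH : t ∣ Nat.card H) (hrt : r < t) {x : Y} (hxH : x ∈ H) (hx : ∃ k : ℕ, x ^ t ^ k = 1) : x ∈ Bt ρ H t := by
  have := Fact.mk ht
  have htF := C.ne ht htH
  have hgen := C.gen hr hrH ht htH hrt
  obtain ⟨m, f, hf⟩ := C.frame ht htH
  -- a Sylow subgroup
  obtain ⟨P, hPH, hPp, hPi, hxP⟩ : ∃ P : Subgroup Y, P ≤ H ∧ IsPGroup t P ∧ ¬ t ∣ P.index ∧ x ∈ P := by
    have hz : IsPGroup t (Subgroup.zpowers (⟨x, hxH⟩ : H)) := by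
      obtain ⟨k, hk⟩ := hx
      rintro ⟨_, i, rfl⟩
      refine ⟨k, Subtype.ext ?_⟩
      show ((⟨x, hxH⟩ : H) ^ i) ^ t ^ k = 1
      rw [← zpow_natCast, ← zpow_mul, mul_comm, zpow_mul, zpow_natCast]
      have h1 : (⟨x, hxH⟩ : H) ^ t ^ k = 1 := Subtype.ext hk
      rw [h1, one_zpow]
    obtain ⟨Q, hQ⟩ := hz.exists_le_sylow
    refine ⟨(Q : Subgroup H).map H.subtype, Subgroup.map_subtype_le _, Q.2.map _, ?_, ?_⟩
    · intro hd
      rw [Subgroup.index_map_subtype] at hd
      rcases (Nat.Prime.dvd_mul ht).mp hd with h | h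
      · exact Q.not_dvd_index h
      · exact C.idx t ht htH h
    · exact ⟨⟨x, hxH⟩, hQ (Subgroup.mem_zpowers _), rfl⟩
  have hPt : ∀ g ∈ P, ∃ k : ℕ, g ^ t ^ k = 1 := by
    intro g hg
    obtain ⟨k, hk⟩ := hPp ⟨g, hg⟩
    exact ⟨k, congrArg Subtype.val hk⟩
  have hPc : ∀ i, ∀ g ∈ P, g * f i = f i * g := fun i g hg =>
    C.comm_t hr hrH ht htH hrt (hPH hg) (hPt g hg) (hf.isZ i) (hf.mem i)
  -- peel off the restrictions
  have key : ∀ n ≤ m, ∃ y ∈ Bt ρ H t, y ∈ P ∧ ∀ i : Fin m, (i : ℕ) < n → ∀ v ∈ Rg ρ (f i), ρ (y⁻¹ * x) v = v := by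
    intro n
    induction n with
    | zero => intro _; exact ⟨1, (Bt ρ H t).one_mem, P.one_mem, fun i hi => absurd hi (Nat.not_lt_zero _)⟩
    | succ n ih =>
      intro hn
      obtain ⟨y, hyB, hyP, hy⟩ := ih (by omega)
      set i₀ : Fin m := ⟨n, by omega⟩ with hi₀
      have hyx : y⁻¹ * x ∈ P := P.mul_mem (P.inv_mem hyP) hxP
      obtain ⟨k, hk⟩ := hPt _ hyx
      obtain ⟨x', h1, h2⟩ := C.D.rc t (f i₀) (y⁻¹ * x) htF (hf.isZ i₀).1 (hPc i₀ _ hyx).symm
      have hx'P : x' ∈ P := restr_mem C.D ht htF hPp hPi (hf.isZ i₀).1 (hPc i₀) hyx h1 h2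
      have hx'S : x' ∈ Sm ρ H t := by
        refine ⟨hPH hx'P, hPt x' hx'P, ?_⟩
        have h3 : Rg ρ x' ≤ Rg ρ (f i₀) := by
          intro w hw
          obtain ⟨v, rfl⟩ := mem_Rg.mp hw
          obtain ⟨b, hb, c, hcf, rfl⟩ := exists_decomp htF (hf.isZ i₀).1 v
          have h4 : ρ x' (b + c) - (b + c) = ρ (y⁻¹ * x) b - b := by
            rw [map_add, h1 b hb, h2 c hcf]; abel
          rw [h4]
          exact Submodule.sub_mem _ (comm_Rg (hPc i₀ _ hyx).symm hb) hb
        have h4 := Submodule.finrank_mono h3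
        rw [finrank_Rg, finrank_Rg, (hf.isZ i₀).2] at h4
        omega
      refine ⟨y * x', (Bt ρ H t).mul_mem hyB (Subgroup.subset_closure hx'S), P.mul_mem hyP hx'P, fun i hi v hv => ?_⟩
      have h3 : (y * x')⁻¹ * x = x'⁻¹ * (y⁻¹ * x) := by group
      rw [h3, mul_ap]
      by_cases hin : (i : ℕ) = n
      · have h4 : i = i₀ := Fin.ext hin
        subst h4
        rw [← h1 v hv, inv_ap]
      · rw [hy i (by omega) v hv]
        have h4 : ρ x' v = v := by
          apply h2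
          obtain ⟨u, rfl⟩ := mem_Rg.mp hv
          refine hf.ind i₀ i ?_ u
          intro h
          apply hin
          rw [← h]
        conv_lhs => rw [← h4]
        rw [inv_ap]
  obtain ⟨y, hyB, hyP, hy⟩ := key m le_rfl
  have hyx : y⁻¹ * x ∈ P := P.mul_mem (P.inv_mem hyP) hxP
  have h1 := hf.max (Rg ρ (y⁻¹ * x)) (by
    intro i w hw
    obtain ⟨v, rfl⟩ := mem_Rg.mp hw
    have h2 := hy i i.2 _ (sub_mem_Rg (f i) v)
    rw [map_sub] at h2
    rw [map_sub, ← mul_ap, ← hPc i _ hyx, mul_ap]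
    have h3 : ρ (y⁻¹ * x) (ρ (f i) v) = (ρ (f i) v - v) + ρ (y⁻¹ * x) v := by
      rw [← h2]; abel
    rw [h3]
    abel)
  have h2 := eq_one_of_small C.D.row ht (C.odd ht htH) htF (hPt _ hyx) h1
  have h3 : x = y := by
    have := congrArg (fun g => y * g) h2
    simpa using this
  rw [h3]
  exact hyB

end Cfsg.Agent.H553.RV
end

-- part: H380/RV/TrLin
section
set_option linter.all false
open scoped Cfsg.Agent.FastGrp

/-!
# TEAM RV, R2: transfer for `PSL_n(q)`, `PSU_n(q)` (helper380)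
-/

set_option autoImplicit false
set_option linter.style.haveILetI false
set_option linter.unusedSectionVars false

namespace Cfsg.Agent.H380.RV

open Subgroup Matrix Cfsg Cfsg.Agent.H988.CPi Cfsg.Agent.H571.DExt Cfsg.Agent.H571.RV
open scoped Pointwise

variable {π : Set ℕ} {F : Type*} [Field F] [Fintype F] {n q : ℕ} {S : Type*} [Group S] [Finite S]

/-- the determinant on `GL_n` -/
def dGL (n : ℕ) (F : Type*) [Field F] : GL (Fin n) F →* Fˣ := GeneralLinearGroup.det (n := Fin n) (R := F)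

/-- the determinant on `GU_n` -/
def dGU (n : ℕ) (F : Type*) [Field F] (q : ℕ) : GU n F q →* Fˣ :=
  (GeneralLinearGroup.det (n := Fin n) (R := F)).comp (GU n F q).subtype

theorem ker_comp {K P S : Type*} [Group K] [Group P] [Group S] (e : S ≃* P) (g : K →* P) :
    (e.symm.toMonoidHom.comp g).ker = g.ker := by
  ext x
  rw [MonoidHom.mem_ker, MonoidHom.mem_ker]
  constructor
  · intro h
    exact e.symm.injective (h.trans (map_one e.symm).symm)
  · intro h
    show e.symm (g x) = 1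
    rw [h, map_one]

/-- **Transfer for `PSL_n`.** -/
theorem fhall_psl (e : S ≃* ProjectiveSpecialLinearGroup (Fin n) F) (h2 : 2 ∉ π)
    (habs : ∀ H : Subgroup (GL (Fin n) F), IsPiHall π H → DomX π (dGL n F).ker H → FH H) (hD : Dom π S) :
    FHall π S := by
  refine fhall_transfer' h2 (dGL n F) (SpecialLinearGroup.toGL (n := Fin n) (R := F)) ?_ ?_
    (e.symm.toMonoidHom.comp (QuotientGroup.mk' (Subgroup.center (SpecialLinearGroup (Fin n) F)))) ?_ ?_ habs hD
  · intro a b h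
    exact Subtype.ext (congrArg Units.val h)
  · ext g
    rw [MonoidHom.mem_range, MonoidHom.mem_ker, Units.ext_iff]
    constructor
    · rintro ⟨x, rfl⟩
      exact x.2
    · intro h
      exact ⟨⟨g.1, h⟩, Units.ext rfl⟩
  · exact e.symm.surjective.comp (QuotientGroup.mk'_surjective _)
  · rw [ker_comp, QuotientGroup.ker_mk']

/-- the embedding of `SU_n` in `GU_n` -/
def jU (n : ℕ) (F : Type*) [Field F] (q : ℕ) : SU n F q →* GU n F q where
  toFun x := ⟨SpecialLinearGroup.toGL x.1, fun u v => x.2 u v⟩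
  map_one' := Subtype.ext (map_one SpecialLinearGroup.toGL)
  map_mul' _ _ := Subtype.ext (map_mul SpecialLinearGroup.toGL _ _)

/-- **Transfer for `PSU_n`.** -/
theorem fhall_psu (e : S ≃* PSU n F q) (h2 : 2 ∉ π)
    (habs : ∀ H : Subgroup (GU n F q), IsPiHall π H → DomX π (dGU n F q).ker H → FH H) (hD : Dom π S) :
    FHall π S := by
  refine fhall_transfer' h2 (dGU n F q) (jU n F q) ?_ ?_
    (e.symm.toMonoidHom.comp (QuotientGroup.mk' (Subgroup.center (SU n F q)))) ?_ ?_ habs hD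
  · intro a b h
    exact Subtype.ext (Subtype.ext (congrArg (fun x : GU n F q => x.1.1) h))
  · ext g
    rw [MonoidHom.mem_range, MonoidHom.mem_ker, Units.ext_iff]
    constructor
    · rintro ⟨x, rfl⟩
      exact x.1.2
    · intro h
      exact ⟨⟨⟨g.1.1, h⟩, fun u v => g.2 u v⟩, Subtype.ext (Units.ext rfl)⟩
  · exact e.symm.surjective.comp (QuotientGroup.mk'_surjective _)
  · rw [ker_comp, QuotientGroup.ker_mk']

/-- The abstract theorem (helper553). -/
def AbsLin (π : Set ℕ) : Prop :=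
  ∀ (F : Type) [Field F] [Fintype F] (n : ℕ) (Y : Type) [Group Y] [Finite Y] (ρ : Representation F Y (Fin n → F))
    (e : ℕ → ℕ) (X : Subgroup Y), Cfsg.Agent.H553.RV.LinDat ρ e X → 2 ∉ π →
    (∀ r ∈ π, r.Prime → (r : F) ≠ 0) → ∀ H : Subgroup Y, IsPiHall π H → DomX π X H → FH H

theorem char_ne {p : ℕ} {F : Type*} [Field F] [Fintype F] [CharP F p] (hp : p ∉ π) :
    ∀ r ∈ π, r.Prime → (r : F) ≠ 0 := by
  intro r hr hr' h
  have hpp : p.Prime := by
    obtain ⟨m, hm, -⟩ := FiniteField.card F p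
    exact hm
  rw [CharP.cast_eq_zero_iff F p, Nat.prime_dvd_prime_iff_eq hpp hr'] at h
  exact hp (h ▸ hr)

theorem fhall_pslChar (habs : AbsLin π) {p : ℕ} (h2 : 2 ∉ π) (hp : p ∉ π) (h : IsPSLChar p S) (hD : Dom π S) :
    FHall π S := by
  obtain ⟨F, _, _, _, n, -, -, ⟨e⟩⟩ := h
  exact fhall_psl e h2 (habs F n _ _ _ _ (linDat_GL n) h2 (char_ne (p := p) hp)) hD

theorem fhall_psuChar (habs : AbsLin π) {p : ℕ} (h2 : 2 ∉ π) (hp : p ∉ π) (h : IsPSUChar p S) (hD : Dom π S) :
    FHall π S := by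
  obtain ⟨F, _, _, _, n, q, hF, -, -, ⟨e⟩⟩ := h
  exact fhall_psu e h2 (habs F n _ _ _ _ (linDat_GU hF n) h2 (char_ne (p := p) hp)) hD

end Cfsg.Agent.H380.RV
end

-- part: H571/RV/FHallE
section
prune_inst 0x200040003400000000000000100020202400019000600001d0400442080751002003010042800c101000aa80000400200000004000000000000000000000000000280200907c0c00000000803003180c00000000000000000000000000041000000000000
set_option linter.all false
open scoped Cfsg.Agent.FastGrp

-- part: H571/RV/FHallC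
section
/-!
# `DFw` in subgroups and quotients (helper571)
-/

set_option autoImplicit false

namespace Cfsg.Agent.H571.RV

open Subgroup Cfsg Cfsg.Agent.H988.CPi Cfsg.Agent.H571.DExt Cfsg.Agent.Solvable.SZ
open scoped Pointwise

universe u

variable {π : Set ℕ} {r : ℕ} {G : Type u} [Group G] [Finite G]

omit [Finite G] in
theorem le_normalizer_subgroupOf {M H A : Subgroup G} (h : H ≤ normalizer (A : Set G)) :
    H.subgroupOf M ≤ normalizer ((A.subgroupOf M : Subgroup M) : Set M) := by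
  rw [le_normalizer_iff]
  intro x hx a ha
  exact (le_normalizer_iff.mp h) x hx a ha

omit [Finite G] in
theorem le_normalizer_map {G' : Type*} [Group G'] (f : G →* G') {H A : Subgroup G} (h : H ≤ normalizer (A : Set G)) :
    H.map f ≤ normalizer ((A.map f : Subgroup G') : Set G') := by
  rw [le_normalizer_iff]
  rintro _ ⟨x, hx, rfl⟩ _ ⟨a, ha, rfl⟩
  exact ⟨x * a * x⁻¹, (le_normalizer_iff.mp h) x hx a ha, by rw [map_mul, map_mul, map_inv]⟩

omit [Finite G] in
theorem DFw.subgroupOf {X H A : Subgroup G} (h : DFw π r X H A) {M : Subgroup G} (hX : X ≤ M) :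
    DFw π r (X.subgroupOf M) (H.subgroupOf M) (A.subgroupOf M) where
  le := fun x hx => h.le hx
  pi := by rw [card_subgroupOf _ _ (h.le.trans hX)]; exact h.pi
  ale := fun x hx => h.ale hx
  nor := le_normalizer_subgroupOf h.nor
  ab := fun a ha b hb => Subtype.ext (h.ab a ha b hb)
  rA := by rw [card_subgroupOf _ _ (h.ale.trans (h.le.trans hX))]; exact h.rA
  idx := by
    intro p hp hd
    rw [relIndex_subgroupOf (h.le.trans hX)] at hd
    exact h.idx p hp hd
  dom := by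
    intro K hK hπ
    have h1 : K.map M.subtype ≤ X := by
      rintro _ ⟨k, hk, rfl⟩
      exact hK hk
    obtain ⟨x, hx, hle⟩ := h.dom (K.map M.subtype) h1 (by rw [card_map_of_injective M.subtype_injective]; exact hπ)
    refine ⟨⟨x, hX hx⟩, hx, fun k hk => ?_⟩
    obtain ⟨y, hy, hy'⟩ := hle ⟨k, hk, rfl⟩
    have hyM : y ∈ M := hX (h.le hy)
    exact ⟨⟨y, hyM⟩, hy, Subtype.ext hy'⟩

theorem DFw.map_mk {X H A : Subgroup G} (h : DFw π r X H A) {B : Subgroup G} [B.Normal] (hB : B ≤ A) :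
    DFw π r (X.map (QuotientGroup.mk' B)) (H.map (QuotientGroup.mk' B)) (A.map (QuotientGroup.mk' B)) where
  le := map_mono h.le
  pi := PiN.of_dvd h.pi (card_map_dvd _ _)
  ale := map_mono h.ale
  nor := le_normalizer_map _ h.nor
  ab := by
    rintro _ ⟨a, ha, rfl⟩ _ ⟨b, hb, rfl⟩
    rw [← map_mul, ← map_mul, h.ab a ha b hb]
  rA := fun hd => h.rA (hd.trans (card_map_dvd _ _))
  idx := by
    intro p hp hd
    rw [relIndex_map_map, QuotientGroup.ker_mk', sup_of_le_left hB, sup_of_le_left (hB.trans h.ale)] at hd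
    exact h.idx p hp hd
  dom := by
    intro K hK hπ
    have hBX : B ≤ X := hB.trans (h.ale.trans h.le)
    have h1 : K.comap (QuotientGroup.mk' B) ≤ X := by
      have h2 := comap_mono (f := QuotientGroup.mk' B) hK
      rwa [comap_map_eq, QuotientGroup.ker_mk', sup_of_le_left hBX] at h2
    have h2 : PiN π (Nat.card (K.comap (QuotientGroup.mk' B))) := by
      rw [card_comap_mk]
      exact (h.pi.of_dvd (card_dvd_of_le (hB.trans h.ale))).mul hπ
    obtain ⟨x, hx, hle⟩ := h.dom _ h1 h2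
    refine ⟨QuotientGroup.mk' B x, ⟨x, hx, rfl⟩, ?_⟩
    rw [← map_comap_eq_self_of_surjective (QuotientGroup.mk'_surjective B) K]
    rintro _ ⟨k, hk, rfl⟩
    obtain ⟨y, hy, rfl⟩ := hle hk
    refine ⟨QuotientGroup.mk' B y, ⟨y, hy, rfl⟩, ?_⟩
    show QuotientGroup.mk' B x * QuotientGroup.mk' B y * (QuotientGroup.mk' B x)⁻¹ = QuotientGroup.mk' B (x * y * x⁻¹)
    rw [map_mul, map_mul, map_inv]

end Cfsg.Agent.H571.RV
end

-- part: H571/RV/Glaub
section
/-!
# Fixed points of maximal `π`-subgroups on sets of subgroups (helper571)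

`exists_fixed` : `X` normal in `G`, `P` a solvable `π`-subgroup, `Q = P ∩ X`, `N = N_X(Q)`, `N/Q` a `π'`-group; a set `Ω` of
subgroups, invariant under `P` and `N`, each member normalised by `Q`, `N` transitive on `Ω`: some member of `Ω` is normalised
by `P` (Glauberman).
-/

set_option autoImplicit false

namespace Cfsg.Agent.H571.RV

open Subgroup Cfsg Cfsg.Agent.H988.CPi Cfsg.Agent.H571.DExt Cfsg.Agent.Solvable.SZ
open scoped Pointwise

variable {π : Set ℕ} {G : Type*} [Group G] [Finite G]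

theorem exists_fixed (X : Subgroup G) [hXn : X.Normal] {P : Subgroup G} (hPπ : PiN π (Nat.card P))
    (hsol : Group.IsSolvable P)
    (hcor : PiN' π ((P ⊓ X).relIndex (normalizer ((P ⊓ X : Subgroup G) : Set G) ⊓ X)))
    (Ω : Set (Subgroup G)) (hne : Ω.Nonempty)
    (hPΩ : ∀ p ∈ P, ∀ H ∈ Ω, MulAut.conj p • H ∈ Ω)
    (hNΩ : ∀ n ∈ normalizer ((P ⊓ X : Subgroup G) : Set G) ⊓ X, ∀ H ∈ Ω, MulAut.conj n • H ∈ Ω)
    (hQΩ : ∀ q ∈ P ⊓ X, ∀ H ∈ Ω, MulAut.conj q • H = H)
    (htr : ∀ H₁ ∈ Ω, ∀ H₂ ∈ Ω, ∃ n ∈ normalizer ((P ⊓ X : Subgroup G) : Set G) ⊓ X, MulAut.conj n • H₁ = H₂) :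
    ∃ H ∈ Ω, ∀ p ∈ P, MulAut.conj p • H = H := by
  set Q := P ⊓ X with hQ
  set N := normalizer (Q : Set G) ⊓ X with hN
  have hQN : Q ≤ N := le_inf le_normalizer inf_le_right
  have hQ'n : (Q.subgroupOf N).Normal := (normal_subgroupOf_iff_le_normalizer hQN).mpr inf_le_left
  set Q' := Q.subgroupOf N with hQ'
  have hPQ : P ≤ normalizer (Q : Set G) := by
    rw [le_normalizer_iff]
    intro h hh k hk
    exact ⟨P.mul_mem (P.mul_mem hh hk.1) (P.inv_mem hh), hXn.conj_mem k hk.2 h⟩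
  have hact : ∀ p ∈ P, ∀ x ∈ N, p * x * p⁻¹ ∈ N := fun p hp x hx =>
    ⟨(normalizer (Q : Set G)).mul_mem ((normalizer (Q : Set G)).mul_mem (hPQ hp) hx.1)
      ((normalizer (Q : Set G)).inv_mem (hPQ hp)), hXn.conj_mem x hx.2 p⟩
  let act : MulDistribMulAction P N := actConj P N hact
  have hinv : ∀ (p : P), ∀ x ∈ Q', p • x ∈ Q' := by
    intro p x hx
    exact ((mem_normalizer_iff.mp (hPQ p.2)) (x : G)).mp hx
  let actQ : MulDistribMulAction P (N ⧸ Q') := Cfsg.Agent.H532.CopAct.quotAct Q' hinv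
  let actP : MulAction P Ω :=
    { smul := fun p H => ⟨MulAut.conj (p : G) • H.1, hPΩ p p.2 H.1 H.2⟩
      one_smul := fun H => Subtype.ext (by
        show MulAut.conj ((1 : P) : G) • H.1 = H.1
        rw [Subgroup.coe_one, map_one, one_smul])
      mul_smul := fun p q H => Subtype.ext (by
        show MulAut.conj ((p * q : P) : G) • H.1 = MulAut.conj (p : G) • MulAut.conj (q : G) • H.1
        rw [Subgroup.coe_mul, map_mul, mul_smul]) }
  let actN : MulAction N Ω :=
    { smul := fun p H => ⟨MulAut.conj (p : G) • H.1, hNΩ p p.2 H.1 H.2⟩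
      one_smul := fun H => Subtype.ext (by
        show MulAut.conj ((1 : N) : G) • H.1 = H.1
        rw [Subgroup.coe_one, map_one, one_smul])
      mul_smul := fun p q H => Subtype.ext (by
        show MulAut.conj ((p * q : N) : G) • H.1 = MulAut.conj (p : G) • MulAut.conj (q : G) • H.1
        rw [Subgroup.coe_mul, map_mul, mul_smul]) }
  have hker : Q' ≤ (MulAction.toPermHom N Ω).ker := by
    intro n hn
    rw [MonoidHom.mem_ker]
    ext H : 1
    apply Subtype.ext
    exact hQΩ n hn H.1 H.2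
  let φ : N ⧸ Q' →* Equiv.Perm Ω := QuotientGroup.lift Q' (MulAction.toPermHom N Ω) hker
  let actC : MulAction (N ⧸ Q') Ω := MulAction.compHom Ω φ
  have hsm : ∀ (n : N) (H : Ω), ((QuotientGroup.mk n : N ⧸ Q') • H).1 = MulAut.conj (n : G) • H.1 := fun n H => rfl
  have hneΩ : Nonempty Ω := hne.to_subtype
  have hcop : (Nat.card P).Coprime (Nat.card (N ⧸ Q')) := hPπ.coprime hcor
  obtain ⟨⟨ω, hω⟩, -⟩ := Cfsg.Agent.H532.CopAct.glauberman (A := P) (G := N ⧸ Q') (Ω := Ω)
    (by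
      intro a c H
      obtain ⟨n, rfl⟩ := QuotientGroup.mk_surjective c
      apply Subtype.ext
      show MulAut.conj (a : G) • MulAut.conj (n : G) • H.1 =
        MulAut.conj ((a : G) * n * (a : G)⁻¹) • MulAut.conj (a : G) • H.1
      rw [← mul_smul, ← mul_smul, ← map_mul, ← map_mul, inv_mul_cancel_right])
    hcop (Or.inl hsol)
    (by
      intro H₁ H₂
      obtain ⟨n, hn, hn'⟩ := htr H₁.1 H₁.2 H₂.1 H₂.2
      exact ⟨QuotientGroup.mk (⟨n, hn⟩ : N), Subtype.ext hn'⟩)
  exact ⟨ω.1, ω.2, fun p hp => congrArg Subtype.val (hω ⟨p, hp⟩)⟩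

omit [Finite G] in
theorem le_normalizer_of_smul {P H : Subgroup G} (h : ∀ p ∈ P, MulAut.conj p • H = H) : P ≤ normalizer (H : Set G) := by
  rw [le_normalizer_iff]
  intro p hp a ha
  have : MulAut.conj p a ∈ MulAut.conj p • H := ⟨a, ha, rfl⟩
  rw [h p hp] at this
  exact this

omit [Finite G] in
theorem smul_eq_of_mem {H : Subgroup G} {h : G} (hh : h ∈ H) : MulAut.conj h • H = H := by
  ext x
  constructor
  · rintro ⟨y, hy, rfl⟩
    exact H.mul_mem (H.mul_mem hh hy) (H.inv_mem hh)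
  · intro hx
    refine ⟨h⁻¹ * x * h, H.mul_mem (H.mul_mem (H.inv_mem hh) hx) hh, ?_⟩
    show h * (h⁻¹ * x * h) * h⁻¹ = x
    group

end Cfsg.Agent.H571.RV
end

-- part: H571/RV/FHallD
section
/-!
# `P ∩ X` is a Hall subgroup of `X` for `X` in the class `DFw` (helper571)
-/

set_option autoImplicit false

namespace Cfsg.Agent.H571.RV

open Subgroup Cfsg Cfsg.Agent.H988.CPi Cfsg.Agent.H571.DExt Cfsg.Agent.Solvable.SZ
open scoped Pointwise

universe u

variable {π : Set ℕ} {r : ℕ} {G : Type u} [Group G] [Finite G]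

/-- an `r`-subgroup whose index in its normaliser is prime to `r` has index prime to `r` -/
theorem not_dvd_relIndex {X Q : Subgroup G} [hr : Fact r.Prime] (hQX : Q ≤ X) (hQ : IsPGroup r Q)
    (h : ¬ r ∣ Q.relIndex (normalizer (Q : Set G) ⊓ X)) : ¬ r ∣ Q.relIndex X := by
  intro hd
  set Q₁ := Q.subgroupOf X with hQ₁
  have hc : Nat.card Q₁ = Nat.card Q := card_subgroupOf _ _ hQX
  obtain ⟨k, hk⟩ := IsPGroup.iff_card.mp hQ
  have h1 : r ^ (k + 1) ∣ Nat.card X := by
    rw [← card_mul_index Q₁, hc, hk, pow_succ]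
    exact Nat.mul_dvd_mul_left _ hd
  have h2 := Sylow.prime_dvd_card_quotient_normalizer h1 (hc.trans hk)
  apply h
  have h3 : Q.relIndex (normalizer (Q : Set G) ⊓ X) =
      Nat.card (normalizer (Q₁ : Set X) ⧸ Q₁.comap (normalizer (Q₁ : Set X)).subtype) := by
    have h4 : normalizer (Q₁ : Set X) = (normalizer (Q : Set G)).subgroupOf X := by
      ext x
      rw [mem_subgroupOf, mem_normalizer_iff, mem_normalizer_iff]
      constructor
      · intro hx g
        constructor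
        · intro hg
          exact (hx ⟨g, hQX hg⟩).mp hg
        · intro hg
          have h5 : g ∈ X := by
            have h6 := X.mul_mem (X.mul_mem (X.inv_mem x.2) (hQX hg)) x.2
            simpa [mul_assoc] using h6
          exact (hx ⟨g, h5⟩).mpr hg
      · intro hx g
        exact hx (g : G)
    have h7 : Nat.card (normalizer (Q₁ : Set X) ⧸ Q₁.comap (normalizer (Q₁ : Set X)).subtype) =
        Q₁.relIndex (normalizer (Q₁ : Set X)) := rfl
    rw [h7, h4, hQ₁, ← inf_subgroupOf_right (normalizer (Q : Set G)) X, relIndex_subgroupOf inf_le_right]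
  rw [h3]
  exact h2

theorem DFw.inter_of_pgroup (X : Subgroup G) [hXn : X.Normal] {H A : Subgroup G} (h : DFw π r X H A) [hr : Fact r.Prime]
    (hrπ : r ∈ π) {P : Subgroup G} (hP : Maximal (IsPiSubgroup π) P) (hsol : Group.IsSolvable P) (hQH : P ⊓ X ≤ H)
    (hQr : IsPGroup r (P ⊓ X : Subgroup G))
    (hcor : PiN' π ((P ⊓ X).relIndex (normalizer ((P ⊓ X : Subgroup G) : Set G) ⊓ X))) :
    PiN' π ((P ⊓ X).relIndex X) := by
  set Q := P ⊓ X with hQ
  have hQX : Q ≤ X := inf_le_right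
  have hnd : ¬ r ∣ Q.relIndex X := not_dvd_relIndex hQX hQr (hcor r hr.out hrπ)
  set Ω : Set (Subgroup G) := {H' | Q ≤ H' ∧ ∃ x ∈ X, H' = MulAut.conj x • H} with hΩ
  have hcard : ∀ H' ∈ Ω, Nat.card H' = Nat.card H := by
    rintro _ ⟨-, x, -, rfl⟩
    exact card_conj_smul _ _
  have hpi : ∀ H' ∈ Ω, PiN π (Nat.card H') := fun H' hH' => by rw [hcard H' hH']; exact h.pi
  have hleX : ∀ H' ∈ Ω, H' ≤ X := by
    rintro _ ⟨-, x, hx, rfl⟩
    exact (h.conj hx).le
  have hmem : ∀ g : G, ∀ H' ∈ Ω, Q ≤ MulAut.conj g • H' → MulAut.conj g • H' ∈ Ω := by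
    intro g H' hH' hle
    have h1 : MulAut.conj g • H' ≤ X := by
      rintro _ ⟨y, hy, rfl⟩
      exact hXn.conj_mem y (hleX H' hH' hy) g
    have h2 : PiN π (Nat.card (MulAut.conj g • H' : Subgroup G)) := by rw [card_conj_smul]; exact hpi H' hH'
    obtain ⟨x, hx, hx'⟩ := h.dom _ h1 h2
    refine ⟨hle, x, hx, eq_of_le_of_card_ge hx' ?_⟩
    rw [card_conj_smul, card_conj_smul, hcard H' hH']
  have hQn : ∀ g ∈ normalizer (Q : Set G), MulAut.conj g • Q = Q := by
    intro g hg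
    apply eq_of_le_of_card_ge
    · rintro _ ⟨y, hy, rfl⟩
      exact (mem_normalizer_iff.mp hg y).mp hy
    · rw [card_conj_smul]
  have hPQ : P ≤ normalizer (Q : Set G) := by
    rw [le_normalizer_iff]
    intro h hh k hk
    exact ⟨P.mul_mem (P.mul_mem hh hk.1) (P.inv_mem hh), hXn.conj_mem k hk.2 h⟩
  obtain ⟨H', hH', hfix⟩ := exists_fixed X hP.1 hsol hcor Ω
    ⟨H, hQH, 1, X.one_mem, by rw [map_one, one_smul]⟩
    (fun p hp H' hH' => hmem p H' hH' (by
      have h1 := smul_mono_right (MulAut.conj p) hH'.1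
      rwa [hQn p (hPQ hp)] at h1))
    (fun n hn H' hH' => hmem n H' hH' (by
      have h1 := smul_mono_right (MulAut.conj n) hH'.1
      rwa [hQn n hn.1] at h1))
    (fun q hq H' hH' => smul_eq_of_mem (hH'.1 hq))
    (by
      intro H₁ hH₁ H₂ hH₂
      obtain ⟨hQ1, x₁, hx₁, e₁⟩ := id hH₁
      obtain ⟨hQ2, x₂, hx₂, e₂⟩ := id hH₂
      set x := x₂ * x₁⁻¹ with hx
      have hxX : x ∈ X := X.mul_mem hx₂ (X.inv_mem hx₁)
      have hxe : MulAut.conj x • H₁ = H₂ := by
        rw [e₁, e₂, ← mul_smul, ← map_mul, hx, inv_mul_cancel_right]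
      have hQx : MulAut.conj x • Q ≤ H₂ := by rw [← hxe]; exact smul_mono_right _ hQ1
      have hidx : ∀ Q₀ : Subgroup G, Q₀ ≤ H₂ → Nat.card Q₀ = Nat.card Q → ¬ r ∣ (Q₀.subgroupOf H₂).index := by
        intro Q₀ h0 hc hd
        have h1 : Nat.card Q₀ * Q₀.relIndex H₂ = Nat.card H₂ := by
          rw [← card_subgroupOf _ _ h0]; exact card_mul_index _
        have h2 : Nat.card Q * Q.relIndex H₂ = Nat.card H₂ := by
          rw [← card_subgroupOf _ _ hQ2]; exact card_mul_index _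
        rw [hc] at h1
        have h3 := Nat.eq_of_mul_eq_mul_left Nat.card_pos (h1.trans h2.symm)
        have h4 : Q.relIndex H₂ ∣ Q.relIndex X :=
          ⟨_, (relIndex_mul_relIndex Q H₂ X hQ2 (hleX H₂ hH₂)).symm⟩
        have h5 : r ∣ Q.relIndex H₂ := by rw [← h3]; exact hd
        exact hnd (h5.trans h4)
      have hr1 : IsPGroup r (Q.subgroupOf H₂) := by
        obtain ⟨k, hk⟩ := IsPGroup.iff_card.mp hQr
        exact IsPGroup.iff_card.mpr ⟨k, by rw [card_subgroupOf _ _ hQ2]; exact hk⟩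
      have hr2 : IsPGroup r ((MulAut.conj x • Q).subgroupOf H₂) := by
        obtain ⟨k, hk⟩ := IsPGroup.iff_card.mp hQr
        exact IsPGroup.iff_card.mpr ⟨k, by rw [card_subgroupOf _ _ hQx, card_conj_smul]; exact hk⟩
      let S₁ : Sylow r H₂ := hr1.toSylow (hidx Q hQ2 rfl)
      let S₂ : Sylow r H₂ := hr2.toSylow (hidx _ hQx (card_conj_smul _ _))
      obtain ⟨t, ht⟩ := MulAction.exists_smul_eq H₂ S₂ S₁
      have ht' : MulAut.conj (t : G) • (MulAut.conj x • Q) = Q := by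
        apply eq_of_le_of_card_ge
        · rintro _ ⟨y, hy, rfl⟩
          have h1 : (⟨y, hQx hy⟩ : H₂) ∈ S₂ := hy
          have h2 : MulAut.conj t (⟨y, hQx hy⟩ : H₂) ∈ (t • S₂ : Sylow r H₂) := ⟨_, h1, rfl⟩
          rw [ht] at h2
          exact h2
        · rw [card_conj_smul, card_conj_smul]
      refine ⟨t * x, ⟨?_, X.mul_mem (hleX H₂ hH₂ t.2) hxX⟩, ?_⟩
      · rw [← mul_smul, ← map_mul] at ht'
        have h3 : Subgroup.zpowers ((t : G) * x) ≤ normalizer (Q : Set G) := by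
          apply le_normalizer_of_smul
          rintro _ ⟨m, rfl⟩
          show MulAut.conj (((t : G) * x) ^ m) • Q = Q
          rw [map_zpow]
          have h4 : MulAut.conj ((t : G) * x) ∈ MulAction.stabilizer (MulAut G) Q := ht'
          exact (MulAction.stabilizer (MulAut G) Q).zpow_mem h4 m
        exact h3 (mem_zpowers _)
      · rw [map_mul, mul_smul, hxe]
        exact smul_eq_of_mem t.2)
  have h1 : H' ≤ P := le_of_maximal hP (le_normalizer_of_smul hfix) (hpi H' hH')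
  have h2 : H' = Q := le_antisymm (le_inf h1 (hleX H' hH')) hH'.1
  obtain ⟨-, x, hx, e⟩ := hH'
  rw [← h2, e]
  exact (h.conj hx).hall

end Cfsg.Agent.H571.RV
end

-- part: H571/RV/FHallE
section
/-!
# The main theorem for the class `DFw` and `rowE_of_fhall` (helper571)
-/

set_option autoImplicit false

namespace Cfsg.Agent.H571.RV

open Subgroup Cfsg Cfsg.Agent.H988.CPi Cfsg.Agent.H571.DExt Cfsg.Agent.Solvable.SZ
open scoped Pointwise

universe u

variable {π : Set ℕ} {r : ℕ}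

theorem map_inf_mk {G : Type*} [Group G] (B X P : Subgroup G) [B.Normal] (hB : B ≤ X) :
    P.map (QuotientGroup.mk' B) ⊓ X.map (QuotientGroup.mk' B) = (P ⊓ X).map (QuotientGroup.mk' B) := by
  apply le_antisymm
  · rintro _ ⟨⟨p, hp, rfl⟩, ⟨x, hx, hxp⟩⟩
    refine ⟨p, ⟨hp, ?_⟩, rfl⟩
    have h1 : x⁻¹ * p ∈ B := QuotientGroup.eq.mp hxp
    have h2 := X.mul_mem hx (hB h1)
    simpa using h2
  · exact map_inf_le _ _ _

theorem inter_hall_aux (hr : r.Prime) (n : ℕ) : ∀ (G : Type u) [Group G] [Finite G] (X : Subgroup G) [X.Normal]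
    (H A : Subgroup G), Nat.card X = n → DFw π r X H A → ∀ P : Subgroup G, Maximal (IsPiSubgroup π) P →
    Group.IsSolvable P → PiN' π ((P ⊓ X).relIndex X) := by
  have := Fact.mk hr
  induction n using Nat.strong_induction_on with
  | _ n ih =>
    intro G _ _ X hXn H A hn h P hP hsol
    set Q := P ⊓ X with hQ
    have hQX : Q ≤ X := inf_le_right
    have hQπ : PiN π (Nat.card Q) := PiN.of_dvd hP.1 (card_dvd_of_le inf_le_left)
    have hcor : PiN' π (Q.relIndex (normalizer (Q : Set G) ⊓ X)) :=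
      piN'_normalizer_quot X hP (Group.isSolvable_of_surjective ((QuotientGroup.mk' X).subgroupMap_surjective P))
    -- conjugate
    obtain ⟨x, hx, hQx⟩ := h.dom Q hQX hQπ
    have h := h.conj hx
    generalize MulAut.conj x • H = H at h hQx
    generalize MulAut.conj x • A = A at h
    have hQH : Q ≤ H := hQx
    have hPQ : P ≤ normalizer (Q : Set G) := by
      rw [le_normalizer_iff]
      intro g hg k hk
      exact ⟨P.mul_mem (P.mul_mem hg hk.1) (P.inv_mem hg), hXn.conj_mem k hk.2 g⟩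
    set B := Q ⊓ A with hB
    -- the index of `B` in `Q` is a power of `r`
    have hBQ : ∀ p : ℕ, p.Prime → p ∣ B.relIndex Q → p = r := by
      intro p hp hd
      rw [hB, inf_relIndex_left] at hd
      have hn1 : (A.subgroupOf H).Normal := (normal_subgroupOf_iff_le_normalizer h.ale).mpr h.nor
      have h2 := relIndex_dvd_index_of_normal (A.subgroupOf H) (Q.subgroupOf H)
      rw [relIndex_subgroupOf hQH] at h2
      exact h.idx p hp (hd.trans h2)
    have hrB : ¬ r ∣ Nat.card B := fun hd => h.rA (hd.trans (card_dvd_of_le inf_le_right))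
    have hcB : Nat.card B * B.relIndex Q = Nat.card Q := by
      rw [← card_subgroupOf _ _ (inf_le_left : B ≤ Q)]; exact card_mul_index _
    by_cases hB1 : B = ⊥
    · -- `Q` is an `r`-group
      by_cases hQ1 : Q = ⊥
      · have h1 : normalizer (Q : Set G) = ⊤ := by rw [hQ1, normalizer_eq_top]
        rw [h1, top_inf_eq] at hcor
        exact hcor
      · have hQr : IsPGroup r Q := by
          rw [IsPGroup.iff_card]
          refine ⟨_, Nat.eq_prime_pow_of_unique_prime_dvd Nat.card_pos.ne' fun {d} hd hdd => ?_⟩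
          apply hBQ d hd
          rw [← hcB, hB1, card_bot, one_mul] at hdd
          rwa [hB1]
        have hrπ : r ∈ π := by
          obtain ⟨k, hk⟩ := IsPGroup.iff_card.mp hQr
          have hk0 : k ≠ 0 := by
            rintro rfl
            rw [pow_zero] at hk
            exact hQ1 (eq_bot_of_card_eq _ hk)
          exact hQπ r hr (hk ▸ dvd_pow_self r hk0)
        exact DFw.inter_of_pgroup X h hrπ hP hsol hQH hQr hcor
    · -- pass to `N_G(B) / B`
      have hPB : P ≤ normalizer (B : Set G) := by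
        rw [le_normalizer_iff]
        intro g hg b hb
        refine ⟨(le_normalizer_iff.mp hPQ) g hg b hb.1, ?_⟩
        -- the subgroup `B^g ≤ Q` has order prime to `r`
        have h1 : MulAut.conj g • B ≤ Q := by
          rintro _ ⟨y, hy, rfl⟩
          exact (le_normalizer_iff.mp hPQ) g hg y hy.1
        have h2 : MulAut.conj g • B ≤ A := h.le_A (h1.trans hQH) (by rw [card_conj_smul]; exact hrB)
        exact h2 ⟨b, hb, rfl⟩
      obtain ⟨hAY, H', h'⟩ := h.norm hr (inf_le_right : B ≤ A)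
      set Y := normalizer (B : Set G) ⊓ X with hY
      set M := normalizer (B : Set G) with hM
      have hYM : Y ≤ M := inf_le_left
      have hBM : B ≤ M := le_normalizer
      have hBX : B ≤ X := inf_le_left.trans hQX
      have hBY : B ≤ Y := le_inf hBM hBX
      have hQY : Q ≤ Y := le_inf (inf_le_left.trans hPB) hQX
      have hB'n : (B.subgroupOf M).Normal := (normal_subgroupOf_iff_le_normalizer hBM).mpr le_rfl
      set B' := B.subgroupOf M with hB'
      have hYn : (Y.subgroupOf M).Normal := by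
        have h1 : Y.subgroupOf M = X.subgroupOf M := by
          ext g
          exact ⟨fun hg => hg.2, fun hg => ⟨g.2, hg⟩⟩
        rw [h1]; infer_instance
      have hX'n : ((Y.subgroupOf M).map (QuotientGroup.mk' B')).Normal :=
        Normal.map hYn _ (QuotientGroup.mk'_surjective B')
      have hB'Y : B' ≤ Y.subgroupOf M := fun g hg => hBY hg
      have hB'P : B' ≤ P.subgroupOf M := fun g hg => (inf_le_left.trans inf_le_left : B ≤ P) hg
      have hDF := (h'.subgroupOf hYM).map_mk (B := B') (fun g hg => (inf_le_right : B ≤ A) hg)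
      have hBπ : PiN π (Nat.card B') := by
        rw [hB', card_subgroupOf _ _ hBM]
        exact hQπ.of_dvd (card_dvd_of_le inf_le_left)
      have hP' := (maximal_map_mk B' hBπ (maximal_subgroupOf hP hPB)).2
      have hsol' : Group.IsSolvable ((P.subgroupOf M).map (QuotientGroup.mk' B')) := by
        have h1 : Group.IsSolvable (P.subgroupOf M) :=
          Group.isSolvable_of_surjective (f := (subgroupOfEquivOfLe hPB).symm.toMonoidHom)
            (subgroupOfEquivOfLe hPB).symm.surjective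
        exact Group.isSolvable_of_surjective ((QuotientGroup.mk' B').subgroupMap_surjective (P.subgroupOf M))
      have hcard : Nat.card B' * Nat.card ((Y.subgroupOf M).map (QuotientGroup.mk' B')) = Nat.card (Y.subgroupOf M) := by
        rw [← card_comap_mk, comap_map_eq, QuotientGroup.ker_mk', sup_of_le_left hB'Y]
      have hlt : Nat.card ((Y.subgroupOf M).map (QuotientGroup.mk' B')) < n := by
        have h1 : Nat.card B' ≠ 1 := by
          rw [hB', card_subgroupOf _ _ hBM]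
          exact fun h => hB1 (eq_bot_of_card_eq _ h)
        have h2 : 0 < Nat.card B' := Nat.card_pos
        have h3 : 0 < Nat.card ((Y.subgroupOf M).map (QuotientGroup.mk' B')) := Nat.card_pos
        have h4 : Nat.card (Y.subgroupOf M) ≤ n := by
          rw [card_subgroupOf _ _ hYM, ← hn]
          exact Nat.le_of_dvd Nat.card_pos (card_dvd_of_le inf_le_right)
        have h5 : 2 ≤ Nat.card B' := by omega
        nlinarith only [hcard, h3, h4, h5]
      have hfin := ih _ hlt _ _ _ _ rfl hDF _ hP' hsol'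
      rw [map_inf_mk B' _ _ hB'Y, relIndex_map_map, QuotientGroup.ker_mk', sup_of_le_left hB'Y,
        sup_of_le_left (le_inf hB'P hB'Y)] at hfin
      have hfin2 : PiN' π (Q.relIndex Y) := by
        have h1 : (P.subgroupOf M ⊓ Y.subgroupOf M) = Q.subgroupOf M := by
          ext g
          exact ⟨fun hg => ⟨hg.1, hg.2.2⟩, fun hg => ⟨hg.1, ⟨g.2, hg.2⟩⟩⟩
        rwa [h1, relIndex_subgroupOf hYM] at hfin
      have hcQ : Nat.card Q * Q.relIndex Y = Nat.card Y := by
        rw [← card_subgroupOf _ _ hQY]; exact card_mul_index _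
      have hdvd : ∀ K : Subgroup G, K ≤ Y → PiN π (Nat.card K) → Nat.card K ∣ Nat.card Q := by
        intro K hK hKπ
        have h1 : Nat.card K ∣ Nat.card Q * Q.relIndex Y := by rw [hcQ]; exact card_dvd_of_le hK
        exact (hKπ.coprime hfin2).dvd_of_dvd_mul_right h1
      -- `B = A`
      have hAB : B = A := by
        have hAπ : PiN π (Nat.card A) := h.pi.of_dvd (card_dvd_of_le h.ale)
        have h1 := hdvd A hAY hAπ
        rw [← hcB] at h1
        have h2 : (Nat.card A).Coprime (B.relIndex Q) := by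
          refine Nat.coprime_of_dvd fun p hp h3 h4 => ?_
          exact h.rA ((hBQ p hp h4) ▸ h3)
        have h3 := h2.dvd_of_dvd_mul_right h1
        exact eq_of_le_of_card_ge inf_le_right (Nat.le_of_dvd Nat.card_pos h3)
      have hHY : H ≤ Y := by
        refine le_inf ?_ h.le
        rw [hAB]
        exact h.nor
      have hHQ : Q = H := eq_of_le_of_card_ge hQH (Nat.le_of_dvd Nat.card_pos (hdvd H hHY h.pi))
      rw [hHQ]
      exact h.hall

/-- `X` normal in `G`, in the class `DFw`, `P` a solvable maximal `π`-subgroup of `G`: `P ∩ X` is a Hall subgroup of `X`. -/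
theorem inter_hall_of_DF (hr : r.Prime) {G : Type u} [Group G] [Finite G] (X : Subgroup G) [X.Normal]
    {H A : Subgroup G} (h : DFw π r X H A) {P : Subgroup G} (hP : Maximal (IsPiSubgroup π) P)
    (hsol : Group.IsSolvable P) : PiN' π ((P ⊓ X).relIndex X) :=
  inter_hall_aux hr _ G X H A rfl h P hP hsol

/-! ### From subgroups of `MulAut S` to `S` -/

section row

variable {S : Type u} [Group S] [Finite S]

omit [Finite S] in
/-- the solvability of `π`-subgroups of `Aut S` -/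
theorem isSolvable_of_aut (hOut : Group.IsSolvable (MulAut S ⧸ inn S)) (P : Subgroup (MulAut S))
    (h : Group.IsSolvable (P ⊓ inn S : Subgroup (MulAut S))) : Group.IsSolvable P := by
  have h1 : Group.IsSolvable (P.map (QuotientGroup.mk' (inn S))) := inferInstance
  let f : P →* P.map (QuotientGroup.mk' (inn S)) := (QuotientGroup.mk' (inn S)).subgroupMap P
  have hk : Group.IsSolvable f.ker := by
    have h2 : f.ker.map P.subtype ≤ P ⊓ inn S := by
      rintro _ ⟨p, hp, rfl⟩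
      refine ⟨p.2, ?_⟩
      have h3 : QuotientGroup.mk' (inn S) (p : MulAut S) = 1 := congrArg Subtype.val (MonoidHom.mem_ker.mp hp)
      exact (QuotientGroup.eq_one_iff _).mp h3
    have h4 : Group.IsSolvable (f.ker.map P.subtype) :=
      Group.isSolvable_of_isSolvable_injective (Subgroup.inclusion_injective h2)
    exact Group.isSolvable_of_isSolvable_injective
      (f := (f.ker.equivMapOfInjective P.subtype P.subtype_injective).toMonoidHom)
      (f.ker.equivMapOfInjective P.subtype P.subtype_injective).injective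
  exact Group.isSolvable_of_ker_le_range f.ker.subtype f (by rw [Subgroup.range_subtype])

theorem DFw.solvable {G : Type u} [Group G] [Finite G] {X H A : Subgroup G} (h : DFw π r X H A) (hr : r.Prime) :
    Group.IsSolvable H := by
  have := Fact.mk hr
  have hn : (A.subgroupOf H).Normal := (normal_subgroupOf_iff_le_normalizer h.ale).mpr h.nor
  have h1 : Group.IsSolvable (A.subgroupOf H) := by
    have hcomm : ∀ a b : A.subgroupOf H, a * b = b * a := fun a b =>
      Subtype.ext (Subtype.ext (h.ab _ a.2 _ b.2))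
    let inst : CommGroup (A.subgroupOf H) := { (inferInstance : Group (A.subgroupOf H)) with mul_comm := hcomm }
    infer_instance
  have h2 : Group.IsSolvable (H ⧸ A.subgroupOf H) := by
    have h3 : IsPGroup r (H ⧸ A.subgroupOf H) := by
      rw [IsPGroup.iff_card]
      exact ⟨_, Nat.eq_prime_pow_of_unique_prime_dvd Nat.card_pos.ne' fun {d} hd hdd => h.idx d hd hdd⟩
    have h4 := h3.isNilpotent
    infer_instance
  exact (Group.isSolvable_iff_subgroup_quotient (A.subgroupOf H)).mpr ⟨h1, h2⟩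

omit [Finite S] in
theorem DFw.map_inj {G : Type u} [Group G] [Finite G] {H A : Subgroup S} (h : DFw π r ⊤ H A) (f : S →* G)
    (hf : Function.Injective f) : DFw π r f.range (H.map f) (A.map f) where
  le := map_le_range _ _
  pi := by rw [card_map_of_injective hf]; exact h.pi
  ale := map_mono h.ale
  nor := le_normalizer_map f h.nor
  ab := by
    rintro _ ⟨a, ha, rfl⟩ _ ⟨b, hb, rfl⟩
    rw [← map_mul, ← map_mul, h.ab a ha b hb]
  rA := by rw [card_map_of_injective hf]; exact h.rA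
  idx := by
    intro p hp hd
    rw [relIndex_map_map_of_injective _ _ hf] at hd
    exact h.idx p hp hd
  dom := by
    intro K hK hπ
    have h1 : (K.comap f).map f = K := by rw [map_comap_eq, inf_of_le_right hK]
    have h2 : PiN π (Nat.card (K.comap f)) := by
      rw [← card_map_of_injective hf, h1]; exact hπ
    obtain ⟨x, -, hle⟩ := h.dom (K.comap f) le_top h2
    refine ⟨f x, ⟨x, rfl⟩, ?_⟩
    rw [← h1]
    rintro _ ⟨k, hk, rfl⟩
    obtain ⟨y, hy, rfl⟩ := hle hk
    refine ⟨f y, ⟨y, hy, rfl⟩, ?_⟩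
    show f x * f y * (f x)⁻¹ = f (x * y * x⁻¹)
    rw [map_mul, map_mul, map_inv]

omit [Finite S] in
theorem conj_injective (hc : Subgroup.center S = ⊥) : Function.Injective (MulAut.conj : S →* MulAut S) := by
  rw [← MonoidHom.ker_eq_bot_iff, eq_bot_iff, ← hc]
  intro s hs
  rw [Subgroup.mem_center_iff]
  intro g
  have h1 := DFunLike.congr_fun (MonoidHom.mem_ker.mp hs) g
  rw [MulAut.conj_apply, MulAut.one_apply] at h1
  have h2 := congrArg (· * s) h1
  simpa only [_root_.inv_mul_cancel_right] using h2.symm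

/-- A maximal `π`-subgroup `P` of `Aut S` with `P ∩ Inn S` Hall in `Inn S` gives the conclusion of `RowE`. -/
theorem exists_stab (hc : Subgroup.center S = ⊥) {P P₀ : Subgroup (MulAut S)} (hP : PiN π (Nat.card P)) (hle : P₀ ≤ P)
    (h : PiN' π ((P ⊓ inn S).relIndex (inn S))) : ∃ H : Subgroup S, IsPiHall π H ∧ P₀ ≤ stab H := by
  set f : S →* MulAut S := MulAut.conj with hf
  have hinj : Function.Injective f := conj_injective hc
  have hmap : (P.comap f).map f = P ⊓ inn S := by rw [map_comap_eq, inf_comm]; rfl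
  refine ⟨P.comap f, ⟨?_, ?_⟩, ?_⟩
  · have h1 : PiN π (Nat.card (P.comap f)) := by
      rw [← card_map_of_injective hinj, hmap]
      exact hP.of_dvd (card_dvd_of_le inf_le_left)
    exact h1
  · have h1 : PiN' π (P.comap f).index := by
      rw [← relIndex_top_right, ← relIndex_map_map_of_injective _ _ hinj, hmap]
      have h2 : (⊤ : Subgroup S).map f = inn S := (MonoidHom.range_eq_map f).symm
      rw [h2]; exact h
    exact h1
  · intro α hα
    rw [mem_stab]
    apply eq_of_le_of_card_ge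
    · rintro _ ⟨s, hs, rfl⟩
      show f (α s) ∈ P
      have h1 : f (α s) = α * f s * α⁻¹ := by
        ext x
        simp only [hf, MulAut.mul_apply, _root_.MulAut.conj_apply, _root_.MulAut.inv_apply, _root_.map_mul, _root_.MulEquiv.apply_symm_apply, _root_.map_inv]
      rw [h1]
      exact P.mul_mem (P.mul_mem (hle hα) hs) (P.inv_mem (hle hα))
    · rw [card_map_of_injective (α : S ≃* S).injective]

/-- **RowE from FHall.** -/
theorem rowE_of_fhall (hc : Subgroup.center S = ⊥) (hOut : Group.IsSolvable (MulAut S ⧸ inn S))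
    (h : Dom π S → FHall π S) : RowE π S := by
  intro hD P₀ hP₀
  obtain ⟨r, hr, H, A, hDF⟩ := DFw.of_FHall hD (h hD)
  have hDF' : DFw π r (inn S) (H.map (MulAut.conj : S →* MulAut S)) (A.map (MulAut.conj : S →* MulAut S)) :=
    hDF.map_inj _ (conj_injective hc)
  obtain ⟨P, hle, hP⟩ := Finite.exists_le_maximal (p := IsPiSubgroup π) (a := P₀) hP₀
  have hsol : Group.IsSolvable P := by
    apply isSolvable_of_aut hOut
    obtain ⟨x, hx, hPx⟩ := hDF'.dom (P ⊓ inn S) inf_le_right (PiN.of_dvd hP.1 (card_dvd_of_le inf_le_left))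
    have h1 := (hDF'.conj hx).solvable hr
    exact Group.isSolvable_of_isSolvable_injective (Subgroup.inclusion_injective hPx)
  exact exists_stab hc hP.1 hle (inter_hall_of_DF hr (inn S) hDF' hP hsol)

end row

end Cfsg.Agent.H571.RV
end
end

-- part: H537/RV/R1Lie
section
prune_inst 0x100000040000000000000010003c02a6000092006b0001d0000442048659012002072070200e1011002a60003c004000000049001000002000020040040000002820821000a00001000080f803180c00000000000000000000000000041000000000000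
set_option linter.all false
open scoped Cfsg.Agent.FastGrp

-- part: H537/RV/R1Abs
section
/-!
# TEAM RV, row R1: maximal `π`-subgroups of automorphism groups, own characteristic, odd order (helper537)

* `glau` : Glauberman's lemma for a chain `Q ≤ K`, `π`, `π'`, `π`;
* `OwnData p N` : the facts on the group of Lie type `N` in characteristic `p`, `2 ∉ π`, `p ∈ π`;
* `main` : a maximal `π`-subgroup `P` of `G` normalises a Hall `π`-subgroup of the normal subgroup `N`.
-/

set_option autoImplicit false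
set_option linter.unusedSectionVars false

namespace Cfsg.Agent.H537.RV

open Subgroup Cfsg Cfsg.Agent.H988.CPi Cfsg.Agent.H571.DExt Cfsg.Agent.Solvable.SZ
open scoped Pointwise

variable {π : Set ℕ} {G : Type*} [Group G]

theorem mem_norm_iff {H : Subgroup G} {g : G} : g ∈ normalizer (H : Set G) ↔ MulAut.conj g • H = H := by
  rw [mem_normalizer_iff_map_conj_eq]
  exact Iff.rfl

theorem smul_normalizer (g : G) (H : Subgroup G) :
    MulAut.conj g • normalizer (H : Set G) = normalizer ((MulAut.conj g • H : Subgroup G) : Set G) := by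
  ext x
  rw [mem_norm_iff, mem_pointwise_smul_iff_inv_smul_mem, mem_norm_iff]
  have h1 : ((MulAut.conj g)⁻¹ • x : G) = g⁻¹ * x * g := by
    rw [← map_inv]; simp [MulAut.smul_def]
  rw [h1]
  constructor
  · intro h
    rw [← mul_smul, ← map_mul]
    have h2 : x * g = g * (g⁻¹ * x * g) := by group
    rw [h2, map_mul, mul_smul, h]
  · intro h
    rw [← mul_smul, ← map_mul] at h
    have h2 : g⁻¹ * x * g = g⁻¹ * (x * g) := by group
    rw [h2, map_mul, mul_smul, h, ← mul_smul, ← map_mul, inv_mul_cancel, map_one, one_smul]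

theorem relIndex_smul (g : G) (H K : Subgroup G) :
    (MulAut.conj g • H : Subgroup G).relIndex (MulAut.conj g • K : Subgroup G) = H.relIndex K := by
  exact relIndex_map_map_of_injective H K (f := (MulAut.conj g).toMonoidHom) (MulAut.conj g).injective

theorem smul_of_normal (g : G) (N : Subgroup G) [N.Normal] : MulAut.conj g • N = N :=
  mem_norm_iff.mp (by rw [normalizer_eq_top]; trivial)

theorem smul_sup' (g : G) (H K : Subgroup G) :
    MulAut.conj g • (H ⊔ K) = MulAut.conj g • H ⊔ MulAut.conj g • K :=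
  _root_.Subgroup.map_sup H K _

theorem smul_inf' (g : G) (H K : Subgroup G) :
    MulAut.conj g • (H ⊓ K) = MulAut.conj g • H ⊓ MulAut.conj g • K :=
  map_inf H K _ (MulAut.conj g).injective

theorem card_smul (g : G) (H : Subgroup G) : Nat.card (MulAut.conj g • H : Subgroup G) = Nat.card H :=
  card_conj_smul g H

theorem isPGroup_smul {p : ℕ} (g : G) {H : Subgroup G} (h : IsPGroup p H) :
    IsPGroup p (MulAut.conj g • H : Subgroup G) :=
  h.map (MulAut.conj g).toMonoidHom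

variable [Finite G]

theorem glau_aux {P K Q St : Subgroup G} [Q.Normal] [K.Normal] (hQK : Q ≤ K) (hQP : Q ≤ P) (hQS : Q ≤ St)
    (hP : PiN π (Nat.card P)) (hK : PiN' π (Q.relIndex K)) (h1 : P ⊔ K = ⊤) (h2 : St ⊔ K = ⊤) :
    ∃ g : G, P ≤ MulAut.conj g • St := by
  have hQ : PiN π (Nat.card Q) := hP.of_dvd (card_dvd_of_le hQP)
  have hKi : PiN π K.index := by
    have h3 := relIndex_sup_right P K
    rw [h1, relIndex_top_right] at h3
    rw [h3]
    exact hP.of_dvd (relIndex_dvd_card K P)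
  have cG : IsCPiGroup π G := cpi_of_chain Q K hQK hQ hK hKi
  have cS : IsCPiGroup π St := by
    have n1 : (Q.subgroupOf St).Normal := inferInstance
    have n2 : (K.subgroupOf St).Normal := inferInstance
    refine cpi_of_chain (Q.subgroupOf St) (K.subgroupOf St) (fun x hx => hQK hx) ?_ ?_ ?_
    · rw [card_subgroupOf _ _ hQS]; exact hQ
    · have h3 : (Q.subgroupOf St).relIndex (K.subgroupOf St) = Q.relIndex (K ⊓ St) := by
        rw [← inf_subgroupOf_right K St, relIndex_subgroupOf inf_le_right]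
      rw [h3]
      refine PiN'.of_dvd hK ?_
      exact ⟨_, (relIndex_mul_relIndex Q (K ⊓ St) K (le_inf hQK hQS) inf_le_left).symm⟩
    · exact hKi.of_dvd (relIndex_dvd_index_of_normal K St)
  obtain ⟨L₀, hL₀⟩ := cS.1
  have hSi : PiN' π St.index := by
    have h3 := relIndex_mul_sup_index St K
    rw [h2, index_top, mul_one] at h3
    rw [← h3]
    exact PiN'.of_dvd hK (relIndex_dvd_of_le_left K hQS)
  have hPi : PiN' π P.index := by
    have h3 := relIndex_mul_sup_index P K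
    rw [h1, index_top, mul_one] at h3
    rw [← h3]
    exact PiN'.of_dvd hK (relIndex_dvd_of_le_left K hQP)
  have hL : IsPiHall π (L₀.map St.subtype) := by
    refine ⟨?_, ?_⟩
    · have : PiN π (Nat.card (L₀.map St.subtype)) := by
        rw [card_map_of_injective St.subtype_injective]; exact hL₀.1
      exact this
    · have : PiN' π (L₀.map St.subtype).index := by
        rw [index_map_subtype]
        exact PiN'.mul hL₀.2 hSi
      exact this
  obtain ⟨g, hg⟩ := cG.2 _ P hL ⟨hP, hPi⟩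
  rw [conj_eq] at hg
  exact ⟨g, hg.le.trans (smul_mono_right _ (map_subtype_le L₀))⟩

/-- **Glauberman's lemma** -/
theorem glau {P K Q St : Subgroup G} (hQK : Q ≤ K) (hQP : Q ≤ P) (hQS : Q ≤ St) (hPQ : P ≤ normalizer (Q : Set G))
    (hKQ : K ≤ normalizer (Q : Set G)) (hPK : P ≤ normalizer (K : Set G))
    (hP : PiN π (Nat.card P)) (hK : PiN' π (Q.relIndex K)) (h2 : ∀ l ∈ P ⊔ K, ∃ k ∈ K, k⁻¹ * l ∈ St) :
    ∃ g ∈ P ⊔ K, P ≤ MulAut.conj g • St := by
  set L := P ⊔ K with hL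
  have hPL : P ≤ L := le_sup_left
  have hKL : K ≤ L := le_sup_right
  have n1 : (Q.subgroupOf L).Normal :=
    (normal_subgroupOf_iff_le_normalizer (hQP.trans hPL)).mpr (sup_le hPQ hKQ)
  have n2 : (K.subgroupOf L).Normal :=
    (normal_subgroupOf_iff_le_normalizer hKL).mpr (sup_le hPK le_normalizer)
  obtain ⟨g, hg⟩ := glau_aux (π := π) (P := P.subgroupOf L) (K := K.subgroupOf L) (Q := Q.subgroupOf L)
    (St := St.subgroupOf L) (fun x hx => hQK hx) (fun x hx => hQP hx) (fun x hx => hQS hx)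
    (by rw [card_subgroupOf _ _ hPL]; exact hP)
    (by
      rw [relIndex_subgroupOf hKL]
      exact hK)
    (by rw [← subgroupOf_sup hPL hKL]; exact subgroupOf_self _)
    (by
      rw [eq_top_iff]
      intro l _
      obtain ⟨k, hk, hk'⟩ := h2 l l.2
      have h3 : l = ⟨k, hKL hk⟩ * (⟨k, hKL hk⟩⁻¹ * l) := by group
      rw [h3, sup_comm]
      exact (mul_mem_sup (show (⟨k, hKL hk⟩ : L) ∈ K.subgroupOf L from hk)
        (show ((⟨k, hKL hk⟩⁻¹ * l : L) :) ∈ St.subgroupOf L from hk') :))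
  refine ⟨g, g.2, fun x hx => ?_⟩
  have h3 := hg (show (⟨x, hPL hx⟩ : L) ∈ P.subgroupOf L from hx)
  rw [mem_smul_pointwise_iff_exists] at h3 ⊢
  obtain ⟨s, hs, h4⟩ := h3
  exact ⟨s, hs, congrArg Subtype.val h4⟩

/-! ### own characteristic -/

/-- The facts on a group of Lie type in characteristic `p`. -/
structure OwnData (p : ℕ) (N : Subgroup G) : Prop where
  odd : ∀ V H : Subgroup G, IsPGroup p V → V ≤ H → H ≤ N → ¬ p ∣ V.relIndex N → Odd (Nat.card H) →
    H ≤ normalizer (V : Set G)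
  ab : ∀ V : Subgroup G, IsPGroup p V → V ≤ N → ¬ p ∣ V.relIndex N → ∀ a ∈ N ⊓ normalizer (V : Set G),
    ∀ b ∈ N ⊓ normalizer (V : Set G), a * b * a⁻¹ * b⁻¹ ∈ V
  rad : ∀ X : Subgroup G, IsPGroup p X → X ≤ N →
    (∀ D : Subgroup G, IsPGroup p D → D ≤ N ⊓ normalizer (X : Set G) →
      N ⊓ normalizer (X : Set G) ≤ normalizer (D : Set G) → D ≤ X) →
    ∀ V : Subgroup G, IsPGroup p V → V ≤ N → ¬ p ∣ V.relIndex N → X ≤ V →
      N ⊓ normalizer (V : Set G) ≤ normalizer (X : Set G)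

/-- `V` is a Sylow `p`-subgroup of `N` normalised by `Q`. -/
structure Del (p : ℕ) (N Q V : Subgroup G) : Prop where
  isP : IsPGroup p V
  le : V ≤ N
  idx : ¬ p ∣ V.relIndex N
  norm : Q ≤ normalizer (V : Set G)

variable {p : ℕ} [hp : Fact p.Prime] {N : Subgroup G}

theorem piN_of_isPGroup (hpπ : p ∈ π) {V : Subgroup G} (hV : IsPGroup p V) : PiN π (Nat.card V) := by
  obtain ⟨k, hk⟩ := IsPGroup.iff_card.mp hV
  intro r hr hrd
  rw [hk] at hrd
  rwa [(Nat.prime_dvd_prime_iff_eq hr hp.out).mp (hr.dvd_of_dvd_pow hrd)]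

/-- `p`-subgroups normalising a Sylow subgroup lie in it. -/
theorem le_of_sylow {V K : Subgroup G} (hV : IsPGroup p V) (hVN : V ≤ N) (hi : ¬ p ∣ V.relIndex N)
    (hK : IsPGroup p K) (hKN : K ≤ N) (hKV : K ≤ normalizer (V : Set G)) : K ≤ V := by
  have h1 : IsPGroup p (V ⊔ K : Subgroup G) := IsPGroup.to_sup_of_normal_left' hV hK hKV
  have h2 : V.relIndex (V ⊔ K) = 1 := by
    obtain ⟨k, hk⟩ := IsPGroup.iff_card.mp h1
    have h3 : V.relIndex (V ⊔ K) ∣ p ^ k := by
      rw [← hk, ← card_mul_index (V.subgroupOf (V ⊔ K))]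
      exact dvd_mul_left _ _
    obtain ⟨j, -, hj⟩ := (Nat.dvd_prime_pow hp.out).mp h3
    rcases Nat.eq_zero_or_pos j with h0 | h0
    · rw [hj, h0, pow_zero]
    · exfalso
      apply hi
      rw [← relIndex_mul_relIndex V (V ⊔ K) N le_sup_left (sup_le hVN hKN), hj]
      exact dvd_mul_of_dvd_left (dvd_pow_self p h0.ne') _
  exact le_sup_right.trans (relIndex_eq_one.mp h2)

theorem Del.smul [N.Normal] {Q V : Subgroup G} (h : Del p N Q V) {g : G} (hg : g ∈ normalizer (Q : Set G)) :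
    Del p N Q (MulAut.conj g • V) := by
  refine ⟨isPGroup_smul g h.isP, ?_, ?_, ?_⟩
  · rw [← smul_of_normal g N]
    exact smul_mono_right _ h.le
  · rw [← smul_of_normal g N, relIndex_smul]
    exact h.idx
  · rw [← smul_normalizer, ← mem_norm_iff.mp hg]
    exact smul_mono_right _ h.norm

theorem Del.inf_le {Q V V' : Subgroup G} (hQN : Q ≤ N) (h : Del p N Q V) (h' : Del p N Q V') : Q ⊓ V ≤ Q ⊓ V' :=
  le_inf inf_le_left (le_of_sylow h'.isP h'.le h'.idx (h.isP.to_le inf_le_right) (inf_le_left.trans hQN)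
    (inf_le_left.trans h'.norm))

theorem Del.inf_eq {Q V V' : Subgroup G} (hQN : Q ≤ N) (h : Del p N Q V) (h' : Del p N Q V') : Q ⊓ V = Q ⊓ V' :=
  le_antisymm (h.inf_le hQN h') (h'.inf_le hQN h)

/-- `|V Q| |V ∩ Q| = |V| |Q|` -/
theorem card_sup_mul {V Q : Subgroup G} (h : Q ≤ normalizer (V : Set G)) :
    Nat.card (V ⊔ Q : Subgroup G) = Nat.card V * (V.relIndex Q) := by
  set M := V ⊔ Q with hM
  have hVM : V ≤ M := le_sup_left
  have hQM : Q ≤ M := le_sup_right
  have n1 : (V.subgroupOf M).Normal := (normal_subgroupOf_iff_le_normalizer hVM).mpr (sup_le le_normalizer h)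
  have h1 : Q.subgroupOf M ⊔ V.subgroupOf M = ⊤ := by
    rw [← subgroupOf_sup hQM hVM, sup_comm]
    exact subgroupOf_self _
  have h2 := relIndex_sup_right (Q.subgroupOf M) (V.subgroupOf M)
  rw [h1, relIndex_top_right, relIndex_subgroupOf hQM] at h2
  rw [← h2, ← card_subgroupOf V M hVM, card_mul_index]

theorem relIndex_sup_eq {V Q : Subgroup G} (h : Q ≤ normalizer (V : Set G)) :
    V.relIndex (V ⊔ Q) = V.relIndex Q := by
  have h1 := card_sup_mul h
  have h2 := card_mul_index (V.subgroupOf (V ⊔ Q))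
  rw [card_subgroupOf _ _ (le_sup_left : V ≤ V ⊔ Q), h1] at h2
  exact Nat.eq_of_mul_eq_mul_left Nat.card_pos h2

/-- The situation after the reduction: `Q` lies in the Hall `π`-subgroup `H` of `N`, `V ≤ H`. -/
structure Sit (π : Set ℕ) (p : ℕ) (N Q X Q₀ : Subgroup G) : Prop where
  QN : Q ≤ N
  Qπ : PiN π (Nat.card Q)
  XQ : X ≤ Q
  Q₀Q : Q₀ ≤ Q
  sup : X ⊔ Q₀ = Q
  Q₀p : PiN {r | r ≠ p} (Nat.card Q₀)
  inf : ∀ V, Del p N Q V → Q ⊓ V = X
  rel : ∀ V, Del p N Q V → V.relIndex Q = Nat.card Q₀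
  nor : ∀ V, Del p N Q V → N ⊓ normalizer (V : Set G) ≤ normalizer (X : Set G)
  quo : PiN' π (Q.relIndex (normalizer (Q : Set G) ⊓ N))

theorem mem_normalizer_sup {X Q₀ : Subgroup G} {g : G} (h1 : g ∈ normalizer (X : Set G))
    (h2 : g ∈ normalizer (Q₀ : Set G)) : g ∈ normalizer ((X ⊔ Q₀ : Subgroup G) : Set G) := by
  rw [mem_norm_iff] at *
  rw [smul_sup', h1, h2]

/-- `V Q` is a `C_{p'}`-group -/
theorem cpi_sup {Q V : Subgroup G} (h : Del p N Q V) (hQN : Q ≤ N) :
    IsCPiGroup {r | r ≠ p} ↥(V ⊔ Q : Subgroup G) := by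
  have hVM : V ≤ V ⊔ Q := le_sup_left
  have n1 : (V.subgroupOf (V ⊔ Q)).Normal :=
    (normal_subgroupOf_iff_le_normalizer hVM).mpr (sup_le le_normalizer h.norm)
  refine cpi_of_compl (V.subgroupOf (V ⊔ Q)) ?_ ?_
  · rw [card_subgroupOf _ _ hVM]
    intro r hr hrp hrd
    obtain ⟨k, hk⟩ := IsPGroup.iff_card.mp h.isP
    rw [hk] at hrd
    exact hrp ((Nat.prime_dvd_prime_iff_eq hr hp.out).mp (hr.dvd_of_dvd_pow hrd))
  · intro r hr hrd
    show r ≠ p
    rintro rfl
    apply h.idx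
    refine dvd_trans hrd ?_
    rw [← relIndex_mul_relIndex V (V ⊔ Q) N hVM (sup_le h.le hQN)]
    exact dvd_mul_right _ _

theorem Sit.relIndex_Q₀ {Q X Q₀ : Subgroup G} (S : Sit π p N Q X Q₀) {V : Subgroup G} (h : Del p N Q V)
    {R : Subgroup G} (hR : R ≤ V ⊔ Q) (hc : Nat.card R = Nat.card Q₀) : R.relIndex (V ⊔ Q) = Nat.card V := by
  have h1 := card_sup_mul h.norm
  rw [S.rel V h] at h1
  have h2 := card_mul_index (R.subgroupOf (V ⊔ Q))
  rw [card_subgroupOf _ _ hR, h1, hc, mul_comm (Nat.card V)] at h2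
  exact Nat.eq_of_mul_eq_mul_left Nat.card_pos h2

/-- two conjugates of `Q₀` in `V Q` are conjugate in `V Q` -/
theorem Sit.conj {Q X Q₀ : Subgroup G} (S : Sit π p N Q X Q₀) {V : Subgroup G} (h : Del p N Q V) {x : G}
    (hx : MulAut.conj x • Q₀ ≤ V ⊔ Q) : ∃ g ∈ V ⊔ Q, g⁻¹ * x ∈ normalizer (Q₀ : Set G) := by
  have hpV : PiN' {r | r ≠ p} (Nat.card V) := by
    intro r hr hrp hrd
    obtain ⟨k, hk⟩ := IsPGroup.iff_card.mp h.isP
    rw [hk] at hrd
    exact hrp ((Nat.prime_dvd_prime_iff_eq hr hp.out).mp (hr.dvd_of_dvd_pow hrd))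
  have h1 : Q₀ ≤ V ⊔ Q := S.Q₀Q.trans le_sup_right
  obtain ⟨g, hg, hg'⟩ := conj_of_cpi (cpi_sup h S.QN) h1 hx S.Q₀p (by rw [S.relIndex_Q₀ h h1 rfl]; exact hpV)
    (by rw [card_smul]; exact S.Q₀p) (by rw [S.relIndex_Q₀ h hx (card_smul _ _)]; exact hpV)
  refine ⟨g, hg, ?_⟩
  rw [mem_norm_iff, map_mul, mul_smul, ← hg', ← mul_smul, ← map_mul, inv_mul_cancel, map_one, one_smul]

/-- `V Q` is a Hall `π`-subgroup of `N`. -/
theorem Sit.hall {Q X Q₀ : Subgroup G} (S : Sit π p N Q X Q₀) (O : OwnData p N) (hpπ : p ∈ π) (h2 : 2 ∉ π)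
    (hD : ∀ K ≤ N, PiN π (Nat.card K) → ∃ H ≤ N, K ≤ H ∧ PiN π (Nat.card H) ∧ PiN' π (H.relIndex N))
    {V : Subgroup G} (h : Del p N Q V) : PiN' π ((V ⊔ Q).relIndex N) := by
  have hVQ : PiN π (Nat.card (V ⊔ Q : Subgroup G)) := by
    rw [sup_comm]
    exact piN_sup h.norm S.Qπ (piN_of_isPGroup hpπ h.isP)
  obtain ⟨H, hHN, hle, hHπ, hHi⟩ := hD (V ⊔ Q) (sup_le h.le S.QN) hVQ
  have hodd : Odd (Nat.card H) := by
    rw [← Nat.not_even_iff_odd, even_iff_two_dvd]
    exact fun hh => h2 (hHπ 2 Nat.prime_two hh)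
  have hHV : H ≤ normalizer (V : Set G) := O.odd V H h.isP (le_sup_left.trans hle) hHN h.idx hodd
  have hVN : V ⊔ Q ≤ N := sup_le h.le S.QN
  have key : H ≤ V ⊔ Q := by
    intro x hx
    have h3 : MulAut.conj x • Q₀ ≤ V ⊔ Q := by
      rintro _ ⟨q, hq, rfl⟩
      have hq' : q ∈ N ⊓ normalizer (V : Set G) := ⟨S.QN (S.Q₀Q hq), h.norm (S.Q₀Q hq)⟩
      have h4 := O.ab V h.isP h.le h.idx x ⟨hHN hx, hHV hx⟩ q hq'
      have h5 : (MulAut.conj x) q = (x * q * x⁻¹ * q⁻¹) * q := by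
        rw [MulAut.conj_apply]; group
      show (MulAut.conj x) q ∈ V ⊔ Q
      rw [h5]
      exact mul_mem_sup h4 (S.Q₀Q hq)
    obtain ⟨g, hg, hg'⟩ := S.conj h h3
    have hgH : g ∈ H := hle hg
    have h6 : g⁻¹ * x ∈ H := H.mul_mem (H.inv_mem hgH) hx
    have h7 : g⁻¹ * x ∈ normalizer (X : Set G) := S.nor V h ⟨hHN h6, hHV h6⟩
    have h8 : g⁻¹ * x ∈ normalizer (Q : Set G) := by
      rw [← S.sup]
      exact mem_normalizer_sup h7 hg'
    have h9 : H ⊓ normalizer (Q : Set G) ≤ Q := by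
      rw [← relIndex_eq_one]
      have hQH : Q ≤ H ⊓ normalizer (Q : Set G) := le_inf (le_sup_right.trans hle) le_normalizer
      refine eq_one_of_both (π := π) ?_ ?_
      · refine hHπ.of_dvd ((relIndex_dvd_card _ _).trans (card_dvd_of_le inf_le_left))
      · refine PiN'.of_dvd S.quo ?_
        rw [← relIndex_mul_relIndex Q (H ⊓ normalizer (Q : Set G)) (normalizer (Q : Set G) ⊓ N) hQH
          (le_inf inf_le_right (inf_le_left.trans hHN))]
        exact dvd_mul_right _ _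
    have h10 : g⁻¹ * x ∈ V ⊔ Q := (le_sup_right : Q ≤ V ⊔ Q) (h9 ⟨h6, h8⟩)
    have h11 : x = g * (g⁻¹ * x) := by group
    rw [h11]
    exact mul_mem hg h10
  rw [← le_antisymm key hle]
  exact hHi

/-- `N_N(Q)` is transitive on the Sylow `p`-subgroups of `N` normalised by `Q`. -/
theorem Sit.trans {Q X Q₀ : Subgroup G} (S : Sit π p N Q X Q₀) (O : OwnData p N) (hpπ : p ∈ π) (h2 : 2 ∉ π)
    (hD : ∀ K ≤ N, PiN π (Nat.card K) → ∃ H ≤ N, K ≤ H ∧ PiN π (Nat.card H) ∧ PiN' π (H.relIndex N))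
    {V V' : Subgroup G} (h : Del p N Q V) (h' : Del p N Q V') :
    ∃ k ∈ normalizer (Q : Set G) ⊓ N, MulAut.conj k • V = V' := by
  set K := N ⊓ normalizer (X : Set G) with hK
  have hVK : V ≤ K := le_inf h.le ((le_inf h.le le_normalizer).trans (S.nor V h))
  have hVK' : V' ≤ K := le_inf h'.le ((le_inf h'.le le_normalizer).trans (S.nor V' h'))
  -- Sylow subgroups of `K`
  have hi : ∀ W, W ≤ K → ¬ p ∣ W.relIndex N → ¬ p ∣ (W.subgroupOf K).index := by
    intro W hWK hWi hd
    apply hWi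
    rw [← relIndex_mul_relIndex W K N hWK inf_le_left]
    exact dvd_mul_of_dvd_left hd _
  have hs : ∀ W, W ≤ K → IsPGroup p W → IsPGroup p (W.subgroupOf K) := fun W hWK hW =>
    hW.of_equiv (subgroupOfEquivOfLe hWK).symm
  obtain ⟨m, hm⟩ := MulAction.exists_smul_eq K ((hs V hVK h.isP).toSylow (hi V hVK h.idx))
    ((hs V' hVK' h'.isP).toSylow (hi V' hVK' h'.idx))
  obtain ⟨m, hmK, hm⟩ : ∃ m ∈ K, MulAut.conj m • V = V' := by
    refine conj_of_subgroupOf K V V' hVK hVK' ⟨m, ?_⟩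
    exact congrArg Sylow.toSubgroup hm
  -- `A = V Q`, `A' = V (m⁻¹ Q m)`
  set A := V ⊔ Q with hA
  set A' := V ⊔ MulAut.conj m⁻¹ • Q with hA'
  have hm' : MulAut.conj m⁻¹ • V' = V := by
    rw [← hm, ← mul_smul, ← map_mul, inv_mul_cancel, map_one, one_smul]
  have hAN : A ≤ N := sup_le h.le S.QN
  have hmN : MulAut.conj m⁻¹ • N = N := by
    have : m⁻¹ ∈ normalizer (N : Set G) := le_normalizer (N.inv_mem hmK.1)
    exact mem_norm_iff.mp this
  have e1 : A' = MulAut.conj m⁻¹ • (V' ⊔ Q) := by rw [smul_sup', hm']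
  have hA'N : A' ≤ N := by
    rw [e1, ← hmN]
    exact smul_mono_right _ (sup_le h'.le S.QN)
  have hA'π : PiN π (Nat.card A') := by
    rw [e1, card_smul, sup_comm]
    exact piN_sup h'.norm S.Qπ (piN_of_isPGroup hpπ h'.isP)
  have hAi := S.hall O hpπ h2 hD h
  have hA'V : A' ≤ normalizer (V : Set G) := by
    rw [e1, ← hm', ← smul_normalizer]
    exact smul_mono_right _ (sup_le le_normalizer h'.norm)
  have hAV : A ≤ normalizer (V : Set G) := sup_le le_normalizer h.norm
  have hA'A : A' ≤ normalizer (A : Set G) := by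
    rw [le_normalizer_iff]
    intro x hx y hy
    have h4 := O.ab V h.isP h.le h.idx x ⟨hA'N hx, hA'V hx⟩ y ⟨hAN hy, hAV hy⟩
    have h5 : x * y * x⁻¹ = (x * y * x⁻¹ * y⁻¹) * y := by group
    rw [h5]
    exact A.mul_mem ((le_sup_left : V ≤ A) h4) hy
  have hle : A' ≤ A := by
    have h3 : PiN π (Nat.card (A' ⊔ A : Subgroup G)) := by
      refine piN_sup hA'A hA'π ?_
      rw [hA, sup_comm]
      exact piN_sup h.norm S.Qπ (piN_of_isPGroup hpπ h.isP)
    have h4 : A.relIndex (A' ⊔ A) = 1 := by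
      refine eq_one_of_both (π := π) (h3.of_dvd (relIndex_dvd_card _ _)) (PiN'.of_dvd hAi ?_)
      rw [← relIndex_mul_relIndex A (A' ⊔ A) N le_sup_right (sup_le hA'N hAN)]
      exact dvd_mul_right _ _
    exact le_sup_left.trans (relIndex_eq_one.mp h4)
  obtain ⟨v, hv, hv'⟩ := S.conj h (x := m⁻¹) ((smul_mono_right _ S.Q₀Q).trans (le_sup_right.trans hle))
  -- `v⁻¹ m⁻¹ ∈ N(Q₀)`
  refine ⟨m * v, ?_, ?_⟩
  · have h3 : m * v = (v⁻¹ * m⁻¹)⁻¹ := by group
    have h4 : m * v ∈ normalizer (Q₀ : Set G) := by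
      rw [h3]
      exact inv_mem hv'
    have hvK : v ∈ K := ⟨hAN hv, S.nor V h ⟨hAN hv, hAV hv⟩⟩
    have h5 : m * v ∈ K := mul_mem hmK hvK
    refine ⟨?_, h5.1⟩
    rw [← S.sup]
    exact mem_normalizer_sup h5.2 h4
  · rw [map_mul, mul_smul, mem_norm_iff.mp (hAV hv), hm]

/-- a maximal `π`-subgroup `P`, `Q = P ∩ N` -/
theorem exists_sit [N.Normal] (O : OwnData p N) (hpπ : p ∈ π) (h2 : 2 ∉ π) {P : Subgroup G}
    (hP : Maximal (IsPiSubgroup π) P) {V₀ : Subgroup G} (h₀ : Del p N (P ⊓ N) V₀) :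
    ∃ X Q₀, Sit π p N (P ⊓ N) X Q₀ := by
  have hPπ : PiN π (Nat.card P) := hP.1
  set Q := P ⊓ N with hQ
  have hQN : Q ≤ N := inf_le_right
  have hQP : Q ≤ P := inf_le_left
  have hQπ : PiN π (Nat.card Q) := hPπ.of_dvd (card_dvd_of_le hQP)
  have hPQ : P ≤ normalizer (Q : Set G) := by
    intro x hx
    rw [mem_norm_iff, hQ, smul_inf', smul_of_normal x N, mem_norm_iff.mp (le_normalizer hx)]
  set X := Q ⊓ V₀ with hX
  have hXp : IsPGroup p X := h₀.isP.to_le inf_le_right
  have hinf : ∀ V, Del p N Q V → Q ⊓ V = X := fun V h => h.inf_eq hQN h₀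
  have hPX : P ≤ normalizer (X : Set G) := by
    intro x hx
    rw [mem_norm_iff, hX, smul_inf', mem_norm_iff.mp (hPQ hx)]
    exact hinf _ (h₀.smul (hPQ hx))
  have hrad : ∀ D : Subgroup G, IsPGroup p D → D ≤ N ⊓ normalizer (X : Set G) →
      N ⊓ normalizer (X : Set G) ≤ normalizer (D : Set G) → D ≤ X := by
    intro D hD hDK hKD
    set K := N ⊓ normalizer (X : Set G) with hK
    set E := (pCore p K).map K.subtype with hE
    have hDE : D ≤ E := Lib.LocalCore.le_map_pCore hDK hD hKD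
    have hEp : IsPGroup p E := Lib.LocalCore.isPGroup_map_pCore p K
    have hEK : E ≤ K := map_subtype_le _
    have hPK : P ≤ normalizer (K : Set G) := by
      intro x hx
      rw [mem_norm_iff, hK, smul_inf', smul_of_normal, smul_normalizer, mem_norm_iff.mp (hPX hx)]
    have hKE : K ≤ normalizer (E : Set G) := Lib.LocalCore.le_normalizer_map_pCore p K
    have hle : ∀ x ∈ P, MulAut.conj x • E ≤ E := by
      intro x hx
      refine Lib.LocalCore.le_map_pCore ?_ (isPGroup_smul x hEp) ?_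
      · rw [← mem_norm_iff.mp (hPK hx)]
        exact smul_mono_right _ hEK
      · rw [← smul_normalizer]
        conv_lhs => rw [← mem_norm_iff.mp (hPK hx)]
        exact smul_mono_right _ hKE
    have hPE : P ≤ normalizer (E : Set G) := by
      intro x hx
      rw [mem_norm_iff]
      exact eq_of_le_of_card_ge (hle x hx) (by rw [card_smul])
    have hEP : E ≤ P := le_of_maximal hP hPE (piN_of_isPGroup hpπ hEp)
    have hEQ : E ≤ Q := le_inf hEP (hEK.trans inf_le_left)
    exact hDE.trans (le_inf hEQ (le_of_sylow h₀.isP h₀.le h₀.idx hEp (hEQ.trans hQN) (hEQ.trans h₀.norm)))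
  -- the complement
  have hXQ : X ≤ Q := inf_le_left
  have n1 : (X.subgroupOf Q).Normal :=
    (normal_subgroupOf_iff_le_normalizer hXQ).mpr (hQP.trans hPX)
  have hp' : PiN' {r | r ≠ p} (Nat.card X) := by
    intro r hr hrp hrd
    obtain ⟨k, hk⟩ := IsPGroup.iff_card.mp hXp
    rw [hk] at hrd
    exact hrp ((Nat.prime_dvd_prime_iff_eq hr hp.out).mp (hr.dvd_of_dvd_pow hrd))
  have hXi : X.relIndex Q = V₀.relIndex Q := by
    rw [hX, inf_comm, inf_relIndex_right]
  have hXi' : PiN {r | r ≠ p} (X.relIndex Q) := by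
    intro r hr hrd
    show r ≠ p
    rintro rfl
    apply h₀.idx
    rw [hXi, ← relIndex_sup_eq h₀.norm] at hrd
    refine dvd_trans hrd ?_
    rw [← relIndex_mul_relIndex V₀ (V₀ ⊔ Q) N le_sup_left (sup_le h₀.le hQN)]
    exact dvd_mul_right _ _
  obtain ⟨L₀, hL₀⟩ := (cpi_of_compl (π := {r | r ≠ p}) (X.subgroupOf Q)
    (by rw [card_subgroupOf _ _ hXQ]; exact hp') hXi').1
  have hL₀c : Nat.card L₀ = X.relIndex Q := by
    refine mul_unique hL₀.1 hL₀.2 hXi' hp' ?_
    rw [card_mul_index, mul_comm, ← card_subgroupOf X Q hXQ]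
    exact (card_mul_index (X.subgroupOf Q)).symm
  set Q₀ := L₀.map Q.subtype with hQ₀
  have hQ₀c : Nat.card Q₀ = X.relIndex Q := by
    rw [hQ₀, card_map_of_injective Q.subtype_injective, hL₀c]
  have hQ₀Q : Q₀ ≤ Q := map_subtype_le _
  refine ⟨X, Q₀, ⟨hQN, hQπ, hXQ, hQ₀Q, ?_, ?_, hinf, ?_, ?_, ?_⟩⟩
  · have h3 : (X ⊔ Q₀).relIndex Q = 1 := by
      refine eq_one_of_both (π := {r | r ≠ p}) ?_ ?_
      · refine hXi'.of_dvd ?_
        rw [← relIndex_mul_relIndex X (X ⊔ Q₀) Q le_sup_left (sup_le hXQ hQ₀Q)]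
        exact dvd_mul_left _ _
      · have h4 : PiN' {r | r ≠ p} (Q₀.relIndex Q) := by
          have h5 : Q₀.subgroupOf Q = L₀ := by
            rw [hQ₀]
            exact comap_map_eq_self_of_injective Q.subtype_injective L₀
          show PiN' _ (Q₀.subgroupOf Q).index
          rw [h5]
          exact hL₀.2
        refine PiN'.of_dvd h4 ?_
        rw [← relIndex_mul_relIndex Q₀ (X ⊔ Q₀) Q le_sup_right (sup_le hXQ hQ₀Q)]
        exact dvd_mul_left _ _
    exact le_antisymm (sup_le hXQ hQ₀Q) (relIndex_eq_one.mp h3)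
  · rw [hQ₀c]; exact hXi'
  · intro V h
    rw [hQ₀c, ← hinf V h, inf_comm, inf_relIndex_right]
  · intro V h
    exact O.rad X hXp (hXQ.trans hQN) hrad V h.isP h.le h.idx (by rw [← hinf V h]; exact inf_le_right)
  · have hodd : Odd (Nat.card P) := by
      rw [← Nat.not_even_iff_odd, even_iff_two_dvd]
      exact fun hh => h2 (hPπ 2 Nat.prime_two hh)
    have hsol : Group.IsSolvable P := Cfsg.Agent.S0205.result hodd
    have hsol' : Group.IsSolvable (P.map (QuotientGroup.mk' N)) :=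
      Group.isSolvable_of_surjective ((QuotientGroup.mk' N).subgroupMap_surjective P)
    exact piN'_normalizer_quot N hP hsol'

/-- **A maximal `π`-subgroup of `G` normalises a Hall `π`-subgroup of `N`.** -/
theorem main [N.Normal] (O : OwnData p N) (hpπ : p ∈ π) (h2 : 2 ∉ π)
    (hD : ∀ K ≤ N, PiN π (Nat.card K) → ∃ H ≤ N, K ≤ H ∧ PiN π (Nat.card H) ∧ PiN' π (H.relIndex N))
    {P : Subgroup G} (hP : Maximal (IsPiSubgroup π) P) :
    ∃ H ≤ N, PiN π (Nat.card H) ∧ PiN' π (H.relIndex N) ∧ P ≤ normalizer (H : Set G) := by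
  have hPπ : PiN π (Nat.card P) := hP.1
  have hQπ : PiN π (Nat.card (P ⊓ N : Subgroup G)) := hPπ.of_dvd (card_dvd_of_le inf_le_left)
  -- a Sylow `p`-subgroup normalised by `Q`
  obtain ⟨V₀, h₀⟩ : ∃ V₀, Del p N (P ⊓ N) V₀ := by
    obtain ⟨H, hHN, hle, hHπ, hHi⟩ := hD _ inf_le_right hQπ
    have hodd : Odd (Nat.card H) := by
      rw [← Nat.not_even_iff_odd, even_iff_two_dvd]
      exact fun hh => h2 (hHπ 2 Nat.prime_two hh)
    obtain ⟨S⟩ : Nonempty (Sylow p H) := inferInstance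
    have h3 : (S : Subgroup H).map H.subtype ≤ H := map_subtype_le _
    have h4 : IsPGroup p ((S : Subgroup H).map H.subtype) := S.isPGroup'.map _
    have h5 : ((S : Subgroup H).map H.subtype).relIndex H = (S : Subgroup H).index := by
      show (((S : Subgroup H).map H.subtype).subgroupOf H).index = _
      congr 1
      exact comap_map_eq_self_of_injective H.subtype_injective (S : Subgroup H)
    have h6 : ¬ p ∣ ((S : Subgroup H).map H.subtype).relIndex N := by
      rw [← relIndex_mul_relIndex _ H N h3 hHN, h5]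
      intro hd
      rcases hp.out.dvd_mul.mp hd with hd | hd
      · exact S.not_dvd_index hd
      · exact hHi p hp.out hpπ hd
    exact ⟨_, h4, h3.trans hHN, h6, hle.trans (O.odd _ H h4 h3 hHN h6 hodd)⟩
  obtain ⟨X, Q₀, S⟩ := exists_sit O hpπ h2 hP h₀
  set Q := P ⊓ N with hQ
  have hQN : Q ≤ N := inf_le_right
  have hQP : Q ≤ P := inf_le_left
  have hPQ : P ≤ normalizer (Q : Set G) := by
    intro x hx
    rw [mem_norm_iff, hQ, smul_inf', smul_of_normal x N, mem_norm_iff.mp (le_normalizer hx)]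
  have hPK : P ≤ normalizer ((normalizer (Q : Set G) ⊓ N : Subgroup G) : Set G) := by
    intro x hx
    rw [mem_norm_iff, smul_inf', smul_of_normal x N, smul_normalizer, mem_norm_iff.mp (hPQ hx)]
  obtain ⟨g, hg, hg'⟩ := glau (π := π) (P := P) (K := normalizer (Q : Set G) ⊓ N) (Q := Q)
    (St := normalizer (V₀ : Set G)) (le_inf le_normalizer hQN) hQP h₀.norm hPQ inf_le_left hPK hPπ S.quo (by
      intro l hl
      have hl' : l ∈ normalizer (Q : Set G) := (sup_le hPQ inf_le_left) hl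
      obtain ⟨k, hk, hk'⟩ := S.trans O hpπ h2 hD h₀ (h₀.smul hl')
      refine ⟨k, hk, ?_⟩
      rw [mem_norm_iff, map_mul, mul_smul, ← hk', ← mul_smul, ← map_mul, inv_mul_cancel, map_one, one_smul])
  have hgQ : g ∈ normalizer (Q : Set G) := (sup_le hPQ inf_le_left) hg
  have h' := h₀.smul hgQ
  rw [smul_normalizer] at hg'
  set V := MulAut.conj g • V₀ with hV
  refine ⟨V ⊔ Q, sup_le h'.le hQN, ?_, S.hall O hpπ h2 hD h', ?_⟩
  · rw [sup_comm]
    exact piN_sup h'.norm S.Qπ (piN_of_isPGroup hpπ h'.isP)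
  · intro x hx
    exact mem_normalizer_sup (hg' hx) (hPQ hx)

end Cfsg.Agent.H537.RV
end

-- part: H537/RV/R1Rgd
section
/-!
# TEAM RV, row R1: weak closure of the unipotent radicals (helper537)

* `mem_PJ_of_cj_le` : `g V_J g⁻¹ ≤ U` implies `g ∈ P_J`;
* `BTW p G` : Borel–Tits with weakly closed radicals; `btw_of_hasFilt`, `btw_of_ti`.
-/

set_option autoImplicit false
set_option linter.unusedSectionVars false

namespace Cfsg.Agent.H537.RV

open CoxeterSystem Cfsg.Agent.ChevalleyStructure.CoxeterGeom Cfsg.Agent.Tits.Roots Cfsg.Agent.Tits.Core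
  Cfsg.Agent.Tits.RootComb Cfsg.Agent.Tits.Exchange Cfsg.Agent.Nodes.Reps Cfsg.Agent.Nodes.BNOf
  Cfsg.Agent.Nodes.StabComb Cfsg.Agent.Nodes.Bruhat Cfsg.Agent.Nodes.OppDec Cfsg.Agent.Nodes.LeviDec
  Cfsg.Agent.KFacts.RgdVJ
open Cfsg.Agent.Nodes.NormX (normalizer_cj)

variable {I W Y : Type*} [Fintype I] [DecidableEq I] [Group W] [Group Y] {M : CoxeterMatrix I}
  {cs : CoxeterSystem M W} {A : I → I → ℤ} {h : IsCartan M A} {p : ℕ} {T : Subgroup Y} {n : I → Y}
  {X : (I → ℤ) → Subgroup Y}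

theorem mem_WJ_of_NotJ [Finite W] {J : Set I} : ∀ {w : W}, (∀ x ∈ NotJ cs h J, 0 ≤ rep cs h w x) → w ∈ WJ cs J := by
  intro w
  induction hn : cs.length w using Nat.strong_induction_on generalizing w with
  | _ N ih =>
  intro hw
  by_cases hw1 : w = 1
  · rw [hw1]; exact one_mem _
  obtain ⟨i, hi⟩ := cs.exists_rightDescent_of_ne_one hw1
  have hi' : cs.length (w * cs.simple i) < cs.length w := hi
  have hneg : rep cs h w (sr i) ≤ 0 := nonpos_of_lt cs h w i hi'
  have hiJ : i ∈ J := by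
    by_contra hiJ
    have h1 := hw (sr i) (sr_mem_NotJ hiJ)
    have h2 : rep cs h w (sr i) = 0 := le_antisymm hneg h1
    exact ((isRoot_sr cs h i).act w).ne_zero h2
  have h3 := ih (cs.length (w * cs.simple i)) (by omega) rfl (by
    intro x hx
    rw [rep_mul_apply]
    exact hw _ (NotJ.act (simple_mem_WJ cs hiJ) hx))
  have h8 : w = w * cs.simple i * cs.simple i := by rw [mul_assoc, simple_mul_simple_self, mul_one]
  rw [h8]
  exact mul_mem h3 (simple_mem_WJ cs hiJ)

/-- **Weak closure of the unipotent radicals.** -/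
theorem mem_PJ_of_cj_le (R : RGD cs h p T n X) [Finite W] {J : Set I} {g : Y} (hg : g ∈ GG cs h T X)
    (hle : cj g (VJ cs h X J) ≤ RGD.Sup X (RGD.Pos cs h)) : g ∈ PJ cs h T X J := by
  obtain ⟨w, hw⟩ := (mem_GG R).1 hg
  obtain ⟨b₁, hb₁, k, hk, b₂, hb₂, rfl⟩ := hw
  rw [cell_mem_PJ_iff R ⟨b₁, hb₁, k, hk, b₂, hb₂, rfl⟩]
  refine mem_WJ_of_NotJ (h := h) fun x hx => ?_
  by_contra hneg
  have hroot : IsRoot cs h (rep cs h w x) := hx.1.act w
  have hneg' : rep cs h w x ≤ 0 := (hroot.pos_or_neg).resolve_left hneg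
  apply X_ne_bot R hx.1
  rw [Subgroup.eq_bot_iff_forall]
  intro v hv
  have hvV : v ∈ VJ cs h X J := RGD.le_Sup hx hv
  have h1 : b₂⁻¹ * v * b₂ ∈ VJ cs h X J := by
    have h2 : b₂⁻¹ ∈ Subgroup.normalizer (VJ cs h X J : Set Y) :=
      PJ_le_normalizer_VJ R J (B_le_PJ (inv_mem hb₂))
    have := (Subgroup.mem_normalizer_iff.1 h2 v).1 hvV
    rwa [inv_inv] at this
  have h2 : (b₁ * k * b₂) * (b₂⁻¹ * v * b₂) * (b₁ * k * b₂)⁻¹ ∈ RGD.Sup X (RGD.Pos cs h) :=
    hle (conj_mem_cj.2 h1)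
  have h3 : k * v * k⁻¹ ∈ RGD.Sup X (RGD.Pos cs h) := by
    have h4 := (Subgroup.mem_normalizer_iff.1 (R.B_le_normalizer_U (inv_mem hb₁)) _).1 h2
    have h5 : b₁⁻¹ * ((b₁ * k * b₂) * (b₂⁻¹ * v * b₂) * (b₁ * k * b₂)⁻¹) * b₁⁻¹⁻¹ = k * v * k⁻¹ := by group
    rwa [h5] at h4
  have h4 : k * v * k⁻¹ ∈ UN cs h X := RGD.le_Sup (S := _root_.Cfsg.Agent.Nodes.OppDec.Neg cs h) (show rep cs h w x ∈ _root_.Cfsg.Agent.Nodes.OppDec.Neg cs h from ⟨hroot, hneg'⟩)
    (R.conj_mem hk hx.1 hv)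
  have h5 := eq_one_of_mem_UN_of_mem_B R h4 (RGD.U_le_B h3)
  have h6 : v = k⁻¹ * (k * v * k⁻¹) * k := by group
  rw [h6, h5]; group

/-- Borel–Tits with weakly closed radicals. -/
def BTW (p : ℕ) (G : Type*) [Group G] : Prop :=
  ∀ K : Subgroup G, IsPGroup p K → K ≠ ⊥ → ∃ V' : Subgroup G, IsPGroup p V' ∧ K ≤ V' ∧
    Subgroup.normalizer (K : Set G) ≤ Subgroup.normalizer (V' : Set G) ∧
    ∀ V : Sylow p G, V' ≤ V → Subgroup.normalizer ((V : Subgroup G) : Set G) ≤ Subgroup.normalizer (V' : Set G)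

theorem btw_of_rgd (R : RGD cs h p T n X) [Finite W] [Finite Y] [Fact p.Prime]
    (hBT : KFacts.RgdCharP.BT cs h p T X) (hGG : GG cs h T X = ⊤) : BTW p Y := by
  intro K hK hK1
  obtain ⟨g, J, hJ, h1, h2⟩ := hBT K hK hK1
  have hP : PJ cs h T X J = Subgroup.normalizer (VJ cs h X J : Set Y) := by
    apply le_antisymm (PJ_le_normalizer_VJ R J)
    have h3 := normalizer_VJ R J
    rw [hGG, inf_top_eq] at h3
    exact h3.le
  have hU : RGD.B cs h T X = Subgroup.normalizer (RGD.Sup X (RGD.Pos cs h) : Set Y) := by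
    have h3 := KFacts.RgdEx.normalizer_U R
    rw [hGG, inf_top_eq] at h3
    exact h3.symm
  have hN : Subgroup.normalizer (cj g (VJ cs h X J) : Set Y) = cj g (PJ cs h T X J) := by
    rw [hP, ← normalizer_cj]
  refine ⟨cj g (VJ cs h X J), (KFacts.RgdCharP.isPGroup_VJ R J).map _, h1, by rw [hN]; exact h2, ?_⟩
  intro V hV
  have hi := KFacts.RgdSyl.not_dvd_relIndex R
  rw [hGG, Subgroup.relIndex_top_right] at hi
  obtain ⟨a, ha⟩ := MulAction.exists_smul_eq Y (R.isPGroup_Upos.toSylow hi) V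
  have ha' : (V : Subgroup Y) = cj a (RGD.Sup X (RGD.Pos cs h)) := by
    rw [← ha]
    rfl
  have h3 : cj (a⁻¹ * g) (VJ cs h X J) ≤ RGD.Sup X (RGD.Pos cs h) := by
    rw [ha'] at hV
    intro y hy
    have h4 : a * y * a⁻¹ ∈ cj g (VJ cs h X J) := by
      rw [mem_cj] at hy ⊢
      have : g⁻¹ * (a * y * a⁻¹) * g = (a⁻¹ * g)⁻¹ * y * (a⁻¹ * g) := by group
      rwa [this]
    have h5 := mem_cj.1 (hV h4)
    have h6 : a⁻¹ * (a * y * a⁻¹) * a = y := by group
    rwa [h6] at h5
  have h4 : a⁻¹ * g ∈ PJ cs h T X J := mem_PJ_of_cj_le R (by rw [hGG]; trivial) h3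
  rw [hN, ha', normalizer_cj, ← hU]
  intro y hy
  rw [mem_cj] at hy ⊢
  have h5 : g⁻¹ * y * g = (a⁻¹ * g)⁻¹ * (a⁻¹ * y * a) * (a⁻¹ * g) := by group
  rw [h5]
  exact mul_mem (mul_mem (inv_mem h4) (B_le_PJ hy)) h4

theorem btw_of_hasFilt {G : Type*} [Group G] [Finite G] [IsSimpleGroup G] {p : ℕ} [Fact p.Prime]
    (hG : KFacts.RgdFilt.HasFilt p G) (hc : ∃ a b : G, a * b ≠ b * a) : BTW p G := by
  obtain ⟨l, M, A, h, T, n, X, R, hW, hBT, hGG, hN, hconn, hX, hl⟩ := hG.data hc
  exact btw_of_rgd R hBT hGG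

end Cfsg.Agent.H537.RV
end

-- part: H537/RV/R1Lie
section
/-!
# TEAM RV, row R1: groups of Lie type in characteristic `p`, `p ∈ π`, `2 ∉ π` (helper537)

* `AbQ p G` : `N(S)/S` is abelian for the Sylow `p`-subgroups `S`; `abQ_of_lie`;
* `btw_of_lie` : `BTW p G`;
* `ownData_of_injective` : the data for the image of `S` in a group;
* `rowE_own` : `RowE π S`.
-/

set_option autoImplicit false
set_option linter.unusedSectionVars false

namespace Cfsg.Agent.H537.RV

open Subgroup Cfsg Cfsg.Agent.H988.CPi Cfsg.Agent.H571.DExt Cfsg.Agent.H571.RV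
open scoped Pointwise

/-- `N(S)/S` is abelian -/
def AbQ (p : ℕ) (G : Type*) [Group G] : Prop :=
  ∀ S : Sylow p G, ∀ a ∈ normalizer ((S : Subgroup G) : Set G), ∀ b ∈ normalizer ((S : Subgroup G) : Set G),
    a * b * a⁻¹ * b⁻¹ ∈ (S : Subgroup G)

theorem AbQ.of_one {p : ℕ} [Fact p.Prime] {G : Type*} [Group G] [Finite G] (Q : Sylow p G)
    (h : ∀ a ∈ normalizer ((Q : Subgroup G) : Set G), ∀ b ∈ normalizer ((Q : Subgroup G) : Set G),
      a * b * a⁻¹ * b⁻¹ ∈ (Q : Subgroup G)) : AbQ p G := by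
  intro S a ha b hb
  obtain ⟨k, hk⟩ := MulAction.exists_smul_eq G S Q
  rw [H565.OddBorel.mem_conj_iff hk]
  have h1 := h _ ((H565.OddBorel.mem_normalizer_conj_iff hk a).1 ha) _
    ((H565.OddBorel.mem_normalizer_conj_iff hk b).1 hb)
  have h2 : k * a * k⁻¹ * (k * b * k⁻¹) * (k * a * k⁻¹)⁻¹ * (k * b * k⁻¹)⁻¹ =
      k * (a * b * a⁻¹ * b⁻¹) * k⁻¹ := by group
  rwa [h2] at h1

theorem abQ_of_splitAb {K : Type*} [Group K] [Finite K] {p : ℕ} [Fact p.Prime] (h : H463.LieAb.SplitAb p K) :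
    AbQ p K := by
  obtain ⟨P, U, hne, h, hc⟩ := h
  obtain ⟨Q, hQ⟩ := h.isP.exists_le_sylow
  have hQU : (Q : Subgroup K) = U := H794.DefClosed.eq_of_isPGroup h Q.isPGroup' hQ
  apply AbQ.of_one Q
  rw [hQU, h.normalizer_eq]
  have hnor : (U.subgroupOf P.B).Normal := by
    constructor
    intro u hu b
    rw [Subgroup.mem_subgroupOf] at hu ⊢
    exact h.norm b b.2 u hu
  have key : ∀ x : P.B ⧸ U.subgroupOf P.B, ∃ t : P.B, (t : K) ∈ P.B ⊓ P.N ∧
      x = (QuotientGroup.mk t : P.B ⧸ U.subgroupOf P.B) := by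
    intro x
    obtain ⟨b, rfl⟩ := QuotientGroup.mk_surjective x
    obtain ⟨u, hu, t, ht, e⟩ := h.cover' b.2
    refine ⟨⟨t, ht.1⟩, ht, ?_⟩
    have h1 : b = ⟨u, h.le hu⟩ * ⟨t, ht.1⟩ := Subtype.ext e
    rw [h1, QuotientGroup.mk_mul, (QuotientGroup.eq_one_iff (⟨u, h.le hu⟩ : P.B)).2
      (Subgroup.mem_subgroupOf.2 hu), one_mul]
  intro a ha b hb
  have h1 : (QuotientGroup.mk (⟨a, ha⟩ : P.B) : P.B ⧸ U.subgroupOf P.B) * QuotientGroup.mk (⟨b, hb⟩ : P.B) =
      QuotientGroup.mk (⟨b, hb⟩ : P.B) * QuotientGroup.mk (⟨a, ha⟩ : P.B) := by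
    obtain ⟨s, hs, hs'⟩ := key (QuotientGroup.mk (⟨a, ha⟩ : P.B))
    obtain ⟨t, ht, ht'⟩ := key (QuotientGroup.mk (⟨b, hb⟩ : P.B))
    rw [hs', ht', ← QuotientGroup.mk_mul, ← QuotientGroup.mk_mul]
    congr 1
    exact Subtype.ext (hc s hs t ht)
  have h2 : (QuotientGroup.mk ((⟨a, ha⟩ : P.B) * ⟨b, hb⟩ * (⟨a, ha⟩ : P.B)⁻¹ * (⟨b, hb⟩ : P.B)⁻¹) :
      P.B ⧸ U.subgroupOf P.B) = 1 := by
    rw [QuotientGroup.mk_mul, QuotientGroup.mk_mul, QuotientGroup.mk_mul, h1, QuotientGroup.mk_inv,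
      QuotientGroup.mk_inv, mul_inv_cancel_right, mul_inv_cancel]
  have h3 := (QuotientGroup.eq_one_iff (N := U.subgroupOf P.B) _).1 h2
  exact h3

theorem abQ_of_lie {p : ℕ} [Fact p.Prime] (hp2 : p ≠ 2) {G : Type*} [Group G] [Finite G]
    (hG : IsLieTypeChar p G) : AbQ p G :=
  abQ_of_splitAb (H463.LieOdd.splitAb hp2 (H400.LieSimple.isSimple_of_lie hG) hG)

theorem btw_of_ti {p : ℕ} [Fact p.Prime] {G : Type*} [Group G] [Finite G] (h : H794.TI p G) : BTW p G := by
  intro K hK hK1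
  obtain ⟨S, hS⟩ := hK.exists_le_sylow
  obtain ⟨x, hx, hx1⟩ := K.bot_or_exists_ne_one.resolve_left hK1
  refine ⟨S, S.isPGroup', hS, fun g hg => h S x (hS hx) hx1 g (hS ((mem_normalizer_iff.1 hg x).1 hx)), ?_⟩
  intro V hV
  have h1 : (V : Subgroup G) = S := S.is_maximal' V.isPGroup' hV
  rw [h1]

theorem btw_of_lie {p : ℕ} [Fact p.Prime] (hp2 : p ≠ 2) {G : Type*} [Group G] [Finite G]
    (hG : IsLieTypeChar p G) : BTW p G := by
  have hs : IsSimpleGroup G := H400.LieSimple.isSimple_of_lie hG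
  have hc : ∃ a b : G, a * b ≠ b * a :=
    H400.LieLocal.exists_noncomm (H400.LieLocal.center_eq_bot (H979.LieSplit.hasSplit_of_isLieTypeChar Fact.out hG))
  rcases hG with h | h | h | h | h | h | h | h | h | h | h
  · exact btw_of_hasFilt (KFacts.RgdLieCharP.hasFilt_of_lie (Or.inl h)) hc
  · exact btw_of_hasFilt (KFacts.RgdLieCharP.hasFilt_of_lie (Or.inr (Or.inl h))) hc
  · exact btw_of_hasFilt (KFacts.RgdLieCharP.hasFilt_of_lie (Or.inr (Or.inr (Or.inl h)))) hc
  · exact btw_of_hasFilt (KFacts.RgdLieCharP.hasFilt_of_lie (Or.inr (Or.inr (Or.inr (Or.inl h))))) hc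
  · exact btw_of_hasFilt (KFacts.RgdLieCharP.hasFilt_of_lie (Or.inr (Or.inr (Or.inr (Or.inr (Or.inl h)))))) hc
  · exact btw_of_hasFilt (KFacts.RgdLieCharP.hasFilt_of_lie (Or.inr (Or.inr (Or.inr (Or.inr (Or.inr (Or.inl h))))))) hc
  · exact btw_of_hasFilt
      (KFacts.RgdLieCharP.hasFilt_of_lie (Or.inr (Or.inr (Or.inr (Or.inr (Or.inr (Or.inr (Or.inl h)))))))) hc
  · exact btw_of_hasFilt
      (KFacts.RgdLieCharP.hasFilt_of_lie (Or.inr (Or.inr (Or.inr (Or.inr (Or.inr (Or.inr (Or.inr h)))))))) hc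
  · exact absurd h.1 hp2
  · exact absurd h.1 hp2
  · obtain ⟨rfl, h⟩ := h
    exact btw_of_ti (H794.DefClosed.ti_ree h)

/-- Normalisers grow. -/
theorem le_of_normalizer_le {p : ℕ} [Fact p.Prime] {G : Type*} [Group G] [Finite G] {X V : Subgroup G}
    (hV : IsPGroup p V) (hXV : X ≤ V) (h : V ⊓ normalizer (X : Set G) ≤ X) : V ≤ X := by
  by_contra hne
  have h1 : X.subgroupOf V < ⊤ := by
    rw [lt_top_iff_ne_top]
    intro h2
    exact hne (subgroupOf_eq_top.1 h2)
  have h2 : Group.IsNilpotent V := hV.isNilpotent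
  obtain ⟨x, hx, hx'⟩ := SetLike.exists_of_lt (Group.normalizerCondition_of_isNilpotent (G := V) _ h1)
  apply hx'
  rw [← subgroupOf_normalizer_eq hXV, mem_subgroupOf] at hx
  rw [mem_subgroupOf]
  exact h ⟨x.2, hx⟩

/-- Transport of the data to the image of `S`. -/
theorem ownData_of_injective {p : ℕ} [Fact p.Prime] {S : Type*} [Group S] [Finite S] {G : Type*} [Group G]
    [Finite G] (f : S →* G) (hf : Function.Injective f) (h1 : H565.OddBorel.OddLe p S) (h2 : AbQ p S)
    (h3 : BTW p S) : OwnData p f.range := by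
  have hmap : ∀ K : Subgroup G, K ≤ f.range → (K.comap f).map f = K := fun K hK => map_comap_eq_self hK
  have hcard : ∀ K : Subgroup G, K ≤ f.range → Nat.card (K.comap f) = Nat.card K := by
    intro K hK
    conv_rhs => rw [← hmap K hK]
    exact (card_map_of_injective hf).symm
  have hidx : ∀ K : Subgroup G, (K.comap f).index = K.relIndex f.range := fun K => index_comap K f
  have hP : ∀ K : Subgroup G, IsPGroup p K → IsPGroup p (K.comap f) := fun K hK => hK.comap_of_injective f hf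
  have hnor : ∀ K : Subgroup G, K ≤ f.range →
      (normalizer (K : Set G)).comap f = normalizer ((K.comap f : Subgroup S) : Set S) :=
    fun K hK => comap_normalizer_eq_of_le_range hK
  refine ⟨?_, ?_, ?_⟩
  · intro V H hV hVH hH hi hodd x hx
    have h4 := h1 ((hP V hV).toSylow (by rw [hidx]; exact hi)) (H.comap f) (comap_mono hVH)
      (by rw [hcard H hH]; exact hodd)
    obtain ⟨s, rfl⟩ := hH hx
    have h5 : s ∈ (normalizer (V : Set G)).comap f := by
      rw [hnor V (hVH.trans hH)]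
      exact h4 hx
    exact h5
  · intro V hV hVN hi a ha b hb
    obtain ⟨s, rfl⟩ := ha.1
    obtain ⟨t, rfl⟩ := hb.1
    have h5 : s ∈ (normalizer (V : Set G)).comap f := ha.2
    have h6 : t ∈ (normalizer (V : Set G)).comap f := hb.2
    rw [hnor V hVN] at h5 h6
    have h7 := h2 ((hP V hV).toSylow (by rw [hidx]; exact hi)) s h5 t h6
    have h8 : f (s * t * s⁻¹ * t⁻¹) ∈ V := h7
    rwa [map_mul, map_mul, map_mul, map_inv, map_inv] at h8
  · intro X hX hXN hrad V hV hVN hi hXV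
    by_cases hX1 : X = ⊥
    · subst hX1
      have h4 : normalizer ((⊥ : Subgroup G) : Set G) = ⊤ := normalizer_eq_top _
      rw [h4]
      exact le_top
    have hX1' : X.comap f ≠ ⊥ := by
      intro h4
      apply hX1
      rw [← hmap X hXN, h4, Subgroup.map_bot]
    obtain ⟨V', hV'p, hXV', hN', hV'⟩ := h3 _ (hP X hX) hX1'
    -- `V' = X`
    have h5 : V' ≤ X.comap f := by
      refine le_of_normalizer_le hV'p hXV' ?_
      set D := V' ⊓ normalizer ((X.comap f : Subgroup S) : Set S) with hD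
      have h6 : D.map f ≤ X := by
        refine hrad _ ((hV'p.to_le inf_le_left).map f) ?_ ?_
        · rintro _ ⟨d, hd, rfl⟩
          refine ⟨⟨d, rfl⟩, ?_⟩
          have h7 : d ∈ (normalizer (X : Set G)).comap f := by
            rw [hnor X hXN]
            exact hd.2
          exact h7
        · rintro _ ⟨⟨s, rfl⟩, hs⟩
          have h7 : s ∈ (normalizer (X : Set G)).comap f := hs
          rw [hnor X hXN] at h7
          have h8 : s ∈ normalizer (D : Set S) := by
            rw [mem_norm_iff, hD, smul_inf', mem_norm_iff.mp (hN' h7), mem_norm_iff.mp (le_normalizer h7)]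
          rw [mem_normalizer_iff_map_conj_eq] at h8 ⊢
          have h9 : (D.map f).map (MulAut.conj (f s)).toMonoidHom = (D.map (MulAut.conj s).toMonoidHom).map f := by
            rw [map_map, map_map]
            congr 1
            ext x
            simp only [_root_.MulEquiv.toMonoidHom_eq_coe, _root_.MonoidHom.coe_comp, _root_.MonoidHom.coe_coe, _root_.Function.comp_apply, _root_.MulAut.conj_apply, _root_.map_mul, _root_.map_inv]
          exact h9.trans (congrArg (Subgroup.map f) h8)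
      intro d hd
      exact h6 ⟨d, hd, rfl⟩
    have h6 : V' = X.comap f := le_antisymm h5 hXV'
    rintro _ ⟨⟨s, rfl⟩, hs⟩
    have h7 : s ∈ (normalizer (V : Set G)).comap f := hs
    rw [hnor V hVN] at h7
    have h8 := hV' ((hP V hV).toSylow (by rw [hidx]; exact hi)) (by rw [h6]; exact comap_mono hXV) h7
    rw [h6, ← hnor X hXN] at h8
    exact h8

/-- **Row R1**: groups of Lie type in characteristic `p`, `p ∈ π`, `2 ∉ π`. -/
theorem rowE_own {π : Set ℕ} (h2 : 2 ∉ π) {p : ℕ} (hp : p.Prime) (hpπ : p ∈ π) {S : Type*} [Group S] [Finite S]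
    (hS : IsLieTypeChar p S) : RowE π S := by
  intro hD P₀ hP₀
  have := Fact.mk hp
  have hp2 : p ≠ 2 := by
    rintro rfl
    exact h2 hpπ
  have hsim : IsSimpleGroup S := H400.LieSimple.isSimple_of_lie hS
  have hc := H400.LieLocal.center_eq_bot (H979.LieSplit.hasSplit_of_isLieTypeChar hp hS)
  set f : S →* MulAut S := MulAut.conj with hf'
  have hf : Function.Injective f := by
    rw [injective_iff_map_eq_one]
    intro s hs
    have h3 : s ∈ center S := by
      rw [mem_center_iff]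
      intro g
      have h4 : s * g * s⁻¹ = g := by
        have := DFunLike.congr_fun hs g
        rwa [MulAut.conj_apply, MulAut.one_apply] at this
      calc g * s = s * g * s⁻¹ * s := by rw [h4]
        _ = s * g := by group
    rw [hc] at h3
    exact h3
  have O : OwnData p (inn S) := ownData_of_injective f hf (H565.OddBorel.oddLe_of_lie hp2 hS) (abQ_of_lie hp2 hS)
    (btw_of_lie hp2 hS)
  obtain ⟨P, hP₀P, hP⟩ := Finite.exists_le_maximal (p := IsPiSubgroup π) (a := P₀) hP₀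
  have hD' : ∀ K ≤ inn S, PiN π (Nat.card K) → ∃ H ≤ inn S, K ≤ H ∧ PiN π (Nat.card H) ∧
      PiN' π (H.relIndex (inn S)) := by
    intro K hK hKπ
    have h3 : Nat.card (K.comap f) = Nat.card K := by
      conv_rhs => rw [← map_comap_eq_self (f := f) (H := K) hK]
      exact (card_map_of_injective hf).symm
    obtain ⟨H, hH, hKH⟩ := Dom.pi_le hD (K.comap f) (by rw [h3]; exact hKπ)
    refine ⟨H.map f, map_le_range f H, ?_, ?_, ?_⟩
    · rw [← map_comap_eq_self (f := f) (H := K) hK]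
      exact map_mono hKH
    · rw [card_map_of_injective hf]
      exact hH.1
    · have h4 : (H.map f).relIndex (inn S) = H.index := by
        have h5 := index_comap (H.map f) f
        rw [comap_map_eq_self_of_injective hf] at h5
        exact h5.symm
      rw [h4]
      exact hH.2
  obtain ⟨H, hHN, hHπ, hHi, hPH⟩ := main O hpπ h2 hD' hP
  have h3 : Nat.card (H.comap f) = Nat.card H := by
    conv_rhs => rw [← map_comap_eq_self (f := f) (H := H) hHN]
    exact (card_map_of_injective hf).symm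
  refine ⟨H.comap f, ⟨?_, ?_⟩, ?_⟩
  · have h4 : PiN π (Nat.card (H.comap f)) := by rw [h3]; exact hHπ
    exact h4
  · have h4 : PiN' π (H.comap f).index := by rw [index_comap]; exact hHi
    exact h4
  · intro α hα
    have h4 := hPH (hP₀P hα)
    rw [mem_stab]
    have h5 : ∀ s : S, f (α s) = α * f s * α⁻¹ := by
      intro s
      ext x
      show α s * x * (α s)⁻¹ = α (s * α⁻¹ x * s⁻¹)
      rw [map_mul, map_mul, map_inv, MulAut.apply_inv_self]
    ext x
    constructor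
    · rintro ⟨s, hs, rfl⟩
      show f (α s) ∈ H
      rw [h5]
      exact (mem_normalizer_iff.1 h4 _).1 hs
    · intro hx
      refine ⟨α⁻¹ x, ?_, MulAut.apply_inv_self _ _ _⟩
      show f (α⁻¹ x) ∈ H
      rw [mem_normalizer_iff.1 h4, ← h5, MulAut.apply_inv_self]
      exact hx

end Cfsg.Agent.H537.RV
end
end
end
end
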